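import Cfsg.Agent.H967.Sph.Table

/-!
# The spherical machine for `F₄`: the table of `G / P_0` (helper654, task 838)

`tab hA`: the 24 states and 5 classes of the weight `e_0` for the Cartan matrix of type `F₄`; `sumD`: the operator of the
neighbour relation for the parameters `(x, x, y, y)`.
-/

set_option autoImplicit false
set_option maxHeartbeats 4000000
set_option linter.unusedVariables false
set_option linter.unusedTactic false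
set_option linter.unreachableTactic false

namespace Cfsg.Agent.H654.Two.F4Tab

open Cfsg.Agent.H967.Sph

/-- the Cartan matrix -/
def AA : Fin 4 → Fin 4 → ℤ := ![![2, -1, 0, 0], ![-1, 2, -2, 0], ![0, -1, 2, -1], ![0, 0, -1, 2]]

/-- the states -/
def vecT : Fin 24 → Fin 4 → ℤ := ![![1, 0, 0, 0], ![-1, 1, 0, 0], ![0, -1, 2, 0], ![0, 1, -2, 2], ![1, -1, 0, 2], ![0, 1, 0, -2], ![-1, 0, 0, 2], ![1, -1, 2, -2], ![-1, 0, 2, -2], ![1, 1, -2, 0], ![-1, 2, -2, 0], ![2, -1, 0, 0], ![1, -2, 2, 0], ![-2, 1, 0, 0], ![-1, -1, 2, 0], ![1, 0, -2, 2], ![-1, 1, -2, 2], ![1, 0, 0, -2], ![0, -1, 0, 2], ![-1, 1, 0, -2], ![0, -1, 2, -2], ![0, 1, -2, 0], ![1, -1, 0, 0], ![-1, 0, 0, 0]]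

/-- the transitions -/
def stT : Fin 4 → Fin 24 → Fin 24 := ![![1, 0, 2, 3, 6, 5, 4, 8, 7, 10, 9, 13, 14, 11, 12, 16, 15, 19, 18, 17, 20, 21, 23, 22], ![0, 2, 1, 4, 3, 7, 6, 5, 8, 11, 12, 9, 10, 14, 13, 15, 18, 17, 16, 20, 19, 22, 21, 23], ![0, 1, 3, 2, 4, 5, 6, 9, 10, 7, 8, 11, 15, 13, 16, 12, 14, 17, 18, 19, 21, 20, 22, 23], ![0, 1, 2, 5, 7, 3, 8, 4, 6, 9, 10, 11, 12, 13, 14, 17, 19, 15, 20, 16, 18, 21, 22, 23]]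

/-- the classes -/
def clsT : Fin 24 → Fin 5 := ![0, 1, 1, 1, 1, 1, 2, 1, 2, 1, 2, 1, 2, 3, 3, 2, 3, 2, 3, 3, 3, 3, 3, 4]

/-- the representatives of the classes -/
def crepT : Fin 5 → Fin 24 := ![0, 1, 6, 13, 23]

/-- paths -/
def pathT : Fin 24 → List (Fin 4) := ![[], [0], [0, 1], [0, 1, 2], [0, 1, 2, 1], [0, 1, 2, 3], [0, 1, 2, 1, 0], [0, 1, 2, 1, 3], [0, 1, 2, 1, 0, 3], [0, 1, 2, 1, 3, 2], [0, 1, 2, 1, 0, 3, 2], [0, 1, 2, 1, 3, 2, 1], [0, 1, 2, 1, 0, 3, 2, 1], [0, 1, 2, 1, 3, 2, 1, 0], [0, 1, 2, 1, 0, 3, 2, 1, 0], [0, 1, 2, 1, 0, 3, 2, 1, 2], [0, 1, 2, 1, 0, 3, 2, 1, 0, 2], [0, 1, 2, 1, 0, 3, 2, 1, 2, 3], [0, 1, 2, 1, 0, 3, 2, 1, 0, 2, 1], [0, 1, 2, 1, 0, 3, 2, 1, 0, 2, 3], [0, 1, 2, 1, 0, 3, 2, 1, 0, 2, 1, 3], [0, 1, 2, 1, 0, 3, 2, 1, 0, 2, 1, 3, 2], [0, 1, 2, 1, 0, 3, 2, 1, 0, 2, 1, 3, 2, 1], [0, 1, 2, 1, 0, 3, 2,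 1, 0, 2, 1, 3, 2, 1, 0]]

/-- paths inside the classes -/
def cpathT : Fin 24 → List (Fin 4) := ![[], [], [1], [1, 2], [1, 2, 1], [1, 2, 3], [], [1, 2, 1, 3], [3], [1, 2, 1, 3, 2], [3, 2], [1, 2, 1, 3, 2, 1], [3, 2, 1], [], [1], [3, 2, 1, 2], [1, 2], [3, 2, 1, 2, 3], [1, 2, 1], [1, 2, 3], [1, 2, 1, 3], [1, 2, 1, 3, 2], [1, 2, 1, 3, 2, 1], []]

/-- the words of the neighbours -/
def DD : List (List (Fin 4)) := [[0], [1, 0], [2, 1, 0], [1, 2, 1, 0], [3, 2, 1, 0], [3, 1, 2, 1, 0], [2, 3, 1, 2, 1, 0], [1, 2, 3, 1, 2, 1, 0]]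

theorem vec_st_T : ∀ i a k, vecT (stT i a) k = vecT a k - AA i k * vecT a i := by decide +kernel

variable {A : Fin 4 → Fin 4 → ℤ} (hA : ∀ i k, A i k = AA i k)

/-- **The table.** -/
def tab : Tab A 0 24 5 where
  vec := vecT
  st := stT
  cls := clsT
  o := 0
  vec_o := by decide +kernel
  vec_inj := by decide +kernel
  vec_st i a k := by rw [hA i k]; exact vec_st_T i a k
  path := pathT
  path_spec := by decide +kernel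
  cls_st := by decide +kernel
  crep := crepT
  cpath := cpathT
  cpath_ne := by decide +kernel
  cpath_spec := by decide +kernel

variable (q : Fin 4 → ℕ)

theorem tau_neg {i : Fin 4} {s : Fin 24} (h : vecT s i < 0) (φ : Fin 24 → ℚ) :
    (tab hA).tau q i φ s = φ (stT i s) + ((q i : ℚ) - 1) * φ s := if_pos h

theorem tau_nonneg {i : Fin 4} {s : Fin 24} (h : ¬ vecT s i < 0) (φ : Fin 24 → ℚ) :
    (tab hA).tau q i φ s = (q i : ℚ) * φ (stT i s) := if_neg h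

/-- values -/
def V0 (x y : ℚ) (b : Fin 5 → ℚ) : Fin 24 → ℚ := ![
  b 0,
  b 1,
  b 1,
  b 1,
  b 1,
  b 1,
  b 2,
  b 1,
  b 2,
  b 1,
  b 2,
  b 1,
  b 2,
  b 3,
  b 3,
  b 2,
  b 3,
  b 2,
  b 3,
  b 3,
  b 3,
  b 3,
  b 3,
  b 4]

/-- values -/
def V1 (x y : ℚ) (b : Fin 5 → ℚ) : Fin 24 → ℚ := ![
  (x) * b 1,
  b 0 + (-1 + x) * b 1,
  (x) * b 1,
  (x) * b 1,
  (x) * b 2,
  (x) * b 1,
  b 1 + (-1 + x) * b 2,
  (x) * b 2,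
  b 1 + (-1 + x) * b 2,
  (x) * b 2,
  b 1 + (-1 + x) * b 2,
  (x) * b 3,
  (x) * b 3,
  b 1 + (-1 + x) * b 3,
  b 2 + (-1 + x) * b 3,
  (x) * b 3,
  b 2 + (-1 + x) * b 3,
  (x) * b 3,
  (x) * b 3,
  b 2 + (-1 + x) * b 3,
  (x) * b 3,
  (x) * b 3,
  (x) * b 4,
  b 3 + (-1 + x) * b 4]

/-- values -/
def V2 (x y : ℚ) (b : Fin 5 → ℚ) : Fin 24 → ℚ := ![
  (x^2) * b 1,
  (x^2) * b 1,
  b 0 + (-1 + x^2) * b 1,
  (x^2) * b 2,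
  (x) * b 1 + (-x + x^2) * b 2,
  (x^2) * b 2,
  (x) * b 1 + (-x + x^2) * b 2,
  (x) * b 1 + (-x + x^2) * b 2,
  (x) * b 1 + (-x + x^2) * b 2,
  (x^2) * b 3,
  (x^2) * b 3,
  (x) * b 2 + (-x + x^2) * b 3,
  b 1 + (-1 + x) * b 2 + (-x + x^2) * b 3,
  (x) * b 2 + (-x + x^2) * b 3,
  b 1 + (-1 + x) * b 2 + (-x + x^2) * b 3,
  (x^2) * b 3,
  (x^2) * b 3,
  (x^2) * b 3,
  b 2 + (-1 + x^2) * b 3,
  (x^2) * b 3,
  b 2 + (-1 + x^2) * b 3,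
  (x^2) * b 4,
  (x) * b 3 + (-x + x^2) * b 4,
  (x) * b 3 + (-x + x^2) * b 4]

/-- values -/
def V3 (x y : ℚ) (b : Fin 5 → ℚ) : Fin 24 → ℚ := ![
  (x^2*y) * b 1,
  (x^2*y) * b 1,
  (x^2*y) * b 2,
  b 0 + (-1 + x^2) * b 1 + (-x^2 + x^2*y) * b 2,
  (x*y) * b 1 + (-x*y + x^2*y) * b 2,
  (x^2*y) * b 2,
  (x*y) * b 1 + (-x*y + x^2*y) * b 2,
  (x^2*y) * b 3,
  (x^2*y) * b 3,
  (x) * b 1 + (-x + x^2) * b 2 + (-x^2 + x^2*y) * b 3,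
  (x) * b 1 + (-x + x^2) * b 2 + (-x^2 + x^2*y) * b 3,
  (x*y) * b 2 + (-x*y + x^2*y) * b 3,
  (x^2*y) * b 3,
  (x*y) * b 2 + (-x*y + x^2*y) * b 3,
  (x^2*y) * b 3,
  b 1 + (-1 + x) * b 2 + (-x + x^2*y) * b 3,
  b 1 + (-1 + x) * b 2 + (-x + x^2*y) * b 3,
  (x^2*y) * b 3,
  (y) * b 2 + (-y + x^2*y) * b 3,
  (x^2*y) * b 3,
  (x^2*y) * b 4,
  b 2 + (-1 + x^2) * b 3 + (-x^2 + x^2*y) * b 4,
  (x*y) * b 3 + (-x*y + x^2*y) * b 4,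
  (x*y) * b 3 + (-x*y + x^2*y) * b 4]

/-- values -/
def V4 (x y : ℚ) (b : Fin 5 → ℚ) : Fin 24 → ℚ := ![
  (x^3*y) * b 1,
  (x^3*y) * b 2,
  (x^2*y) * b 1 + (-x^2*y + x^3*y) * b 2,
  (x^2*y) * b 1 + (-x^2*y + x^3*y) * b 2,
  b 0 + (-1 - x*y + x^2 + x^2*y) * b 1 + (x*y - x^2 - x^2*y + x^3*y) * b 2,
  (x^3*y) * b 3,
  (x^2*y) * b 1 + (-x^2*y + x^3*y) * b 2,
  (x^2*y) * b 2 + (-x^2*y + x^3*y) * b 3,
  (x^3*y) * b 3,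
  (x^2*y) * b 2 + (-x^2*y + x^3*y) * b 3,
  (x^3*y) * b 3,
  (x) * b 1 + (-x - x*y + x^2 + x^2*y) * b 2 + (x*y - x^2 - x^2*y + x^3*y) * b 3,
  (x) * b 1 + (-x + x^2) * b 2 + (-x^2 + x^3*y) * b 3,
  (x^3*y) * b 3,
  (x*y) * b 2 + (-x*y + x^3*y) * b 3,
  (x) * b 1 + (-x + x^2) * b 2 + (-x^2 + x^3*y) * b 3,
  (x*y) * b 2 + (-x*y + x^3*y) * b 3,
  (x^3*y) * b 3,
  b 1 + (-1 - y + x + x*y) * b 2 + (y - x - x*y + x^3*y) * b 3,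
  (x^3*y) * b 4,
  (x^2*y) * b 3 + (-x^2*y + x^3*y) * b 4,
  (x^2*y) * b 3 + (-x^2*y + x^3*y) * b 4,
  b 2 + (-1 - x*y + x^2 + x^2*y) * b 3 + (x*y - x^2 - x^2*y + x^3*y) * b 4,
  (x^2*y) * b 3 + (-x^2*y + x^3*y) * b 4]

/-- values -/
def V5 (x y : ℚ) (b : Fin 5 → ℚ) : Fin 24 → ℚ := ![
  (x^2*y^2) * b 1,
  (x^2*y^2) * b 1,
  (x^2*y^2) * b 2,
  (x^2*y^2) * b 2,
  (x^2*y^2) * b 3,
  b 0 + (-1 + x^2) * b 1 + (-x^2 + x^2*y^2) * b 2,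
  (x^2*y^2) * b 3,
  (x*y) * b 1 + (-x*y + x^2*y) * b 2 + (-x^2*y + x^2*y^2) * b 3,
  (x*y) * b 1 + (-x*y + x^2*y) * b 2 + (-x^2*y + x^2*y^2) * b 3,
  (x*y) * b 1 + (-x*y + x^2*y) * b 2 + (-x^2*y + x^2*y^2) * b 3,
  (x*y) * b 1 + (-x*y + x^2*y) * b 2 + (-x^2*y + x^2*y^2) * b 3,
  (x*y^2) * b 2 + (-x*y^2 + x^2*y^2) * b 3,
  (x^2*y^2) * b 3,
  (x*y^2) * b 2 + (-x*y^2 + x^2*y^2) * b 3,
  (x^2*y^2) * b 3,
  (x^2*y^2) * b 3,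
  (x^2*y^2) * b 3,
  b 1 + (-1 + x) * b 2 + (-x + x^2*y^2) * b 3,
  (x^2*y^2) * b 4,
  b 1 + (-1 + x) * b 2 + (-x + x^2*y^2) * b 3,
  (y) * b 2 + (-y + x^2*y) * b 3 + (-x^2*y + x^2*y^2) * b 4,
  (y) * b 2 + (-y + x^2*y) * b 3 + (-x^2*y + x^2*y^2) * b 4,
  (x*y^2) * b 3 + (-x*y^2 + x^2*y^2) * b 4,
  (x*y^2) * b 3 + (-x*y^2 + x^2*y^2) * b 4]

/-- values -/
def V6 (x y : ℚ) (b : Fin 5 → ℚ) : Fin 24 → ℚ := ![
  (x^3*y^2) * b 1,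
  (x^3*y^2) * b 2,
  (x^2*y^2) * b 1 + (-x^2*y^2 + x^3*y^2) * b 2,
  (x^3*y^2) * b 3,
  (x^2*y^2) * b 2 + (-x^2*y^2 + x^3*y^2) * b 3,
  (x^2*y) * b 1 + (-x^2*y + x^3*y) * b 2 + (-x^3*y + x^3*y^2) * b 3,
  (x^3*y^2) * b 3,
  b 0 + (-1 - x*y + x^2 + x^2*y) * b 1 + (x*y - x^2 - 2*x^2*y + x^2*y^2 + x^3*y) * b 2 + (x^2*y - x^2*y^2 - x^3*y + x^3*y^2) * b 3,
  (x^2*y) * b 1 + (-x^2*y + x^3*y) * b 2 + (-x^3*y + x^3*y^2) * b 3,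
  (x^2*y^2) * b 2 + (-x^2*y^2 + x^3*y^2) * b 3,
  (x^3*y^2) * b 3,
  (x*y) * b 1 + (-x*y - x*y^2 + x^2*y + x^2*y^2) * b 2 + (x*y^2 - x^2*y - x^2*y^2 + x^3*y^2) * b 3,
  (x*y) * b 1 + (-x*y + x^2*y) * b 2 + (-x^2*y + x^3*y^2) * b 3,
  (x^3*y^2) * b 3,
  (x*y^2) * b 2 + (-x*y^2 + x^3*y^2) * b 3,
  (x^3*y^2) * b 3,
  (x^3*y^2) * b 4,
  (x) * b 1 + (-x + x^2) * b 2 + (-x^2 + x^3*y^2) * b 3,
  (x^2*y^2) * b 3 + (-x^2*y^2 + x^3*y^2) * b 4,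
  (x*y) * b 2 + (-x*y + x^3*y) * b 3 + (-x^3*y + x^3*y^2) * b 4,
  b 1 + (-1 - y + x + x*y) * b 2 + (y - x - x*y - x^2*y + x^2*y^2 + x^3*y) * b 3 + (x^2*y - x^2*y^2 - x^3*y + x^3*y^2) * b 4,
  (x^2*y^2) * b 3 + (-x^2*y^2 + x^3*y^2) * b 4,
  (y) * b 2 + (-y - x*y^2 + x^2*y + x^2*y^2) * b 3 + (x*y^2 - x^2*y - x^2*y^2 + x^3*y^2) * b 4,
  (x^2*y^2) * b 3 + (-x^2*y^2 + x^3*y^2) * b 4]

/-- values -/
def V7 (x y : ℚ) (b : Fin 5 → ℚ) : Fin 24 → ℚ := ![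
  (x^3*y^3) * b 1,
  (x^3*y^3) * b 2,
  (x^3*y^3) * b 3,
  (x^2*y^2) * b 1 + (-x^2*y^2 + x^3*y^2) * b 2 + (-x^3*y^2 + x^3*y^3) * b 3,
  (x^2*y^3) * b 2 + (-x^2*y^3 + x^3*y^3) * b 3,
  (x^2*y^2) * b 1 + (-x^2*y^2 + x^3*y^2) * b 2 + (-x^3*y^2 + x^3*y^3) * b 3,
  (x^3*y^3) * b 3,
  (x^2*y^3) * b 2 + (-x^2*y^3 + x^3*y^3) * b 3,
  (x^3*y^3) * b 3,
  b 0 + (-1 - x*y + x^2 + x^2*y) * b 1 + (x*y - x^2 - 2*x^2*y + x^3*y + x^2*y^3) * b 2 + (x^2*y - x^3*y - x^2*y^3 + x^3*y^3) * b 3,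
  (x^2*y) * b 1 + (-x^2*y + x^3*y) * b 2 + (-x^3*y + x^3*y^3) * b 3,
  (x*y^2) * b 1 + (-x*y^2 - x*y^3 + x^2*y^2 + x^2*y^3) * b 2 + (x*y^3 - x^2*y^2 - x^2*y^3 + x^3*y^3) * b 3,
  (x^3*y^3) * b 3,
  (x^3*y^3) * b 3,
  (x^3*y^3) * b 4,
  (x*y) * b 1 + (-x*y + x^2*y) * b 2 + (-x^2*y + x^3*y^3) * b 3,
  (x*y^2) * b 2 + (-x*y^2 + x^3*y^2) * b 3 + (-x^3*y^2 + x^3*y^3) * b 4,
  (x*y) * b 1 + (-x*y + x^2*y) * b 2 + (-x^2*y + x^3*y^3) * b 3,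
  (x^2*y^3) * b 3 + (-x^2*y^3 + x^3*y^3) * b 4,
  (x*y^2) * b 2 + (-x*y^2 + x^3*y^2) * b 3 + (-x^3*y^2 + x^3*y^3) * b 4,
  (x^2*y^3) * b 3 + (-x^2*y^3 + x^3*y^3) * b 4,
  b 1 + (-1 - y + x + x*y) * b 2 + (y - x - x*y - x^2*y + x^3*y + x^2*y^3) * b 3 + (x^2*y - x^3*y - x^2*y^3 + x^3*y^3) * b 4,
  (y^2) * b 2 + (-y^2 - x*y^3 + x^2*y^2 + x^2*y^3) * b 3 + (x*y^3 - x^2*y^2 - x^2*y^3 + x^3*y^3) * b 4,
  (x^2*y^3) * b 3 + (-x^2*y^3 + x^3*y^3) * b 4]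

/-- values -/
def V8 (x y : ℚ) (b : Fin 5 → ℚ) : Fin 24 → ℚ := ![
  (x^4*y^3) * b 1,
  (x^4*y^3) * b 3,
  (x^3*y^3) * b 2 + (-x^3*y^3 + x^4*y^3) * b 3,
  (x^3*y^3) * b 2 + (-x^3*y^3 + x^4*y^3) * b 3,
  (x^2*y^2) * b 1 + (-x^2*y^2 - x^2*y^3 + x^3*y^2 + x^3*y^3) * b 2 + (x^2*y^3 - x^3*y^2 - x^3*y^3 + x^4*y^3) * b 3,
  (x^3*y^3) * b 2 + (-x^3*y^3 + x^4*y^3) * b 3,
  (x^4*y^3) * b 3,
  (x^2*y^2) * b 1 + (-x^2*y^2 - x^2*y^3 + x^3*y^2 + x^3*y^3) * b 2 + (x^2*y^3 - x^3*y^2 - x^3*y^3 + x^4*y^3) * b 3,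
  (x^4*y^3) * b 3,
  (x^2*y^2) * b 1 + (-x^2*y^2 - x^2*y^3 + x^3*y^2 + x^3*y^3) * b 2 + (x^2*y^3 - x^3*y^2 - x^3*y^3 + x^4*y^3) * b 3,
  (x^4*y^3) * b 3,
  b 0 + (-1 - x*y + x^2 - x*y^2 + x^2*y + x^2*y^2) * b 1 + (x*y - x^2 + x*y^2 - 2*x^2*y + x*y^3 - 2*x^2*y^2 + x^3*y - x^2*y^3 + x^3*y^2 + x^3*y^3) * b 2 + (x^2*y - x*y^3 + x^2*y^2 - x^3*y + x^2*y^3 - x^3*y^2 - x^3*y^3 + x^4*y^3) * b 3,
  (x^2*y) * b 1 + (-x^2*y + x^3*y) * b 2 + (-x^3*y + x^4*y^3) * b 3,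
  (x^4*y^3) * b 4,
  (x^3*y^3) * b 3 + (-x^3*y^3 + x^4*y^3) * b 4,
  (x^2*y) * b 1 + (-x^2*y + x^3*y) * b 2 + (-x^3*y + x^4*y^3) * b 3,
  (x^3*y^3) * b 3 + (-x^3*y^3 + x^4*y^3) * b 4,
  (x^2*y) * b 1 + (-x^2*y + x^3*y) * b 2 + (-x^3*y + x^4*y^3) * b 3,
  (x*y^2) * b 2 + (-x*y^2 - x^2*y^3 + x^3*y^2 + x^3*y^3) * b 3 + (x^2*y^3 - x^3*y^2 - x^3*y^3 + x^4*y^3) * b 4,
  (x^3*y^3) * b 3 + (-x^3*y^3 + x^4*y^3) * b 4,
  (x*y^2) * b 2 + (-x*y^2 - x^2*y^3 + x^3*y^2 + x^3*y^3) * b 3 + (x^2*y^3 - x^3*y^2 - x^3*y^3 + x^4*y^3) * b 4,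
  (x*y^2) * b 2 + (-x*y^2 - x^2*y^3 + x^3*y^2 + x^3*y^3) * b 3 + (x^2*y^3 - x^3*y^2 - x^3*y^3 + x^4*y^3) * b 4,
  b 1 + (-1 - y + x - y^2 + x*y + x*y^2) * b 2 + (y - x + y^2 - x*y - x*y^2 - x^2*y + x*y^3 - x^2*y^2 + x^3*y - x^2*y^3 + x^3*y^2 + x^3*y^3) * b 3 + (x^2*y - x*y^3 + x^2*y^2 - x^3*y + x^2*y^3 - x^3*y^2 - x^3*y^3 + x^4*y^3) * b 4,
  (x^3*y^3) * b 3 + (-x^3*y^3 + x^4*y^3) * b 4]

variable {q} {x y : ℚ} (h0 : (q 0 : ℚ) = x) (h1 : (q 1 : ℚ) = x) (h2 : (q 2 : ℚ) = y) (h3 : (q 3 : ℚ) = y)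
  (b : Fin 5 → ℚ)

theorem base : (fun u => b (clsT u)) = V0 x y b := by
  funext s
  fin_cases s <;> rfl

include h0 in
theorem step1 : (tab hA).tau q 0 (V0 x y b) = V1 x y b := by
  funext s
  fin_cases s
  · refine (tau_nonneg hA q (show ¬ vecT 0 0 < 0 by decide) _).trans ?_
    show (q 0 : ℚ) * (b 1) = (x) * b 1
    rw [h0]; try ring
  · refine (tau_neg hA q (show vecT 1 0 < 0 by decide) _).trans ?_
    show (b 0) + ((q 0 : ℚ) - 1) * (b 1) = b 0 + (-1 + x) * b 1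
    rw [h0]; try ring
  · refine (tau_nonneg hA q (show ¬ vecT 2 0 < 0 by decide) _).trans ?_
    show (q 0 : ℚ) * (b 1) = (x) * b 1
    rw [h0]; try ring
  · refine (tau_nonneg hA q (show ¬ vecT 3 0 < 0 by decide) _).trans ?_
    show (q 0 : ℚ) * (b 1) = (x) * b 1
    rw [h0]; try ring
  · refine (tau_nonneg hA q (show ¬ vecT 4 0 < 0 by decide) _).trans ?_
    show (q 0 : ℚ) * (b 2) = (x) * b 2
    rw [h0]; try ring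
  · refine (tau_nonneg hA q (show ¬ vecT 5 0 < 0 by decide) _).trans ?_
    show (q 0 : ℚ) * (b 1) = (x) * b 1
    rw [h0]; try ring
  · refine (tau_neg hA q (show vecT 6 0 < 0 by decide) _).trans ?_
    show (b 1) + ((q 0 : ℚ) - 1) * (b 2) = b 1 + (-1 + x) * b 2
    rw [h0]; try ring
  · refine (tau_nonneg hA q (show ¬ vecT 7 0 < 0 by decide) _).trans ?_
    show (q 0 : ℚ) * (b 2) = (x) * b 2
    rw [h0]; try ring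
  · refine (tau_neg hA q (show vecT 8 0 < 0 by decide) _).trans ?_
    show (b 1) + ((q 0 : ℚ) - 1) * (b 2) = b 1 + (-1 + x) * b 2
    rw [h0]; try ring
  · refine (tau_nonneg hA q (show ¬ vecT 9 0 < 0 by decide) _).trans ?_
    show (q 0 : ℚ) * (b 2) = (x) * b 2
    rw [h0]; try ring
  · refine (tau_neg hA q (show vecT 10 0 < 0 by decide) _).trans ?_
    show (b 1) + ((q 0 : ℚ) - 1) * (b 2) = b 1 + (-1 + x) * b 2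
    rw [h0]; try ring
  · refine (tau_nonneg hA q (show ¬ vecT 11 0 < 0 by decide) _).trans ?_
    show (q 0 : ℚ) * (b 3) = (x) * b 3
    rw [h0]; try ring
  · refine (tau_nonneg hA q (show ¬ vecT 12 0 < 0 by decide) _).trans ?_
    show (q 0 : ℚ) * (b 3) = (x) * b 3
    rw [h0]; try ring
  · refine (tau_neg hA q (show vecT 13 0 < 0 by decide) _).trans ?_
    show (b 1) + ((q 0 : ℚ) - 1) * (b 3) = b 1 + (-1 + x) * b 3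
    rw [h0]; try ring
  · refine (tau_neg hA q (show vecT 14 0 < 0 by decide) _).trans ?_
    show (b 2) + ((q 0 : ℚ) - 1) * (b 3) = b 2 + (-1 + x) * b 3
    rw [h0]; try ring
  · refine (tau_nonneg hA q (show ¬ vecT 15 0 < 0 by decide) _).trans ?_
    show (q 0 : ℚ) * (b 3) = (x) * b 3
    rw [h0]; try ring
  · refine (tau_neg hA q (show vecT 16 0 < 0 by decide) _).trans ?_
    show (b 2) + ((q 0 : ℚ) - 1) * (b 3) = b 2 + (-1 + x) * b 3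
    rw [h0]; try ring
  · refine (tau_nonneg hA q (show ¬ vecT 17 0 < 0 by decide) _).trans ?_
    show (q 0 : ℚ) * (b 3) = (x) * b 3
    rw [h0]; try ring
  · refine (tau_nonneg hA q (show ¬ vecT 18 0 < 0 by decide) _).trans ?_
    show (q 0 : ℚ) * (b 3) = (x) * b 3
    rw [h0]; try ring
  · refine (tau_neg hA q (show vecT 19 0 < 0 by decide) _).trans ?_
    show (b 2) + ((q 0 : ℚ) - 1) * (b 3) = b 2 + (-1 + x) * b 3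
    rw [h0]; try ring
  · refine (tau_nonneg hA q (show ¬ vecT 20 0 < 0 by decide) _).trans ?_
    show (q 0 : ℚ) * (b 3) = (x) * b 3
    rw [h0]; try ring
  · refine (tau_nonneg hA q (show ¬ vecT 21 0 < 0 by decide) _).trans ?_
    show (q 0 : ℚ) * (b 3) = (x) * b 3
    rw [h0]; try ring
  · refine (tau_nonneg hA q (show ¬ vecT 22 0 < 0 by decide) _).trans ?_
    show (q 0 : ℚ) * (b 4) = (x) * b 4
    rw [h0]; try ring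
  · refine (tau_neg hA q (show vecT 23 0 < 0 by decide) _).trans ?_
    show (b 3) + ((q 0 : ℚ) - 1) * (b 4) = b 3 + (-1 + x) * b 4
    rw [h0]; try ring

include h1 in
theorem step2 : (tab hA).tau q 1 (V1 x y b) = V2 x y b := by
  funext s
  fin_cases s
  · refine (tau_nonneg hA q (show ¬ vecT 0 1 < 0 by decide) _).trans ?_
    show (q 1 : ℚ) * ((x) * b 1) = (x^2) * b 1
    rw [h1]; try ring
  · refine (tau_nonneg hA q (show ¬ vecT 1 1 < 0 by decide) _).trans ?_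
    show (q 1 : ℚ) * ((x) * b 1) = (x^2) * b 1
    rw [h1]; try ring
  · refine (tau_neg hA q (show vecT 2 1 < 0 by decide) _).trans ?_
    show (b 0 + (-1 + x) * b 1) + ((q 1 : ℚ) - 1) * ((x) * b 1) = b 0 + (-1 + x^2) * b 1
    rw [h1]; try ring
  · refine (tau_nonneg hA q (show ¬ vecT 3 1 < 0 by decide) _).trans ?_
    show (q 1 : ℚ) * ((x) * b 2) = (x^2) * b 2
    rw [h1]; try ring
  · refine (tau_neg hA q (show vecT 4 1 < 0 by decide) _).trans ?_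
    show ((x) * b 1) + ((q 1 : ℚ) - 1) * ((x) * b 2) = (x) * b 1 + (-x + x^2) * b 2
    rw [h1]; try ring
  · refine (tau_nonneg hA q (show ¬ vecT 5 1 < 0 by decide) _).trans ?_
    show (q 1 : ℚ) * ((x) * b 2) = (x^2) * b 2
    rw [h1]; try ring
  · refine (tau_nonneg hA q (show ¬ vecT 6 1 < 0 by decide) _).trans ?_
    show (q 1 : ℚ) * (b 1 + (-1 + x) * b 2) = (x) * b 1 + (-x + x^2) * b 2
    rw [h1]; try ring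
  · refine (tau_neg hA q (show vecT 7 1 < 0 by decide) _).trans ?_
    show ((x) * b 1) + ((q 1 : ℚ) - 1) * ((x) * b 2) = (x) * b 1 + (-x + x^2) * b 2
    rw [h1]; try ring
  · refine (tau_nonneg hA q (show ¬ vecT 8 1 < 0 by decide) _).trans ?_
    show (q 1 : ℚ) * (b 1 + (-1 + x) * b 2) = (x) * b 1 + (-x + x^2) * b 2
    rw [h1]; try ring
  · refine (tau_nonneg hA q (show ¬ vecT 9 1 < 0 by decide) _).trans ?_
    show (q 1 : ℚ) * ((x) * b 3) = (x^2) * b 3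
    rw [h1]; try ring
  · refine (tau_nonneg hA q (show ¬ vecT 10 1 < 0 by decide) _).trans ?_
    show (q 1 : ℚ) * ((x) * b 3) = (x^2) * b 3
    rw [h1]; try ring
  · refine (tau_neg hA q (show vecT 11 1 < 0 by decide) _).trans ?_
    show ((x) * b 2) + ((q 1 : ℚ) - 1) * ((x) * b 3) = (x) * b 2 + (-x + x^2) * b 3
    rw [h1]; try ring
  · refine (tau_neg hA q (show vecT 12 1 < 0 by decide) _).trans ?_
    show (b 1 + (-1 + x) * b 2) + ((q 1 : ℚ) - 1) * ((x) * b 3) = b 1 + (-1 + x) * b 2 + (-x + x^2) * b 3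
    rw [h1]; try ring
  · refine (tau_nonneg hA q (show ¬ vecT 13 1 < 0 by decide) _).trans ?_
    show (q 1 : ℚ) * (b 2 + (-1 + x) * b 3) = (x) * b 2 + (-x + x^2) * b 3
    rw [h1]; try ring
  · refine (tau_neg hA q (show vecT 14 1 < 0 by decide) _).trans ?_
    show (b 1 + (-1 + x) * b 3) + ((q 1 : ℚ) - 1) * (b 2 + (-1 + x) * b 3) = b 1 + (-1 + x) * b 2 + (-x + x^2) * b 3
    rw [h1]; try ring
  · refine (tau_nonneg hA q (show ¬ vecT 15 1 < 0 by decide) _).trans ?_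
    show (q 1 : ℚ) * ((x) * b 3) = (x^2) * b 3
    rw [h1]; try ring
  · refine (tau_nonneg hA q (show ¬ vecT 16 1 < 0 by decide) _).trans ?_
    show (q 1 : ℚ) * ((x) * b 3) = (x^2) * b 3
    rw [h1]; try ring
  · refine (tau_nonneg hA q (show ¬ vecT 17 1 < 0 by decide) _).trans ?_
    show (q 1 : ℚ) * ((x) * b 3) = (x^2) * b 3
    rw [h1]; try ring
  · refine (tau_neg hA q (show vecT 18 1 < 0 by decide) _).trans ?_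
    show (b 2 + (-1 + x) * b 3) + ((q 1 : ℚ) - 1) * ((x) * b 3) = b 2 + (-1 + x^2) * b 3
    rw [h1]; try ring
  · refine (tau_nonneg hA q (show ¬ vecT 19 1 < 0 by decide) _).trans ?_
    show (q 1 : ℚ) * ((x) * b 3) = (x^2) * b 3
    rw [h1]; try ring
  · refine (tau_neg hA q (show vecT 20 1 < 0 by decide) _).trans ?_
    show (b 2 + (-1 + x) * b 3) + ((q 1 : ℚ) - 1) * ((x) * b 3) = b 2 + (-1 + x^2) * b 3
    rw [h1]; try ring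
  · refine (tau_nonneg hA q (show ¬ vecT 21 1 < 0 by decide) _).trans ?_
    show (q 1 : ℚ) * ((x) * b 4) = (x^2) * b 4
    rw [h1]; try ring
  · refine (tau_neg hA q (show vecT 22 1 < 0 by decide) _).trans ?_
    show ((x) * b 3) + ((q 1 : ℚ) - 1) * ((x) * b 4) = (x) * b 3 + (-x + x^2) * b 4
    rw [h1]; try ring
  · refine (tau_nonneg hA q (show ¬ vecT 23 1 < 0 by decide) _).trans ?_
    show (q 1 : ℚ) * (b 3 + (-1 + x) * b 4) = (x) * b 3 + (-x + x^2) * b 4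
    rw [h1]; try ring

include h2 in
theorem step3 : (tab hA).tau q 2 (V2 x y b) = V3 x y b := by
  funext s
  fin_cases s
  · refine (tau_nonneg hA q (show ¬ vecT 0 2 < 0 by decide) _).trans ?_
    show (q 2 : ℚ) * ((x^2) * b 1) = (x^2*y) * b 1
    rw [h2]; try ring
  · refine (tau_nonneg hA q (show ¬ vecT 1 2 < 0 by decide) _).trans ?_
    show (q 2 : ℚ) * ((x^2) * b 1) = (x^2*y) * b 1
    rw [h2]; try ring
  · refine (tau_nonneg hA q (show ¬ vecT 2 2 < 0 by decide) _).trans ?_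
    show (q 2 : ℚ) * ((x^2) * b 2) = (x^2*y) * b 2
    rw [h2]; try ring
  · refine (tau_neg hA q (show vecT 3 2 < 0 by decide) _).trans ?_
    show (b 0 + (-1 + x^2) * b 1) + ((q 2 : ℚ) - 1) * ((x^2) * b 2) = b 0 + (-1 + x^2) * b 1 + (-x^2 + x^2*y) * b 2
    rw [h2]; try ring
  · refine (tau_nonneg hA q (show ¬ vecT 4 2 < 0 by decide) _).trans ?_
    show (q 2 : ℚ) * ((x) * b 1 + (-x + x^2) * b 2) = (x*y) * b 1 + (-x*y + x^2*y) * b 2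
    rw [h2]; try ring
  · refine (tau_nonneg hA q (show ¬ vecT 5 2 < 0 by decide) _).trans ?_
    show (q 2 : ℚ) * ((x^2) * b 2) = (x^2*y) * b 2
    rw [h2]; try ring
  · refine (tau_nonneg hA q (show ¬ vecT 6 2 < 0 by decide) _).trans ?_
    show (q 2 : ℚ) * ((x) * b 1 + (-x + x^2) * b 2) = (x*y) * b 1 + (-x*y + x^2*y) * b 2
    rw [h2]; try ring
  · refine (tau_nonneg hA q (show ¬ vecT 7 2 < 0 by decide) _).trans ?_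
    show (q 2 : ℚ) * ((x^2) * b 3) = (x^2*y) * b 3
    rw [h2]; try ring
  · refine (tau_nonneg hA q (show ¬ vecT 8 2 < 0 by decide) _).trans ?_
    show (q 2 : ℚ) * ((x^2) * b 3) = (x^2*y) * b 3
    rw [h2]; try ring
  · refine (tau_neg hA q (show vecT 9 2 < 0 by decide) _).trans ?_
    show ((x) * b 1 + (-x + x^2) * b 2) + ((q 2 : ℚ) - 1) * ((x^2) * b 3) = (x) * b 1 + (-x + x^2) * b 2 + (-x^2 + x^2*y) * b 3
    rw [h2]; try ring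
  · refine (tau_neg hA q (show vecT 10 2 < 0 by decide) _).trans ?_
    show ((x) * b 1 + (-x + x^2) * b 2) + ((q 2 : ℚ) - 1) * ((x^2) * b 3) = (x) * b 1 + (-x + x^2) * b 2 + (-x^2 + x^2*y) * b 3
    rw [h2]; try ring
  · refine (tau_nonneg hA q (show ¬ vecT 11 2 < 0 by decide) _).trans ?_
    show (q 2 : ℚ) * ((x) * b 2 + (-x + x^2) * b 3) = (x*y) * b 2 + (-x*y + x^2*y) * b 3
    rw [h2]; try ring
  · refine (tau_nonneg hA q (show ¬ vecT 12 2 < 0 by decide) _).trans ?_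
    show (q 2 : ℚ) * ((x^2) * b 3) = (x^2*y) * b 3
    rw [h2]; try ring
  · refine (tau_nonneg hA q (show ¬ vecT 13 2 < 0 by decide) _).trans ?_
    show (q 2 : ℚ) * ((x) * b 2 + (-x + x^2) * b 3) = (x*y) * b 2 + (-x*y + x^2*y) * b 3
    rw [h2]; try ring
  · refine (tau_nonneg hA q (show ¬ vecT 14 2 < 0 by decide) _).trans ?_
    show (q 2 : ℚ) * ((x^2) * b 3) = (x^2*y) * b 3
    rw [h2]; try ring
  · refine (tau_neg hA q (show vecT 15 2 < 0 by decide) _).trans ?_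
    show (b 1 + (-1 + x) * b 2 + (-x + x^2) * b 3) + ((q 2 : ℚ) - 1) * ((x^2) * b 3) = b 1 + (-1 + x) * b 2 + (-x + x^2*y) * b 3
    rw [h2]; try ring
  · refine (tau_neg hA q (show vecT 16 2 < 0 by decide) _).trans ?_
    show (b 1 + (-1 + x) * b 2 + (-x + x^2) * b 3) + ((q 2 : ℚ) - 1) * ((x^2) * b 3) = b 1 + (-1 + x) * b 2 + (-x + x^2*y) * b 3
    rw [h2]; try ring
  · refine (tau_nonneg hA q (show ¬ vecT 17 2 < 0 by decide) _).trans ?_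
    show (q 2 : ℚ) * ((x^2) * b 3) = (x^2*y) * b 3
    rw [h2]; try ring
  · refine (tau_nonneg hA q (show ¬ vecT 18 2 < 0 by decide) _).trans ?_
    show (q 2 : ℚ) * (b 2 + (-1 + x^2) * b 3) = (y) * b 2 + (-y + x^2*y) * b 3
    rw [h2]; try ring
  · refine (tau_nonneg hA q (show ¬ vecT 19 2 < 0 by decide) _).trans ?_
    show (q 2 : ℚ) * ((x^2) * b 3) = (x^2*y) * b 3
    rw [h2]; try ring
  · refine (tau_nonneg hA q (show ¬ vecT 20 2 < 0 by decide) _).trans ?_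
    show (q 2 : ℚ) * ((x^2) * b 4) = (x^2*y) * b 4
    rw [h2]; try ring
  · refine (tau_neg hA q (show vecT 21 2 < 0 by decide) _).trans ?_
    show (b 2 + (-1 + x^2) * b 3) + ((q 2 : ℚ) - 1) * ((x^2) * b 4) = b 2 + (-1 + x^2) * b 3 + (-x^2 + x^2*y) * b 4
    rw [h2]; try ring
  · refine (tau_nonneg hA q (show ¬ vecT 22 2 < 0 by decide) _).trans ?_
    show (q 2 : ℚ) * ((x) * b 3 + (-x + x^2) * b 4) = (x*y) * b 3 + (-x*y + x^2*y) * b 4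
    rw [h2]; try ring
  · refine (tau_nonneg hA q (show ¬ vecT 23 2 < 0 by decide) _).trans ?_
    show (q 2 : ℚ) * ((x) * b 3 + (-x + x^2) * b 4) = (x*y) * b 3 + (-x*y + x^2*y) * b 4
    rw [h2]; try ring

include h1 in
theorem step4 : (tab hA).tau q 1 (V3 x y b) = V4 x y b := by
  funext s
  fin_cases s
  · refine (tau_nonneg hA q (show ¬ vecT 0 1 < 0 by decide) _).trans ?_
    show (q 1 : ℚ) * ((x^2*y) * b 1) = (x^3*y) * b 1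
    rw [h1]; try ring
  · refine (tau_nonneg hA q (show ¬ vecT 1 1 < 0 by decide) _).trans ?_
    show (q 1 : ℚ) * ((x^2*y) * b 2) = (x^3*y) * b 2
    rw [h1]; try ring
  · refine (tau_neg hA q (show vecT 2 1 < 0 by decide) _).trans ?_
    show ((x^2*y) * b 1) + ((q 1 : ℚ) - 1) * ((x^2*y) * b 2) = (x^2*y) * b 1 + (-x^2*y + x^3*y) * b 2
    rw [h1]; try ring
  · refine (tau_nonneg hA q (show ¬ vecT 3 1 < 0 by decide) _).trans ?_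
    show (q 1 : ℚ) * ((x*y) * b 1 + (-x*y + x^2*y) * b 2) = (x^2*y) * b 1 + (-x^2*y + x^3*y) * b 2
    rw [h1]; try ring
  · refine (tau_neg hA q (show vecT 4 1 < 0 by decide) _).trans ?_
    show (b 0 + (-1 + x^2) * b 1 + (-x^2 + x^2*y) * b 2) + ((q 1 : ℚ) - 1) * ((x*y) * b 1 + (-x*y + x^2*y) * b 2) = b 0 + (-1 - x*y + x^2 + x^2*y) * b 1 + (x*y - x^2 - x^2*y + x^3*y) * b 2
    rw [h1]; try ring
  · refine (tau_nonneg hA q (show ¬ vecT 5 1 < 0 by decide) _).trans ?_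
    show (q 1 : ℚ) * ((x^2*y) * b 3) = (x^3*y) * b 3
    rw [h1]; try ring
  · refine (tau_nonneg hA q (show ¬ vecT 6 1 < 0 by decide) _).trans ?_
    show (q 1 : ℚ) * ((x*y) * b 1 + (-x*y + x^2*y) * b 2) = (x^2*y) * b 1 + (-x^2*y + x^3*y) * b 2
    rw [h1]; try ring
  · refine (tau_neg hA q (show vecT 7 1 < 0 by decide) _).trans ?_
    show ((x^2*y) * b 2) + ((q 1 : ℚ) - 1) * ((x^2*y) * b 3) = (x^2*y) * b 2 + (-x^2*y + x^3*y) * b 3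
    rw [h1]; try ring
  · refine (tau_nonneg hA q (show ¬ vecT 8 1 < 0 by decide) _).trans ?_
    show (q 1 : ℚ) * ((x^2*y) * b 3) = (x^3*y) * b 3
    rw [h1]; try ring
  · refine (tau_nonneg hA q (show ¬ vecT 9 1 < 0 by decide) _).trans ?_
    show (q 1 : ℚ) * ((x*y) * b 2 + (-x*y + x^2*y) * b 3) = (x^2*y) * b 2 + (-x^2*y + x^3*y) * b 3
    rw [h1]; try ring
  · refine (tau_nonneg hA q (show ¬ vecT 10 1 < 0 by decide) _).trans ?_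
    show (q 1 : ℚ) * ((x^2*y) * b 3) = (x^3*y) * b 3
    rw [h1]; try ring
  · refine (tau_neg hA q (show vecT 11 1 < 0 by decide) _).trans ?_
    show ((x) * b 1 + (-x + x^2) * b 2 + (-x^2 + x^2*y) * b 3) + ((q 1 : ℚ) - 1) * ((x*y) * b 2 + (-x*y + x^2*y) * b 3) = (x) * b 1 + (-x - x*y + x^2 + x^2*y) * b 2 + (x*y - x^2 - x^2*y + x^3*y) * b 3
    rw [h1]; try ring
  · refine (tau_neg hA q (show vecT 12 1 < 0 by decide) _).trans ?_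
    show ((x) * b 1 + (-x + x^2) * b 2 + (-x^2 + x^2*y) * b 3) + ((q 1 : ℚ) - 1) * ((x^2*y) * b 3) = (x) * b 1 + (-x + x^2) * b 2 + (-x^2 + x^3*y) * b 3
    rw [h1]; try ring
  · refine (tau_nonneg hA q (show ¬ vecT 13 1 < 0 by decide) _).trans ?_
    show (q 1 : ℚ) * ((x^2*y) * b 3) = (x^3*y) * b 3
    rw [h1]; try ring
  · refine (tau_neg hA q (show vecT 14 1 < 0 by decide) _).trans ?_
    show ((x*y) * b 2 + (-x*y + x^2*y) * b 3) + ((q 1 : ℚ) - 1) * ((x^2*y) * b 3) = (x*y) * b 2 + (-x*y + x^3*y) * b 3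
    rw [h1]; try ring
  · refine (tau_nonneg hA q (show ¬ vecT 15 1 < 0 by decide) _).trans ?_
    show (q 1 : ℚ) * (b 1 + (-1 + x) * b 2 + (-x + x^2*y) * b 3) = (x) * b 1 + (-x + x^2) * b 2 + (-x^2 + x^3*y) * b 3
    rw [h1]; try ring
  · refine (tau_nonneg hA q (show ¬ vecT 16 1 < 0 by decide) _).trans ?_
    show (q 1 : ℚ) * ((y) * b 2 + (-y + x^2*y) * b 3) = (x*y) * b 2 + (-x*y + x^3*y) * b 3
    rw [h1]; try ring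
  · refine (tau_nonneg hA q (show ¬ vecT 17 1 < 0 by decide) _).trans ?_
    show (q 1 : ℚ) * ((x^2*y) * b 3) = (x^3*y) * b 3
    rw [h1]; try ring
  · refine (tau_neg hA q (show vecT 18 1 < 0 by decide) _).trans ?_
    show (b 1 + (-1 + x) * b 2 + (-x + x^2*y) * b 3) + ((q 1 : ℚ) - 1) * ((y) * b 2 + (-y + x^2*y) * b 3) = b 1 + (-1 - y + x + x*y) * b 2 + (y - x - x*y + x^3*y) * b 3
    rw [h1]; try ring
  · refine (tau_nonneg hA q (show ¬ vecT 19 1 < 0 by decide) _).trans ?_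
    show (q 1 : ℚ) * ((x^2*y) * b 4) = (x^3*y) * b 4
    rw [h1]; try ring
  · refine (tau_neg hA q (show vecT 20 1 < 0 by decide) _).trans ?_
    show ((x^2*y) * b 3) + ((q 1 : ℚ) - 1) * ((x^2*y) * b 4) = (x^2*y) * b 3 + (-x^2*y + x^3*y) * b 4
    rw [h1]; try ring
  · refine (tau_nonneg hA q (show ¬ vecT 21 1 < 0 by decide) _).trans ?_
    show (q 1 : ℚ) * ((x*y) * b 3 + (-x*y + x^2*y) * b 4) = (x^2*y) * b 3 + (-x^2*y + x^3*y) * b 4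
    rw [h1]; try ring
  · refine (tau_neg hA q (show vecT 22 1 < 0 by decide) _).trans ?_
    show (b 2 + (-1 + x^2) * b 3 + (-x^2 + x^2*y) * b 4) + ((q 1 : ℚ) - 1) * ((x*y) * b 3 + (-x*y + x^2*y) * b 4) = b 2 + (-1 - x*y + x^2 + x^2*y) * b 3 + (x*y - x^2 - x^2*y + x^3*y) * b 4
    rw [h1]; try ring
  · refine (tau_nonneg hA q (show ¬ vecT 23 1 < 0 by decide) _).trans ?_
    show (q 1 : ℚ) * ((x*y) * b 3 + (-x*y + x^2*y) * b 4) = (x^2*y) * b 3 + (-x^2*y + x^3*y) * b 4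
    rw [h1]; try ring

include h3 in
theorem step5 : (tab hA).tau q 3 (V3 x y b) = V5 x y b := by
  funext s
  fin_cases s
  · refine (tau_nonneg hA q (show ¬ vecT 0 3 < 0 by decide) _).trans ?_
    show (q 3 : ℚ) * ((x^2*y) * b 1) = (x^2*y^2) * b 1
    rw [h3]; try ring
  · refine (tau_nonneg hA q (show ¬ vecT 1 3 < 0 by decide) _).trans ?_
    show (q 3 : ℚ) * ((x^2*y) * b 1) = (x^2*y^2) * b 1
    rw [h3]; try ring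
  · refine (tau_nonneg hA q (show ¬ vecT 2 3 < 0 by decide) _).trans ?_
    show (q 3 : ℚ) * ((x^2*y) * b 2) = (x^2*y^2) * b 2
    rw [h3]; try ring
  · refine (tau_nonneg hA q (show ¬ vecT 3 3 < 0 by decide) _).trans ?_
    show (q 3 : ℚ) * ((x^2*y) * b 2) = (x^2*y^2) * b 2
    rw [h3]; try ring
  · refine (tau_nonneg hA q (show ¬ vecT 4 3 < 0 by decide) _).trans ?_
    show (q 3 : ℚ) * ((x^2*y) * b 3) = (x^2*y^2) * b 3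
    rw [h3]; try ring
  · refine (tau_neg hA q (show vecT 5 3 < 0 by decide) _).trans ?_
    show (b 0 + (-1 + x^2) * b 1 + (-x^2 + x^2*y) * b 2) + ((q 3 : ℚ) - 1) * ((x^2*y) * b 2) = b 0 + (-1 + x^2) * b 1 + (-x^2 + x^2*y^2) * b 2
    rw [h3]; try ring
  · refine (tau_nonneg hA q (show ¬ vecT 6 3 < 0 by decide) _).trans ?_
    show (q 3 : ℚ) * ((x^2*y) * b 3) = (x^2*y^2) * b 3
    rw [h3]; try ring
  · refine (tau_neg hA q (show vecT 7 3 < 0 by decide) _).trans ?_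
    show ((x*y) * b 1 + (-x*y + x^2*y) * b 2) + ((q 3 : ℚ) - 1) * ((x^2*y) * b 3) = (x*y) * b 1 + (-x*y + x^2*y) * b 2 + (-x^2*y + x^2*y^2) * b 3
    rw [h3]; try ring
  · refine (tau_neg hA q (show vecT 8 3 < 0 by decide) _).trans ?_
    show ((x*y) * b 1 + (-x*y + x^2*y) * b 2) + ((q 3 : ℚ) - 1) * ((x^2*y) * b 3) = (x*y) * b 1 + (-x*y + x^2*y) * b 2 + (-x^2*y + x^2*y^2) * b 3
    rw [h3]; try ring
  · refine (tau_nonneg hA q (show ¬ vecT 9 3 < 0 by decide) _).trans ?_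
    show (q 3 : ℚ) * ((x) * b 1 + (-x + x^2) * b 2 + (-x^2 + x^2*y) * b 3) = (x*y) * b 1 + (-x*y + x^2*y) * b 2 + (-x^2*y + x^2*y^2) * b 3
    rw [h3]; try ring
  · refine (tau_nonneg hA q (show ¬ vecT 10 3 < 0 by decide) _).trans ?_
    show (q 3 : ℚ) * ((x) * b 1 + (-x + x^2) * b 2 + (-x^2 + x^2*y) * b 3) = (x*y) * b 1 + (-x*y + x^2*y) * b 2 + (-x^2*y + x^2*y^2) * b 3
    rw [h3]; try ring
  · refine (tau_nonneg hA q (show ¬ vecT 11 3 < 0 by decide) _).trans ?_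
    show (q 3 : ℚ) * ((x*y) * b 2 + (-x*y + x^2*y) * b 3) = (x*y^2) * b 2 + (-x*y^2 + x^2*y^2) * b 3
    rw [h3]; try ring
  · refine (tau_nonneg hA q (show ¬ vecT 12 3 < 0 by decide) _).trans ?_
    show (q 3 : ℚ) * ((x^2*y) * b 3) = (x^2*y^2) * b 3
    rw [h3]; try ring
  · refine (tau_nonneg hA q (show ¬ vecT 13 3 < 0 by decide) _).trans ?_
    show (q 3 : ℚ) * ((x*y) * b 2 + (-x*y + x^2*y) * b 3) = (x*y^2) * b 2 + (-x*y^2 + x^2*y^2) * b 3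
    rw [h3]; try ring
  · refine (tau_nonneg hA q (show ¬ vecT 14 3 < 0 by decide) _).trans ?_
    show (q 3 : ℚ) * ((x^2*y) * b 3) = (x^2*y^2) * b 3
    rw [h3]; try ring
  · refine (tau_nonneg hA q (show ¬ vecT 15 3 < 0 by decide) _).trans ?_
    show (q 3 : ℚ) * ((x^2*y) * b 3) = (x^2*y^2) * b 3
    rw [h3]; try ring
  · refine (tau_nonneg hA q (show ¬ vecT 16 3 < 0 by decide) _).trans ?_
    show (q 3 : ℚ) * ((x^2*y) * b 3) = (x^2*y^2) * b 3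
    rw [h3]; try ring
  · refine (tau_neg hA q (show vecT 17 3 < 0 by decide) _).trans ?_
    show (b 1 + (-1 + x) * b 2 + (-x + x^2*y) * b 3) + ((q 3 : ℚ) - 1) * ((x^2*y) * b 3) = b 1 + (-1 + x) * b 2 + (-x + x^2*y^2) * b 3
    rw [h3]; try ring
  · refine (tau_nonneg hA q (show ¬ vecT 18 3 < 0 by decide) _).trans ?_
    show (q 3 : ℚ) * ((x^2*y) * b 4) = (x^2*y^2) * b 4
    rw [h3]; try ring
  · refine (tau_neg hA q (show vecT 19 3 < 0 by decide) _).trans ?_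
    show (b 1 + (-1 + x) * b 2 + (-x + x^2*y) * b 3) + ((q 3 : ℚ) - 1) * ((x^2*y) * b 3) = b 1 + (-1 + x) * b 2 + (-x + x^2*y^2) * b 3
    rw [h3]; try ring
  · refine (tau_neg hA q (show vecT 20 3 < 0 by decide) _).trans ?_
    show ((y) * b 2 + (-y + x^2*y) * b 3) + ((q 3 : ℚ) - 1) * ((x^2*y) * b 4) = (y) * b 2 + (-y + x^2*y) * b 3 + (-x^2*y + x^2*y^2) * b 4
    rw [h3]; try ring
  · refine (tau_nonneg hA q (show ¬ vecT 21 3 < 0 by decide) _).trans ?_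
    show (q 3 : ℚ) * (b 2 + (-1 + x^2) * b 3 + (-x^2 + x^2*y) * b 4) = (y) * b 2 + (-y + x^2*y) * b 3 + (-x^2*y + x^2*y^2) * b 4
    rw [h3]; try ring
  · refine (tau_nonneg hA q (show ¬ vecT 22 3 < 0 by decide) _).trans ?_
    show (q 3 : ℚ) * ((x*y) * b 3 + (-x*y + x^2*y) * b 4) = (x*y^2) * b 3 + (-x*y^2 + x^2*y^2) * b 4
    rw [h3]; try ring
  · refine (tau_nonneg hA q (show ¬ vecT 23 3 < 0 by decide) _).trans ?_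
    show (q 3 : ℚ) * ((x*y) * b 3 + (-x*y + x^2*y) * b 4) = (x*y^2) * b 3 + (-x*y^2 + x^2*y^2) * b 4
    rw [h3]; try ring

include h3 in
theorem step6 : (tab hA).tau q 3 (V4 x y b) = V6 x y b := by
  funext s
  fin_cases s
  · refine (tau_nonneg hA q (show ¬ vecT 0 3 < 0 by decide) _).trans ?_
    show (q 3 : ℚ) * ((x^3*y) * b 1) = (x^3*y^2) * b 1
    rw [h3]; try ring
  · refine (tau_nonneg hA q (show ¬ vecT 1 3 < 0 by decide) _).trans ?_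
    show (q 3 : ℚ) * ((x^3*y) * b 2) = (x^3*y^2) * b 2
    rw [h3]; try ring
  · refine (tau_nonneg hA q (show ¬ vecT 2 3 < 0 by decide) _).trans ?_
    show (q 3 : ℚ) * ((x^2*y) * b 1 + (-x^2*y + x^3*y) * b 2) = (x^2*y^2) * b 1 + (-x^2*y^2 + x^3*y^2) * b 2
    rw [h3]; try ring
  · refine (tau_nonneg hA q (show ¬ vecT 3 3 < 0 by decide) _).trans ?_
    show (q 3 : ℚ) * ((x^3*y) * b 3) = (x^3*y^2) * b 3
    rw [h3]; try ring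
  · refine (tau_nonneg hA q (show ¬ vecT 4 3 < 0 by decide) _).trans ?_
    show (q 3 : ℚ) * ((x^2*y) * b 2 + (-x^2*y + x^3*y) * b 3) = (x^2*y^2) * b 2 + (-x^2*y^2 + x^3*y^2) * b 3
    rw [h3]; try ring
  · refine (tau_neg hA q (show vecT 5 3 < 0 by decide) _).trans ?_
    show ((x^2*y) * b 1 + (-x^2*y + x^3*y) * b 2) + ((q 3 : ℚ) - 1) * ((x^3*y) * b 3) = (x^2*y) * b 1 + (-x^2*y + x^3*y) * b 2 + (-x^3*y + x^3*y^2) * b 3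
    rw [h3]; try ring
  · refine (tau_nonneg hA q (show ¬ vecT 6 3 < 0 by decide) _).trans ?_
    show (q 3 : ℚ) * ((x^3*y) * b 3) = (x^3*y^2) * b 3
    rw [h3]; try ring
  · refine (tau_neg hA q (show vecT 7 3 < 0 by decide) _).trans ?_
    show (b 0 + (-1 - x*y + x^2 + x^2*y) * b 1 + (x*y - x^2 - x^2*y + x^3*y) * b 2) + ((q 3 : ℚ) - 1) * ((x^2*y) * b 2 + (-x^2*y + x^3*y) * b 3) = b 0 + (-1 - x*y + x^2 + x^2*y) * b 1 + (x*y - x^2 - 2*x^2*y + x^2*y^2 + x^3*y) * b 2 + (x^2*y - x^2*y^2 - x^3*y + x^3*y^2) * b 3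
    rw [h3]; try ring
  · refine (tau_neg hA q (show vecT 8 3 < 0 by decide) _).trans ?_
    show ((x^2*y) * b 1 + (-x^2*y + x^3*y) * b 2) + ((q 3 : ℚ) - 1) * ((x^3*y) * b 3) = (x^2*y) * b 1 + (-x^2*y + x^3*y) * b 2 + (-x^3*y + x^3*y^2) * b 3
    rw [h3]; try ring
  · refine (tau_nonneg hA q (show ¬ vecT 9 3 < 0 by decide) _).trans ?_
    show (q 3 : ℚ) * ((x^2*y) * b 2 + (-x^2*y + x^3*y) * b 3) = (x^2*y^2) * b 2 + (-x^2*y^2 + x^3*y^2) * b 3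
    rw [h3]; try ring
  · refine (tau_nonneg hA q (show ¬ vecT 10 3 < 0 by decide) _).trans ?_
    show (q 3 : ℚ) * ((x^3*y) * b 3) = (x^3*y^2) * b 3
    rw [h3]; try ring
  · refine (tau_nonneg hA q (show ¬ vecT 11 3 < 0 by decide) _).trans ?_
    show (q 3 : ℚ) * ((x) * b 1 + (-x - x*y + x^2 + x^2*y) * b 2 + (x*y - x^2 - x^2*y + x^3*y) * b 3) = (x*y) * b 1 + (-x*y - x*y^2 + x^2*y + x^2*y^2) * b 2 + (x*y^2 - x^2*y - x^2*y^2 + x^3*y^2) * b 3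
    rw [h3]; try ring
  · refine (tau_nonneg hA q (show ¬ vecT 12 3 < 0 by decide) _).trans ?_
    show (q 3 : ℚ) * ((x) * b 1 + (-x + x^2) * b 2 + (-x^2 + x^3*y) * b 3) = (x*y) * b 1 + (-x*y + x^2*y) * b 2 + (-x^2*y + x^3*y^2) * b 3
    rw [h3]; try ring
  · refine (tau_nonneg hA q (show ¬ vecT 13 3 < 0 by decide) _).trans ?_
    show (q 3 : ℚ) * ((x^3*y) * b 3) = (x^3*y^2) * b 3
    rw [h3]; try ring
  · refine (tau_nonneg hA q (show ¬ vecT 14 3 < 0 by decide) _).trans ?_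
    show (q 3 : ℚ) * ((x*y) * b 2 + (-x*y + x^3*y) * b 3) = (x*y^2) * b 2 + (-x*y^2 + x^3*y^2) * b 3
    rw [h3]; try ring
  · refine (tau_nonneg hA q (show ¬ vecT 15 3 < 0 by decide) _).trans ?_
    show (q 3 : ℚ) * ((x^3*y) * b 3) = (x^3*y^2) * b 3
    rw [h3]; try ring
  · refine (tau_nonneg hA q (show ¬ vecT 16 3 < 0 by decide) _).trans ?_
    show (q 3 : ℚ) * ((x^3*y) * b 4) = (x^3*y^2) * b 4
    rw [h3]; try ring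
  · refine (tau_neg hA q (show vecT 17 3 < 0 by decide) _).trans ?_
    show ((x) * b 1 + (-x + x^2) * b 2 + (-x^2 + x^3*y) * b 3) + ((q 3 : ℚ) - 1) * ((x^3*y) * b 3) = (x) * b 1 + (-x + x^2) * b 2 + (-x^2 + x^3*y^2) * b 3
    rw [h3]; try ring
  · refine (tau_nonneg hA q (show ¬ vecT 18 3 < 0 by decide) _).trans ?_
    show (q 3 : ℚ) * ((x^2*y) * b 3 + (-x^2*y + x^3*y) * b 4) = (x^2*y^2) * b 3 + (-x^2*y^2 + x^3*y^2) * b 4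
    rw [h3]; try ring
  · refine (tau_neg hA q (show vecT 19 3 < 0 by decide) _).trans ?_
    show ((x*y) * b 2 + (-x*y + x^3*y) * b 3) + ((q 3 : ℚ) - 1) * ((x^3*y) * b 4) = (x*y) * b 2 + (-x*y + x^3*y) * b 3 + (-x^3*y + x^3*y^2) * b 4
    rw [h3]; try ring
  · refine (tau_neg hA q (show vecT 20 3 < 0 by decide) _).trans ?_
    show (b 1 + (-1 - y + x + x*y) * b 2 + (y - x - x*y + x^3*y) * b 3) + ((q 3 : ℚ) - 1) * ((x^2*y) * b 3 + (-x^2*y + x^3*y) * b 4) = b 1 + (-1 - y + x + x*y) * b 2 + (y - x - x*y - x^2*y + x^2*y^2 + x^3*y) * b 3 + (x^2*y - x^2*y^2 - x^3*y + x^3*y^2) * b 4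
    rw [h3]; try ring
  · refine (tau_nonneg hA q (show ¬ vecT 21 3 < 0 by decide) _).trans ?_
    show (q 3 : ℚ) * ((x^2*y) * b 3 + (-x^2*y + x^3*y) * b 4) = (x^2*y^2) * b 3 + (-x^2*y^2 + x^3*y^2) * b 4
    rw [h3]; try ring
  · refine (tau_nonneg hA q (show ¬ vecT 22 3 < 0 by decide) _).trans ?_
    show (q 3 : ℚ) * (b 2 + (-1 - x*y + x^2 + x^2*y) * b 3 + (x*y - x^2 - x^2*y + x^3*y) * b 4) = (y) * b 2 + (-y - x*y^2 + x^2*y + x^2*y^2) * b 3 + (x*y^2 - x^2*y - x^2*y^2 + x^3*y^2) * b 4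
    rw [h3]; try ring
  · refine (tau_nonneg hA q (show ¬ vecT 23 3 < 0 by decide) _).trans ?_
    show (q 3 : ℚ) * ((x^2*y) * b 3 + (-x^2*y + x^3*y) * b 4) = (x^2*y^2) * b 3 + (-x^2*y^2 + x^3*y^2) * b 4
    rw [h3]; try ring

include h2 in
theorem step7 : (tab hA).tau q 2 (V6 x y b) = V7 x y b := by
  funext s
  fin_cases s
  · refine (tau_nonneg hA q (show ¬ vecT 0 2 < 0 by decide) _).trans ?_
    show (q 2 : ℚ) * ((x^3*y^2) * b 1) = (x^3*y^3) * b 1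
    rw [h2]; try ring
  · refine (tau_nonneg hA q (show ¬ vecT 1 2 < 0 by decide) _).trans ?_
    show (q 2 : ℚ) * ((x^3*y^2) * b 2) = (x^3*y^3) * b 2
    rw [h2]; try ring
  · refine (tau_nonneg hA q (show ¬ vecT 2 2 < 0 by decide) _).trans ?_
    show (q 2 : ℚ) * ((x^3*y^2) * b 3) = (x^3*y^3) * b 3
    rw [h2]; try ring
  · refine (tau_neg hA q (show vecT 3 2 < 0 by decide) _).trans ?_
    show ((x^2*y^2) * b 1 + (-x^2*y^2 + x^3*y^2) * b 2) + ((q 2 : ℚ) - 1) * ((x^3*y^2) * b 3) = (x^2*y^2) * b 1 + (-x^2*y^2 + x^3*y^2) * b 2 + (-x^3*y^2 + x^3*y^3) * b 3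
    rw [h2]; try ring
  · refine (tau_nonneg hA q (show ¬ vecT 4 2 < 0 by decide) _).trans ?_
    show (q 2 : ℚ) * ((x^2*y^2) * b 2 + (-x^2*y^2 + x^3*y^2) * b 3) = (x^2*y^3) * b 2 + (-x^2*y^3 + x^3*y^3) * b 3
    rw [h2]; try ring
  · refine (tau_nonneg hA q (show ¬ vecT 5 2 < 0 by decide) _).trans ?_
    show (q 2 : ℚ) * ((x^2*y) * b 1 + (-x^2*y + x^3*y) * b 2 + (-x^3*y + x^3*y^2) * b 3) = (x^2*y^2) * b 1 + (-x^2*y^2 + x^3*y^2) * b 2 + (-x^3*y^2 + x^3*y^3) * b 3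
    rw [h2]; try ring
  · refine (tau_nonneg hA q (show ¬ vecT 6 2 < 0 by decide) _).trans ?_
    show (q 2 : ℚ) * ((x^3*y^2) * b 3) = (x^3*y^3) * b 3
    rw [h2]; try ring
  · refine (tau_nonneg hA q (show ¬ vecT 7 2 < 0 by decide) _).trans ?_
    show (q 2 : ℚ) * ((x^2*y^2) * b 2 + (-x^2*y^2 + x^3*y^2) * b 3) = (x^2*y^3) * b 2 + (-x^2*y^3 + x^3*y^3) * b 3
    rw [h2]; try ring
  · refine (tau_nonneg hA q (show ¬ vecT 8 2 < 0 by decide) _).trans ?_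
    show (q 2 : ℚ) * ((x^3*y^2) * b 3) = (x^3*y^3) * b 3
    rw [h2]; try ring
  · refine (tau_neg hA q (show vecT 9 2 < 0 by decide) _).trans ?_
    show (b 0 + (-1 - x*y + x^2 + x^2*y) * b 1 + (x*y - x^2 - 2*x^2*y + x^2*y^2 + x^3*y) * b 2 + (x^2*y - x^2*y^2 - x^3*y + x^3*y^2) * b 3) + ((q 2 : ℚ) - 1) * ((x^2*y^2) * b 2 + (-x^2*y^2 + x^3*y^2) * b 3) = b 0 + (-1 - x*y + x^2 + x^2*y) * b 1 + (x*y - x^2 - 2*x^2*y + x^3*y + x^2*y^3) * b 2 + (x^2*y - x^3*y - x^2*y^3 + x^3*y^3) * b 3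
    rw [h2]; try ring
  · refine (tau_neg hA q (show vecT 10 2 < 0 by decide) _).trans ?_
    show ((x^2*y) * b 1 + (-x^2*y + x^3*y) * b 2 + (-x^3*y + x^3*y^2) * b 3) + ((q 2 : ℚ) - 1) * ((x^3*y^2) * b 3) = (x^2*y) * b 1 + (-x^2*y + x^3*y) * b 2 + (-x^3*y + x^3*y^3) * b 3
    rw [h2]; try ring
  · refine (tau_nonneg hA q (show ¬ vecT 11 2 < 0 by decide) _).trans ?_
    show (q 2 : ℚ) * ((x*y) * b 1 + (-x*y - x*y^2 + x^2*y + x^2*y^2) * b 2 + (x*y^2 - x^2*y - x^2*y^2 + x^3*y^2) * b 3) = (x*y^2) * b 1 + (-x*y^2 - x*y^3 + x^2*y^2 + x^2*y^3) * b 2 + (x*y^3 - x^2*y^2 - x^2*y^3 + x^3*y^3) * b 3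
    rw [h2]; try ring
  · refine (tau_nonneg hA q (show ¬ vecT 12 2 < 0 by decide) _).trans ?_
    show (q 2 : ℚ) * ((x^3*y^2) * b 3) = (x^3*y^3) * b 3
    rw [h2]; try ring
  · refine (tau_nonneg hA q (show ¬ vecT 13 2 < 0 by decide) _).trans ?_
    show (q 2 : ℚ) * ((x^3*y^2) * b 3) = (x^3*y^3) * b 3
    rw [h2]; try ring
  · refine (tau_nonneg hA q (show ¬ vecT 14 2 < 0 by decide) _).trans ?_
    show (q 2 : ℚ) * ((x^3*y^2) * b 4) = (x^3*y^3) * b 4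
    rw [h2]; try ring
  · refine (tau_neg hA q (show vecT 15 2 < 0 by decide) _).trans ?_
    show ((x*y) * b 1 + (-x*y + x^2*y) * b 2 + (-x^2*y + x^3*y^2) * b 3) + ((q 2 : ℚ) - 1) * ((x^3*y^2) * b 3) = (x*y) * b 1 + (-x*y + x^2*y) * b 2 + (-x^2*y + x^3*y^3) * b 3
    rw [h2]; try ring
  · refine (tau_neg hA q (show vecT 16 2 < 0 by decide) _).trans ?_
    show ((x*y^2) * b 2 + (-x*y^2 + x^3*y^2) * b 3) + ((q 2 : ℚ) - 1) * ((x^3*y^2) * b 4) = (x*y^2) * b 2 + (-x*y^2 + x^3*y^2) * b 3 + (-x^3*y^2 + x^3*y^3) * b 4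
    rw [h2]; try ring
  · refine (tau_nonneg hA q (show ¬ vecT 17 2 < 0 by decide) _).trans ?_
    show (q 2 : ℚ) * ((x) * b 1 + (-x + x^2) * b 2 + (-x^2 + x^3*y^2) * b 3) = (x*y) * b 1 + (-x*y + x^2*y) * b 2 + (-x^2*y + x^3*y^3) * b 3
    rw [h2]; try ring
  · refine (tau_nonneg hA q (show ¬ vecT 18 2 < 0 by decide) _).trans ?_
    show (q 2 : ℚ) * ((x^2*y^2) * b 3 + (-x^2*y^2 + x^3*y^2) * b 4) = (x^2*y^3) * b 3 + (-x^2*y^3 + x^3*y^3) * b 4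
    rw [h2]; try ring
  · refine (tau_nonneg hA q (show ¬ vecT 19 2 < 0 by decide) _).trans ?_
    show (q 2 : ℚ) * ((x*y) * b 2 + (-x*y + x^3*y) * b 3 + (-x^3*y + x^3*y^2) * b 4) = (x*y^2) * b 2 + (-x*y^2 + x^3*y^2) * b 3 + (-x^3*y^2 + x^3*y^3) * b 4
    rw [h2]; try ring
  · refine (tau_nonneg hA q (show ¬ vecT 20 2 < 0 by decide) _).trans ?_
    show (q 2 : ℚ) * ((x^2*y^2) * b 3 + (-x^2*y^2 + x^3*y^2) * b 4) = (x^2*y^3) * b 3 + (-x^2*y^3 + x^3*y^3) * b 4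
    rw [h2]; try ring
  · refine (tau_neg hA q (show vecT 21 2 < 0 by decide) _).trans ?_
    show (b 1 + (-1 - y + x + x*y) * b 2 + (y - x - x*y - x^2*y + x^2*y^2 + x^3*y) * b 3 + (x^2*y - x^2*y^2 - x^3*y + x^3*y^2) * b 4) + ((q 2 : ℚ) - 1) * ((x^2*y^2) * b 3 + (-x^2*y^2 + x^3*y^2) * b 4) = b 1 + (-1 - y + x + x*y) * b 2 + (y - x - x*y - x^2*y + x^3*y + x^2*y^3) * b 3 + (x^2*y - x^3*y - x^2*y^3 + x^3*y^3) * b 4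
    rw [h2]; try ring
  · refine (tau_nonneg hA q (show ¬ vecT 22 2 < 0 by decide) _).trans ?_
    show (q 2 : ℚ) * ((y) * b 2 + (-y - x*y^2 + x^2*y + x^2*y^2) * b 3 + (x*y^2 - x^2*y - x^2*y^2 + x^3*y^2) * b 4) = (y^2) * b 2 + (-y^2 - x*y^3 + x^2*y^2 + x^2*y^3) * b 3 + (x*y^3 - x^2*y^2 - x^2*y^3 + x^3*y^3) * b 4
    rw [h2]; try ring
  · refine (tau_nonneg hA q (show ¬ vecT 23 2 < 0 by decide) _).trans ?_
    show (q 2 : ℚ) * ((x^2*y^2) * b 3 + (-x^2*y^2 + x^3*y^2) * b 4) = (x^2*y^3) * b 3 + (-x^2*y^3 + x^3*y^3) * b 4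
    rw [h2]; try ring

include h1 in
theorem step8 : (tab hA).tau q 1 (V7 x y b) = V8 x y b := by
  funext s
  fin_cases s
  · refine (tau_nonneg hA q (show ¬ vecT 0 1 < 0 by decide) _).trans ?_
    show (q 1 : ℚ) * ((x^3*y^3) * b 1) = (x^4*y^3) * b 1
    rw [h1]; try ring
  · refine (tau_nonneg hA q (show ¬ vecT 1 1 < 0 by decide) _).trans ?_
    show (q 1 : ℚ) * ((x^3*y^3) * b 3) = (x^4*y^3) * b 3
    rw [h1]; try ring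
  · refine (tau_neg hA q (show vecT 2 1 < 0 by decide) _).trans ?_
    show ((x^3*y^3) * b 2) + ((q 1 : ℚ) - 1) * ((x^3*y^3) * b 3) = (x^3*y^3) * b 2 + (-x^3*y^3 + x^4*y^3) * b 3
    rw [h1]; try ring
  · refine (tau_nonneg hA q (show ¬ vecT 3 1 < 0 by decide) _).trans ?_
    show (q 1 : ℚ) * ((x^2*y^3) * b 2 + (-x^2*y^3 + x^3*y^3) * b 3) = (x^3*y^3) * b 2 + (-x^3*y^3 + x^4*y^3) * b 3
    rw [h1]; try ring
  · refine (tau_neg hA q (show vecT 4 1 < 0 by decide) _).trans ?_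
    show ((x^2*y^2) * b 1 + (-x^2*y^2 + x^3*y^2) * b 2 + (-x^3*y^2 + x^3*y^3) * b 3) + ((q 1 : ℚ) - 1) * ((x^2*y^3) * b 2 + (-x^2*y^3 + x^3*y^3) * b 3) = (x^2*y^2) * b 1 + (-x^2*y^2 - x^2*y^3 + x^3*y^2 + x^3*y^3) * b 2 + (x^2*y^3 - x^3*y^2 - x^3*y^3 + x^4*y^3) * b 3
    rw [h1]; try ring
  · refine (tau_nonneg hA q (show ¬ vecT 5 1 < 0 by decide) _).trans ?_
    show (q 1 : ℚ) * ((x^2*y^3) * b 2 + (-x^2*y^3 + x^3*y^3) * b 3) = (x^3*y^3) * b 2 + (-x^3*y^3 + x^4*y^3) * b 3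
    rw [h1]; try ring
  · refine (tau_nonneg hA q (show ¬ vecT 6 1 < 0 by decide) _).trans ?_
    show (q 1 : ℚ) * ((x^3*y^3) * b 3) = (x^4*y^3) * b 3
    rw [h1]; try ring
  · refine (tau_neg hA q (show vecT 7 1 < 0 by decide) _).trans ?_
    show ((x^2*y^2) * b 1 + (-x^2*y^2 + x^3*y^2) * b 2 + (-x^3*y^2 + x^3*y^3) * b 3) + ((q 1 : ℚ) - 1) * ((x^2*y^3) * b 2 + (-x^2*y^3 + x^3*y^3) * b 3) = (x^2*y^2) * b 1 + (-x^2*y^2 - x^2*y^3 + x^3*y^2 + x^3*y^3) * b 2 + (x^2*y^3 - x^3*y^2 - x^3*y^3 + x^4*y^3) * b 3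
    rw [h1]; try ring
  · refine (tau_nonneg hA q (show ¬ vecT 8 1 < 0 by decide) _).trans ?_
    show (q 1 : ℚ) * ((x^3*y^3) * b 3) = (x^4*y^3) * b 3
    rw [h1]; try ring
  · refine (tau_nonneg hA q (show ¬ vecT 9 1 < 0 by decide) _).trans ?_
    show (q 1 : ℚ) * ((x*y^2) * b 1 + (-x*y^2 - x*y^3 + x^2*y^2 + x^2*y^3) * b 2 + (x*y^3 - x^2*y^2 - x^2*y^3 + x^3*y^3) * b 3) = (x^2*y^2) * b 1 + (-x^2*y^2 - x^2*y^3 + x^3*y^2 + x^3*y^3) * b 2 + (x^2*y^3 - x^3*y^2 - x^3*y^3 + x^4*y^3) * b 3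
    rw [h1]; try ring
  · refine (tau_nonneg hA q (show ¬ vecT 10 1 < 0 by decide) _).trans ?_
    show (q 1 : ℚ) * ((x^3*y^3) * b 3) = (x^4*y^3) * b 3
    rw [h1]; try ring
  · refine (tau_neg hA q (show vecT 11 1 < 0 by decide) _).trans ?_
    show (b 0 + (-1 - x*y + x^2 + x^2*y) * b 1 + (x*y - x^2 - 2*x^2*y + x^3*y + x^2*y^3) * b 2 + (x^2*y - x^3*y - x^2*y^3 + x^3*y^3) * b 3) + ((q 1 : ℚ) - 1) * ((x*y^2) * b 1 + (-x*y^2 - x*y^3 + x^2*y^2 + x^2*y^3) * b 2 + (x*y^3 - x^2*y^2 - x^2*y^3 + x^3*y^3) * b 3) = b 0 + (-1 - x*y + x^2 - x*y^2 + x^2*y + x^2*y^2) * b 1 + (x*y - x^2 + x*y^2 - 2*x^2*y + x*y^3 - 2*x^2*y^2 + x^3*y - x^2*y^3 + x^3*y^2 + x^3*y^3) * b 2 + (x^2*y - x*y^3 + x^2*y^2 - x^3*y + x^2*y^3 - x^3*y^2 - x^3*y^3 + x^4*y^3) * b 3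
    rw [h1]; try ring
  · refine (tau_neg hA q (show vecT 12 1 < 0 by decide) _).trans ?_
    show ((x^2*y) * b 1 + (-x^2*y + x^3*y) * b 2 + (-x^3*y + x^3*y^3) * b 3) + ((q 1 : ℚ) - 1) * ((x^3*y^3) * b 3) = (x^2*y) * b 1 + (-x^2*y + x^3*y) * b 2 + (-x^3*y + x^4*y^3) * b 3
    rw [h1]; try ring
  · refine (tau_nonneg hA q (show ¬ vecT 13 1 < 0 by decide) _).trans ?_
    show (q 1 : ℚ) * ((x^3*y^3) * b 4) = (x^4*y^3) * b 4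
    rw [h1]; try ring
  · refine (tau_neg hA q (show vecT 14 1 < 0 by decide) _).trans ?_
    show ((x^3*y^3) * b 3) + ((q 1 : ℚ) - 1) * ((x^3*y^3) * b 4) = (x^3*y^3) * b 3 + (-x^3*y^3 + x^4*y^3) * b 4
    rw [h1]; try ring
  · refine (tau_nonneg hA q (show ¬ vecT 15 1 < 0 by decide) _).trans ?_
    show (q 1 : ℚ) * ((x*y) * b 1 + (-x*y + x^2*y) * b 2 + (-x^2*y + x^3*y^3) * b 3) = (x^2*y) * b 1 + (-x^2*y + x^3*y) * b 2 + (-x^3*y + x^4*y^3) * b 3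
    rw [h1]; try ring
  · refine (tau_nonneg hA q (show ¬ vecT 16 1 < 0 by decide) _).trans ?_
    show (q 1 : ℚ) * ((x^2*y^3) * b 3 + (-x^2*y^3 + x^3*y^3) * b 4) = (x^3*y^3) * b 3 + (-x^3*y^3 + x^4*y^3) * b 4
    rw [h1]; try ring
  · refine (tau_nonneg hA q (show ¬ vecT 17 1 < 0 by decide) _).trans ?_
    show (q 1 : ℚ) * ((x*y) * b 1 + (-x*y + x^2*y) * b 2 + (-x^2*y + x^3*y^3) * b 3) = (x^2*y) * b 1 + (-x^2*y + x^3*y) * b 2 + (-x^3*y + x^4*y^3) * b 3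
    rw [h1]; try ring
  · refine (tau_neg hA q (show vecT 18 1 < 0 by decide) _).trans ?_
    show ((x*y^2) * b 2 + (-x*y^2 + x^3*y^2) * b 3 + (-x^3*y^2 + x^3*y^3) * b 4) + ((q 1 : ℚ) - 1) * ((x^2*y^3) * b 3 + (-x^2*y^3 + x^3*y^3) * b 4) = (x*y^2) * b 2 + (-x*y^2 - x^2*y^3 + x^3*y^2 + x^3*y^3) * b 3 + (x^2*y^3 - x^3*y^2 - x^3*y^3 + x^4*y^3) * b 4
    rw [h1]; try ring
  · refine (tau_nonneg hA q (show ¬ vecT 19 1 < 0 by decide) _).trans ?_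
    show (q 1 : ℚ) * ((x^2*y^3) * b 3 + (-x^2*y^3 + x^3*y^3) * b 4) = (x^3*y^3) * b 3 + (-x^3*y^3 + x^4*y^3) * b 4
    rw [h1]; try ring
  · refine (tau_neg hA q (show vecT 20 1 < 0 by decide) _).trans ?_
    show ((x*y^2) * b 2 + (-x*y^2 + x^3*y^2) * b 3 + (-x^3*y^2 + x^3*y^3) * b 4) + ((q 1 : ℚ) - 1) * ((x^2*y^3) * b 3 + (-x^2*y^3 + x^3*y^3) * b 4) = (x*y^2) * b 2 + (-x*y^2 - x^2*y^3 + x^3*y^2 + x^3*y^3) * b 3 + (x^2*y^3 - x^3*y^2 - x^3*y^3 + x^4*y^3) * b 4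
    rw [h1]; try ring
  · refine (tau_nonneg hA q (show ¬ vecT 21 1 < 0 by decide) _).trans ?_
    show (q 1 : ℚ) * ((y^2) * b 2 + (-y^2 - x*y^3 + x^2*y^2 + x^2*y^3) * b 3 + (x*y^3 - x^2*y^2 - x^2*y^3 + x^3*y^3) * b 4) = (x*y^2) * b 2 + (-x*y^2 - x^2*y^3 + x^3*y^2 + x^3*y^3) * b 3 + (x^2*y^3 - x^3*y^2 - x^3*y^3 + x^4*y^3) * b 4
    rw [h1]; try ring
  · refine (tau_neg hA q (show vecT 22 1 < 0 by decide) _).trans ?_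
    show (b 1 + (-1 - y + x + x*y) * b 2 + (y - x - x*y - x^2*y + x^3*y + x^2*y^3) * b 3 + (x^2*y - x^3*y - x^2*y^3 + x^3*y^3) * b 4) + ((q 1 : ℚ) - 1) * ((y^2) * b 2 + (-y^2 - x*y^3 + x^2*y^2 + x^2*y^3) * b 3 + (x*y^3 - x^2*y^2 - x^2*y^3 + x^3*y^3) * b 4) = b 1 + (-1 - y + x - y^2 + x*y + x*y^2) * b 2 + (y - x + y^2 - x*y - x*y^2 - x^2*y + x*y^3 - x^2*y^2 + x^3*y - x^2*y^3 + x^3*y^2 + x^3*y^3) * b 3 + (x^2*y - x*y^3 + x^2*y^2 - x^3*y + x^2*y^3 - x^3*y^2 - x^3*y^3 + x^4*y^3) * b 4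
    rw [h1]; try ring
  · refine (tau_nonneg hA q (show ¬ vecT 23 1 < 0 by decide) _).trans ?_
    show (q 1 : ℚ) * ((x^2*y^3) * b 3 + (-x^2*y^3 + x^3*y^3) * b 4) = (x^3*y^3) * b 3 + (-x^3*y^3 + x^4*y^3) * b 4
    rw [h1]; try ring

/-- the right hand sides -/
def RR (x y : ℚ) (b : Fin 5 → ℚ) : Fin 5 → ℚ := ![
  (x + x^2 + x^2*y + x^2*y^2 + x^3*y + x^3*y^2 + x^3*y^3 + x^4*y^3) * b 1,
  b 0 + (-1 + x + x^2 + x^2*y + x^2*y^2) * b 1 + (x^3*y + x^3*y^2 + x^3*y^3) * b 2 + (x^4*y^3) * b 3,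
  (1 + x + x*y + x^2*y) * b 1 + (-1 - x*y + x^2 + x^3*y) * b 2 + (x^2*y^2 + x^3*y^2 + x^3*y^3 + x^4*y^3) * b 3,
  b 1 + (x + x*y + x*y^2) * b 2 + (-1 - x*y + x^2 - x*y^2 + x^2*y + x^2*y^2 + x^3*y + x^3*y^2 + x^3*y^3) * b 3 + (x^4*y^3) * b 4,
  (1 + x + x*y + x*y^2 + x^2*y + x^2*y^2 + x^2*y^3 + x^3*y^3) * b 3 + (-1 - x*y + x^2 - x*y^2 + x^3*y - x^2*y^3 + x^3*y^2 + x^4*y^3) * b 4]

theorem sumV (s : Fin 24) : V1 x y b s + V2 x y b s + V3 x y b s + V4 x y b s + V5 x y b s + V6 x y b s + V7 x y b s + V8 x y b s = RR x y b (clsT s) := by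
  fin_cases s
  · show ((x) * b 1) + ((x^2) * b 1) + ((x^2*y) * b 1) + ((x^3*y) * b 1) + ((x^2*y^2) * b 1) + ((x^3*y^2) * b 1) + ((x^3*y^3) * b 1) + ((x^4*y^3) * b 1) = (x + x^2 + x^2*y + x^2*y^2 + x^3*y + x^3*y^2 + x^3*y^3 + x^4*y^3) * b 1
    ring
  · show (b 0 + (-1 + x) * b 1) + ((x^2) * b 1) + ((x^2*y) * b 1) + ((x^3*y) * b 2) + ((x^2*y^2) * b 1) + ((x^3*y^2) * b 2) + ((x^3*y^3) * b 2) + ((x^4*y^3) * b 3) = b 0 + (-1 + x + x^2 + x^2*y + x^2*y^2) * b 1 + (x^3*y + x^3*y^2 + x^3*y^3) * b 2 + (x^4*y^3) * b 3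
    ring
  · show ((x) * b 1) + (b 0 + (-1 + x^2) * b 1) + ((x^2*y) * b 2) + ((x^2*y) * b 1 + (-x^2*y + x^3*y) * b 2) + ((x^2*y^2) * b 2) + ((x^2*y^2) * b 1 + (-x^2*y^2 + x^3*y^2) * b 2) + ((x^3*y^3) * b 3) + ((x^3*y^3) * b 2 + (-x^3*y^3 + x^4*y^3) * b 3) = b 0 + (-1 + x + x^2 + x^2*y + x^2*y^2) * b 1 + (x^3*y + x^3*y^2 + x^3*y^3) * b 2 + (x^4*y^3) * b 3
    ring
  · show ((x) * b 1) + ((x^2) * b 2) + (b 0 + (-1 + x^2) * b 1 + (-x^2 + x^2*y) * b 2) + ((x^2*y) * b 1 + (-x^2*y + x^3*y) * b 2) + ((x^2*y^2) * b 2) + ((x^3*y^2) * b 3) + ((x^2*y^2) * b 1 + (-x^2*y^2 + x^3*y^2) * b 2 + (-x^3*y^2 + x^3*y^3) * b 3) + ((x^3*y^3) * b 2 + (-x^3*y^3 + x^4*y^3) * b 3) = b 0 + (-1 + x + x^2 + x^2*y + x^2*y^2) * b 1 + (x^3*y + x^3*y^2 + x^3*y^3) * b 2 + (x^4*y^3) * b 3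
    ring
  · show ((x) * b 2) + ((x) * b 1 + (-x + x^2) * b 2) + ((x*y) * b 1 + (-x*y + x^2*y) * b 2) + (b 0 + (-1 - x*y + x^2 + x^2*y) * b 1 + (x*y - x^2 - x^2*y + x^3*y) * b 2) + ((x^2*y^2) * b 3) + ((x^2*y^2) * b 2 + (-x^2*y^2 + x^3*y^2) * b 3) + ((x^2*y^3) * b 2 + (-x^2*y^3 + x^3*y^3) * b 3) + ((x^2*y^2) * b 1 + (-x^2*y^2 - x^2*y^3 + x^3*y^2 + x^3*y^3) * b 2 + (x^2*y^3 - x^3*y^2 - x^3*y^3 + x^4*y^3) * b 3) = b 0 + (-1 + x + x^2 + x^2*y + x^2*y^2) * b 1 + (x^3*y + x^3*y^2 + x^3*y^3) * b 2 + (x^4*y^3) * b 3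
    ring
  · show ((x) * b 1) + ((x^2) * b 2) + ((x^2*y) * b 2) + ((x^3*y) * b 3) + (b 0 + (-1 + x^2) * b 1 + (-x^2 + x^2*y^2) * b 2) + ((x^2*y) * b 1 + (-x^2*y + x^3*y) * b 2 + (-x^3*y + x^3*y^2) * b 3) + ((x^2*y^2) * b 1 + (-x^2*y^2 + x^3*y^2) * b 2 + (-x^3*y^2 + x^3*y^3) * b 3) + ((x^3*y^3) * b 2 + (-x^3*y^3 + x^4*y^3) * b 3) = b 0 + (-1 + x + x^2 + x^2*y + x^2*y^2) * b 1 + (x^3*y + x^3*y^2 + x^3*y^3) * b 2 + (x^4*y^3) * b 3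
    ring
  · show (b 1 + (-1 + x) * b 2) + ((x) * b 1 + (-x + x^2) * b 2) + ((x*y) * b 1 + (-x*y + x^2*y) * b 2) + ((x^2*y) * b 1 + (-x^2*y + x^3*y) * b 2) + ((x^2*y^2) * b 3) + ((x^3*y^2) * b 3) + ((x^3*y^3) * b 3) + ((x^4*y^3) * b 3) = (1 + x + x*y + x^2*y) * b 1 + (-1 - x*y + x^2 + x^3*y) * b 2 + (x^2*y^2 + x^3*y^2 + x^3*y^3 + x^4*y^3) * b 3
    ring
  · show ((x) * b 2) + ((x) * b 1 + (-x + x^2) * b 2) + ((x^2*y) * b 3) + ((x^2*y) * b 2 + (-x^2*y + x^3*y) * b 3) + ((x*y) * b 1 + (-x*y + x^2*y) * b 2 + (-x^2*y + x^2*y^2) * b 3) + (b 0 + (-1 - x*y + x^2 + x^2*y) * b 1 + (x*y - x^2 - 2*x^2*y + x^2*y^2 + x^3*y) * b 2 + (x^2*y - x^2*y^2 - x^3*y + x^3*y^2) * b 3) + ((x^2*y^3) * b 2 + (-x^2*y^3 + x^3*y^3) * b 3) + ((x^2*y^2) * b 1 + (-x^2*y^2 - x^2*y^3 + x^3*y^2 + x^3*y^3) * b 2 + (x^2*y^3 - x^3*y^2 - x^3*y^3 + x^4*y^3) *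 b 3) = b 0 + (-1 + x + x^2 + x^2*y + x^2*y^2) * b 1 + (x^3*y + x^3*y^2 + x^3*y^3) * b 2 + (x^4*y^3) * b 3
    ring
  · show (b 1 + (-1 + x) * b 2) + ((x) * b 1 + (-x + x^2) * b 2) + ((x^2*y) * b 3) + ((x^3*y) * b 3) + ((x*y) * b 1 + (-x*y + x^2*y) * b 2 + (-x^2*y + x^2*y^2) * b 3) + ((x^2*y) * b 1 + (-x^2*y + x^3*y) * b 2 + (-x^3*y + x^3*y^2) * b 3) + ((x^3*y^3) * b 3) + ((x^4*y^3) * b 3) = (1 + x + x*y + x^2*y) * b 1 + (-1 - x*y + x^2 + x^3*y) * b 2 + (x^2*y^2 + x^3*y^2 + x^3*y^3 + x^4*y^3) * b 3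
    ring
  · show ((x) * b 2) + ((x^2) * b 3) + ((x) * b 1 + (-x + x^2) * b 2 + (-x^2 + x^2*y) * b 3) + ((x^2*y) * b 2 + (-x^2*y + x^3*y) * b 3) + ((x*y) * b 1 + (-x*y + x^2*y) * b 2 + (-x^2*y + x^2*y^2) * b 3) + ((x^2*y^2) * b 2 + (-x^2*y^2 + x^3*y^2) * b 3) + (b 0 + (-1 - x*y + x^2 + x^2*y) * b 1 + (x*y - x^2 - 2*x^2*y + x^3*y + x^2*y^3) * b 2 + (x^2*y - x^3*y - x^2*y^3 + x^3*y^3) * b 3) + ((x^2*y^2) * b 1 + (-x^2*y^2 - x^2*y^3 + x^3*y^2 + x^3*y^3) * b 2 + (x^2*y^3 - x^3*y^2 - x^3*y^3 + x^4*y^3) * b 3) = b 0 + (-1 + x + x^2 + x^2*y + x^2*y^2) * b 1 + (x^3*y + x^3*y^2 + x^3*y^3) * b 2 + (x^4*y^3) * b 3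
    ring
  · show (b 1 + (-1 + x) * b 2) + ((x^2) * b 3) + ((x) * b 1 + (-x + x^2) * b 2 + (-x^2 + x^2*y) * b 3) + ((x^3*y) * b 3) + ((x*y) * b 1 + (-x*y + x^2*y) * b 2 + (-x^2*y + x^2*y^2) * b 3) + ((x^3*y^2) * b 3) + ((x^2*y) * b 1 + (-x^2*y + x^3*y) * b 2 + (-x^3*y + x^3*y^3) * b 3) + ((x^4*y^3) * b 3) = (1 + x + x*y + x^2*y) * b 1 + (-1 - x*y + x^2 + x^3*y) * b 2 + (x^2*y^2 + x^3*y^2 + x^3*y^3 + x^4*y^3) * b 3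
    ring
  · show ((x) * b 3) + ((x) * b 2 + (-x + x^2) * b 3) + ((x*y) * b 2 + (-x*y + x^2*y) * b 3) + ((x) * b 1 + (-x - x*y + x^2 + x^2*y) * b 2 + (x*y - x^2 - x^2*y + x^3*y) * b 3) + ((x*y^2) * b 2 + (-x*y^2 + x^2*y^2) * b 3) + ((x*y) * b 1 + (-x*y - x*y^2 + x^2*y + x^2*y^2) * b 2 + (x*y^2 - x^2*y - x^2*y^2 + x^3*y^2) * b 3) + ((x*y^2) * b 1 + (-x*y^2 - x*y^3 + x^2*y^2 + x^2*y^3) * b 2 + (x*y^3 - x^2*y^2 - x^2*y^3 + x^3*y^3) * b 3) + (b 0 + (-1 - x*y + x^2 - x*y^2 + x^2*y + x^2*y^2) * b 1 + (x*y - x^2 + x*y^2 - 2*x^2*y + x*y^3 - 2*x^2*y^2 + x^3*y - x^2*y^3 + x^3*y^2 + x^3*y^3) * b 2 + (x^2*y - x*y^3 + x^2*y^2 - x^3*y + x^2*y^3 - x^3*y^2 - x^3*y^3 + x^4*y^3) * b 3) = b 0 + (-1 + x + x^2 + x^2*y + x^2*y^2) * b 1 + (x^3*y + x^3*y^2 + x^3*y^3) * b 2 + (x^4*y^3) * b 3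
    ring
  · show ((x) * b 3) + (b 1 + (-1 + x) * b 2 + (-x + x^2) * b 3) + ((x^2*y) * b 3) + ((x) * b 1 + (-x + x^2) * b 2 + (-x^2 + x^3*y) * b 3) + ((x^2*y^2) * b 3) + ((x*y) * b 1 + (-x*y + x^2*y) * b 2 + (-x^2*y + x^3*y^2) * b 3) + ((x^3*y^3) * b 3) + ((x^2*y) * b 1 + (-x^2*y + x^3*y) * b 2 + (-x^3*y + x^4*y^3) * b 3) = (1 + x + x*y + x^2*y) * b 1 + (-1 - x*y + x^2 + x^3*y) * b 2 + (x^2*y^2 + x^3*y^2 + x^3*y^3 + x^4*y^3) * b 3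
    ring
  · show (b 1 + (-1 + x) * b 3) + ((x) * b 2 + (-x + x^2) * b 3) + ((x*y) * b 2 + (-x*y + x^2*y) * b 3) + ((x^3*y) * b 3) + ((x*y^2) * b 2 + (-x*y^2 + x^2*y^2) * b 3) + ((x^3*y^2) * b 3) + ((x^3*y^3) * b 3) + ((x^4*y^3) * b 4) = b 1 + (x + x*y + x*y^2) * b 2 + (-1 - x*y + x^2 - x*y^2 + x^2*y + x^2*y^2 + x^3*y + x^3*y^2 + x^3*y^3) * b 3 + (x^4*y^3) * b 4
    ring
  · show (b 2 + (-1 + x) * b 3) + (b 1 + (-1 + x) * b 2 + (-x + x^2) * b 3) + ((x^2*y) * b 3) + ((x*y) * b 2 + (-x*y + x^3*y) * b 3) + ((x^2*y^2) * b 3) + ((x*y^2) * b 2 + (-x*y^2 + x^3*y^2) * b 3) + ((x^3*y^3) * b 4) + ((x^3*y^3) * b 3 + (-x^3*y^3 + x^4*y^3) * b 4) = b 1 + (x + x*y + x*y^2) * b 2 + (-1 - x*y + x^2 - x*y^2 + x^2*y + x^2*y^2 + x^3*y + x^3*y^2 + x^3*y^3) * b 3 + (x^4*y^3) * b 4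
    ring
  · show ((x) * b 3) + ((x^2) * b 3) + (b 1 + (-1 + x) * b 2 + (-x + x^2*y) * b 3) + ((x) * b 1 + (-x + x^2) * b 2 + (-x^2 + x^3*y) * b 3) + ((x^2*y^2) * b 3) + ((x^3*y^2) * b 3) + ((x*y) * b 1 + (-x*y + x^2*y) * b 2 + (-x^2*y + x^3*y^3) * b 3) + ((x^2*y) * b 1 + (-x^2*y + x^3*y) * b 2 + (-x^3*y + x^4*y^3) * b 3) = (1 + x + x*y + x^2*y) * b 1 + (-1 - x*y + x^2 + x^3*y) * b 2 + (x^2*y^2 + x^3*y^2 + x^3*y^3 + x^4*y^3) * b 3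
    ring
  · show (b 2 + (-1 + x) * b 3) + ((x^2) * b 3) + (b 1 + (-1 + x) * b 2 + (-x + x^2*y) * b 3) + ((x*y) * b 2 + (-x*y + x^3*y) * b 3) + ((x^2*y^2) * b 3) + ((x^3*y^2) * b 4) + ((x*y^2) * b 2 + (-x*y^2 + x^3*y^2) * b 3 + (-x^3*y^2 + x^3*y^3) * b 4) + ((x^3*y^3) * b 3 + (-x^3*y^3 + x^4*y^3) * b 4) = b 1 + (x + x*y + x*y^2) * b 2 + (-1 - x*y + x^2 - x*y^2 + x^2*y + x^2*y^2 + x^3*y + x^3*y^2 + x^3*y^3) * b 3 + (x^4*y^3) * b 4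
    ring
  · show ((x) * b 3) + ((x^2) * b 3) + ((x^2*y) * b 3) + ((x^3*y) * b 3) + (b 1 + (-1 + x) * b 2 + (-x + x^2*y^2) * b 3) + ((x) * b 1 + (-x + x^2) * b 2 + (-x^2 + x^3*y^2) * b 3) + ((x*y) * b 1 + (-x*y + x^2*y) * b 2 + (-x^2*y + x^3*y^3) * b 3) + ((x^2*y) * b 1 + (-x^2*y + x^3*y) * b 2 + (-x^3*y + x^4*y^3) * b 3) = (1 + x + x*y + x^2*y) * b 1 + (-1 - x*y + x^2 + x^3*y) * b 2 + (x^2*y^2 + x^3*y^2 + x^3*y^3 + x^4*y^3) * b 3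
    ring
  · show ((x) * b 3) + (b 2 + (-1 + x^2) * b 3) + ((y) * b 2 + (-y + x^2*y) * b 3) + (b 1 + (-1 - y + x + x*y) * b 2 + (y - x - x*y + x^3*y) * b 3) + ((x^2*y^2) * b 4) + ((x^2*y^2) * b 3 + (-x^2*y^2 + x^3*y^2) * b 4) + ((x^2*y^3) * b 3 + (-x^2*y^3 + x^3*y^3) * b 4) + ((x*y^2) * b 2 + (-x*y^2 - x^2*y^3 + x^3*y^2 + x^3*y^3) * b 3 + (x^2*y^3 - x^3*y^2 - x^3*y^3 + x^4*y^3) * b 4) = b 1 + (x + x*y + x*y^2) * b 2 + (-1 - x*y + x^2 - x*y^2 + x^2*y + x^2*y^2 + x^3*y + x^3*y^2 + x^3*y^3) * b 3 + (x^4*y^3) * b 4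
    ring
  · show (b 2 + (-1 + x) * b 3) + ((x^2) * b 3) + ((x^2*y) * b 3) + ((x^3*y) * b 4) + (b 1 + (-1 + x) * b 2 + (-x + x^2*y^2) * b 3) + ((x*y) * b 2 + (-x*y + x^3*y) * b 3 + (-x^3*y + x^3*y^2) * b 4) + ((x*y^2) * b 2 + (-x*y^2 + x^3*y^2) * b 3 + (-x^3*y^2 + x^3*y^3) * b 4) + ((x^3*y^3) * b 3 + (-x^3*y^3 + x^4*y^3) * b 4) = b 1 + (x + x*y + x*y^2) * b 2 + (-1 - x*y + x^2 - x*y^2 + x^2*y + x^2*y^2 + x^3*y + x^3*y^2 + x^3*y^3) * b 3 + (x^4*y^3) * b 4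
    ring
  · show ((x) * b 3) + (b 2 + (-1 + x^2) * b 3) + ((x^2*y) * b 4) + ((x^2*y) * b 3 + (-x^2*y + x^3*y) * b 4) + ((y) * b 2 + (-y + x^2*y) * b 3 + (-x^2*y + x^2*y^2) * b 4) + (b 1 + (-1 - y + x + x*y) * b 2 + (y - x - x*y - x^2*y + x^2*y^2 + x^3*y) * b 3 + (x^2*y - x^2*y^2 - x^3*y + x^3*y^2) * b 4) + ((x^2*y^3) * b 3 + (-x^2*y^3 + x^3*y^3) * b 4) + ((x*y^2) * b 2 + (-x*y^2 - x^2*y^3 + x^3*y^2 + x^3*y^3) * b 3 + (x^2*y^3 - x^3*y^2 - x^3*y^3 + x^4*y^3) * b 4) = b 1 + (x + x*y + x*y^2) * b 2 + (-1 - x*y + x^2 - x*y^2 + x^2*y + x^2*y^2 + x^3*y + x^3*y^2 + x^3*y^3) * b 3 + (x^4*y^3) * b 4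
    ring
  · show ((x) * b 3) + ((x^2) * b 4) + (b 2 + (-1 + x^2) * b 3 + (-x^2 + x^2*y) * b 4) + ((x^2*y) * b 3 + (-x^2*y + x^3*y) * b 4) + ((y) * b 2 + (-y + x^2*y) * b 3 + (-x^2*y + x^2*y^2) * b 4) + ((x^2*y^2) * b 3 + (-x^2*y^2 + x^3*y^2) * b 4) + (b 1 + (-1 - y + x + x*y) * b 2 + (y - x - x*y - x^2*y + x^3*y + x^2*y^3) * b 3 + (x^2*y - x^3*y - x^2*y^3 + x^3*y^3) * b 4) + ((x*y^2) * b 2 + (-x*y^2 - x^2*y^3 + x^3*y^2 + x^3*y^3) * b 3 + (x^2*y^3 - x^3*y^2 - x^3*y^3 + x^4*y^3) * b 4) = b 1 + (x + x*y + x*y^2) * b 2 + (-1 - x*y + x^2 - x*y^2 + x^2*y + x^2*y^2 + x^3*y + x^3*y^2 + x^3*y^3) * b 3 + (x^4*y^3) * b 4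
    ring
  · show ((x) * b 4) + ((x) * b 3 + (-x + x^2) * b 4) + ((x*y) * b 3 + (-x*y + x^2*y) * b 4) + (b 2 + (-1 - x*y + x^2 + x^2*y) * b 3 + (x*y - x^2 - x^2*y + x^3*y) * b 4) + ((x*y^2) * b 3 + (-x*y^2 + x^2*y^2) * b 4) + ((y) * b 2 + (-y - x*y^2 + x^2*y + x^2*y^2) * b 3 + (x*y^2 - x^2*y - x^2*y^2 + x^3*y^2) * b 4) + ((y^2) * b 2 + (-y^2 - x*y^3 + x^2*y^2 + x^2*y^3) * b 3 + (x*y^3 - x^2*y^2 - x^2*y^3 + x^3*y^3) * b 4) + (b 1 + (-1 - y + x - y^2 + x*y + x*y^2) * b 2 + (y - x + y^2 - x*y - x*y^2 - x^2*y + x*y^3 - x^2*y^2 + x^3*y - x^2*y^3 + x^3*y^2 + x^3*y^3) * b 3 + (x^2*y - x*y^3 + x^2*y^2 - x^3*y + x^2*y^3 - x^3*y^2 - x^3*y^3 + x^4*y^3) * b 4) = b 1 + (x + x*y + x*y^2) * b 2 + (-1 - x*y + x^2 - x*y^2 + x^2*y + x^2*y^2 + x^3*y + x^3*y^2 + x^3*y^3) * b 3 + (x^4*y^3) * b 4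
    ring
  · show (b 3 + (-1 + x) * b 4) + ((x) * b 3 + (-x + x^2) * b 4) + ((x*y) * b 3 + (-x*y + x^2*y) * b 4) + ((x^2*y) * b 3 + (-x^2*y + x^3*y) * b 4) + ((x*y^2) * b 3 + (-x*y^2 + x^2*y^2) * b 4) + ((x^2*y^2) * b 3 + (-x^2*y^2 + x^3*y^2) * b 4) + ((x^2*y^3) * b 3 + (-x^2*y^3 + x^3*y^3) * b 4) + ((x^3*y^3) * b 3 + (-x^3*y^3 + x^4*y^3) * b 4) = (1 + x + x*y + x*y^2 + x^2*y + x^2*y^2 + x^2*y^3 + x^3*y^3) * b 3 + (-1 - x*y + x^2 - x*y^2 + x^3*y - x^2*y^3 + x^3*y^2 + x^4*y^3) * b 4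
    ring

include h0 h1 h2 h3 in
/-- **The operator on class functions.** -/
theorem sumD (s : Fin 24) : (tab hA).tauD q DD (fun u => b (clsT u)) s = RR x y b (clsT s) := by
  rw [← sumV (x := x) (y := y) b s, base (x := x) (y := y) b]
  have e1 : (tab hA).tauW q [0] (V0 x y b) = V1 x y b := step1 hA h0 b
  have e2 : (tab hA).tauW q [1, 0] (V0 x y b) = V2 x y b :=
    (congrArg ((tab hA).tau q 1) e1).trans (step2 hA h1 b)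
  have e3 : (tab hA).tauW q [2, 1, 0] (V0 x y b) = V3 x y b :=
    (congrArg ((tab hA).tau q 2) e2).trans (step3 hA h2 b)
  have e4 : (tab hA).tauW q [1, 2, 1, 0] (V0 x y b) = V4 x y b :=
    (congrArg ((tab hA).tau q 1) e3).trans (step4 hA h1 b)
  have e5 : (tab hA).tauW q [3, 2, 1, 0] (V0 x y b) = V5 x y b :=
    (congrArg ((tab hA).tau q 3) e3).trans (step5 hA h3 b)
  have e6 : (tab hA).tauW q [3, 1, 2, 1, 0] (V0 x y b) = V6 x y b :=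
    (congrArg ((tab hA).tau q 3) e4).trans (step6 hA h3 b)
  have e7 : (tab hA).tauW q [2, 3, 1, 2, 1, 0] (V0 x y b) = V7 x y b :=
    (congrArg ((tab hA).tau q 2) e6).trans (step7 hA h2 b)
  have e8 : (tab hA).tauW q [1, 2, 3, 1, 2, 1, 0] (V0 x y b) = V8 x y b :=
    (congrArg ((tab hA).tau q 1) e7).trans (step8 hA h1 b)
  show (DD.map fun w => (tab hA).tauW q w (V0 x y b) s).sum = _
  simp only [DD, List.map_cons, List.map_nil, List.sum_cons, List.sum_nil, e1, e2, e3, e4, e5, e6, e7, e8]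
  ring

end Cfsg.Agent.H654.Two.F4Tab
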