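import Cfsg.Agent.H967.Sph.Main
import Cfsg.Agent.H654.Two.F4Tab

/-!
# Three characters of `F₄(q)` in the permutation character on the cosets of `P_0` (helper654, task 838)

`exists_d1`, `exists_d2`, `exists_d3`: the degrees
`q (q+1)² (q²-q+1)² (q⁴+1) / 2`, `q² (q²+q+1)² (q²-q+1)² (q⁴-q²+1)`, `q³ (q²+1)² (q⁴+1) (q⁴-q²+1)`.
-/

set_option autoImplicit false
set_option linter.unusedSectionVars false

namespace Cfsg.Agent.H654.Two.F4Char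

open Cfsg.Agent.H967.Sph Cfsg.Agent.H654.Two.F4Tab
open CoxeterSystem Cfsg.Agent.ChevalleyStructure.CoxeterGeom Cfsg.Agent.Tits.Roots Cfsg.Agent.Tits.Core
  Cfsg.Agent.Nodes.Reps Cfsg.Agent.Nodes.BNOf Cfsg.Agent.Nodes.Bruhat Cfsg.Agent.Nodes.LeviDec

/-- the lengths -/
def lenT : Fin 24 → ℕ := ![0, 1, 2, 3, 4, 4, 5, 5, 6, 6, 7, 7, 8, 8, 9, 9, 10, 10, 11, 11, 12, 13, 14, 15]

theorem lenT_st : ∀ i s, 0 < vecT s i → lenT (stT i s) = lenT s + 1 := by decide +kernel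

theorem sum_wt (q : ℚ) (g : Fin 5 → ℚ) : ∑ s : Fin 24, q ^ lenT s * g (clsT s) =
    g 0 + (q + q ^ 2 + q ^ 3 + 2 * q ^ 4 + q ^ 5 + q ^ 6 + q ^ 7) * g 1 +
      (q ^ 5 + q ^ 6 + q ^ 7 + q ^ 8 + q ^ 9 + q ^ 10) * g 2 +
      (q ^ 8 + q ^ 9 + q ^ 10 + 2 * q ^ 11 + q ^ 12 + q ^ 13 + q ^ 14) * g 3 + q ^ 15 * g 4 := by
  simp only [Fin.sum_univ_succ, Fin.sum_univ_zero]
  show q ^ 0 * g 0 + (q ^ 1 * g 1 + (q ^ 2 * g 1 + (q ^ 3 * g 1 + (q ^ 4 * g 1 + (q ^ 4 * g 1 + (q ^ 5 * g 2 +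
    (q ^ 5 * g 1 + (q ^ 6 * g 2 + (q ^ 6 * g 1 + (q ^ 7 * g 2 + (q ^ 7 * g 1 + (q ^ 8 * g 2 + (q ^ 8 * g 3 +
    (q ^ 9 * g 3 + (q ^ 9 * g 2 + (q ^ 10 * g 3 + (q ^ 10 * g 2 + (q ^ 11 * g 3 + (q ^ 11 * g 3 + (q ^ 12 * g 3 +
    (q ^ 13 * g 3 + (q ^ 14 * g 3 + (q ^ 15 * g 4 + 0))))))))))))))))))))))) = _
  ring

section rows

variable (x : ℚ) (b : Fin 5 → ℚ)

theorem RR0 : RR x x b 0 = (x + x ^ 2 + x ^ 3 + 2 * x ^ 4 + x ^ 5 + x ^ 6 + x ^ 7) * b 1 := by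
  show (x + x^2 + x^2*x + x^2*x^2 + x^3*x + x^3*x^2 + x^3*x^3 + x^4*x^3) * b 1 = _
  ring

theorem RR1 : RR x x b 1 = b 0 + (-1 + x + x ^ 2 + x ^ 3 + x ^ 4) * b 1 + (x ^ 4 + x ^ 5 + x ^ 6) * b 2 +
    x ^ 7 * b 3 := by
  show b 0 + (-1 + x + x^2 + x^2*x + x^2*x^2) * b 1 + (x^3*x + x^3*x^2 + x^3*x^3) * b 2 + (x^4*x^3) * b 3 = _
  ring

theorem RR2 : RR x x b 2 = (1 + x + x ^ 2 + x ^ 3) * b 1 + (x ^ 4 - 1) * b 2 +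
    (x ^ 4 + x ^ 5 + x ^ 6 + x ^ 7) * b 3 := by
  show (1 + x + x*x + x^2*x) * b 1 + (-1 - x*x + x^2 + x^3*x) * b 2 +
    (x^2*x^2 + x^3*x^2 + x^3*x^3 + x^4*x^3) * b 3 = _
  ring

theorem RR3 : RR x x b 3 = b 1 + (x + x ^ 2 + x ^ 3) * b 2 + (-1 + 2 * x ^ 4 + x ^ 5 + x ^ 6) * b 3 +
    x ^ 7 * b 4 := by
  show b 1 + (x + x*x + x*x^2) * b 2 + (-1 - x*x + x^2 - x*x^2 + x^2*x + x^2*x^2 + x^3*x + x^3*x^2 + x^3*x^3) * b 3 +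
    (x^4*x^3) * b 4 = _
  ring

theorem RR4 : RR x x b 4 = (1 + x + x ^ 2 + 2 * x ^ 3 + x ^ 4 + x ^ 5 + x ^ 6) * b 3 +
    (-1 - x ^ 3 + x ^ 4 + x ^ 7) * b 4 := by
  show (1 + x + x*x + x*x^2 + x^2*x + x^2*x^2 + x^2*x^3 + x^3*x^3) * b 3 +
    (-1 - x*x + x^2 - x*x^2 + x^3*x - x^2*x^3 + x^3*x^2 + x^4*x^3) * b 4 = _
  ring

/-- the eigenspace is one-dimensional -/
theorem eig_unique {x : ℚ} (hx : 0 < x) {θ : ℚ} (hθ : x ^ 4 - 1 - θ < x * (1 + x) * (1 + x ^ 2) * (1 + x + x ^ 2))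
    {a b : Fin 5 → ℚ} (ha : a 0 = 1) (ea : ∀ c, RR x x a c = θ * a c) (eb : ∀ c, RR x x b c = θ * b c) (c : Fin 5) :
    b c = b 0 * a c := by
  have a0 := ea 0
  have a1 := ea 1
  have a2 := ea 2
  have a3 := ea 3
  have b0 := eb 0
  have b1 := eb 1
  have b2 := eb 2
  have b3 := eb 3
  rw [RR0] at a0 b0
  rw [RR1] at a1 b1
  rw [RR2] at a2 b2
  rw [RR3] at a3 b3
  have d1 : b 1 = b 0 * a 1 := by
    have h : (x + x ^ 2 + x ^ 3 + 2 * x ^ 4 + x ^ 5 + x ^ 6 + x ^ 7) * (b 1 - b 0 * a 1) = 0 := by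
      rw [ha] at a0
      linear_combination b0 - b 0 * a0
    rcases mul_eq_zero.1 h with h | h
    · exact absurd h (by positivity)
    · linarith
  have e3 : x ^ 3 * (b 3 - b 0 * a 3) = - (1 + x + x ^ 2) * (b 2 - b 0 * a 2) := by
    have h : x ^ 4 * (x ^ 3 * (b 3 - b 0 * a 3) + (1 + x + x ^ 2) * (b 2 - b 0 * a 2)) = 0 := by
      rw [ha] at a1
      linear_combination b1 - b 0 * a1 - (-1 + x + x ^ 2 + x ^ 3 + x ^ 4 - θ) * d1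
    rcases mul_eq_zero.1 h with h | h
    · exact absurd h (by positivity)
    · linear_combination h
  have d2 : b 2 = b 0 * a 2 := by
    have h : (x * (1 + x) * (1 + x ^ 2) * (1 + x + x ^ 2) - (x ^ 4 - 1 - θ)) * (b 2 - b 0 * a 2) = 0 := by
      linear_combination -(b2 - b 0 * a2) + (1 + x + x ^ 2 + x ^ 3) * d1 + (x * (1 + x) * (1 + x ^ 2)) * e3
    rcases mul_eq_zero.1 h with h | h
    · linarith
    · linarith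
  have d3 : b 3 = b 0 * a 3 := by
    have h : x ^ 3 * (b 3 - b 0 * a 3) = 0 := by rw [e3, d2]; ring
    rcases mul_eq_zero.1 h with h | h
    · exact absurd h (by positivity)
    · linarith
  have d4 : b 4 = b 0 * a 4 := by
    have h : x ^ 7 * (b 4 - b 0 * a 4) = 0 := by
      linear_combination b3 - b 0 * a3 - d1 - (x + x ^ 2 + x ^ 3) * d2 -
        (-1 + 2 * x ^ 4 + x ^ 5 + x ^ 6 - θ) * d3
    rcases mul_eq_zero.1 h with h | h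
    · exact absurd h (by positivity)
    · linarith
  fin_cases c
  · show b 0 = b 0 * a 0
    rw [ha, mul_one]
  · exact d1
  · exact d2
  · exact d3
  · exact d4

end rows

universe u

section main

variable {W : Type*} {Y : Type u} [Group W] [Finite W] [Group Y] [Finite Y]
    {M : CoxeterMatrix (Fin 4)} {cs : CoxeterSystem M W} {A : Fin 4 → Fin 4 → ℤ} {h : IsCartan M A} {p : ℕ}
    {T : Subgroup Y} {n : Fin 4 → Y} {X : (Fin 4 → ℤ) → Subgroup Y} (R : RGD cs h p T n X) (hG : GG cs h T X = ⊤)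
    (hA : ∀ i k, A i k = AA i k) {q : ℕ} (hq2 : 2 ≤ q) (hq : ∀ i, Nat.card (X (sr i)) = q)

include R hG hA hq hq2

theorem exists_of (θ : ℚ) (hθ : (q : ℚ) ^ 4 - 1 - θ < q * (1 + q) * (1 + q ^ 2) * (1 + q + q ^ 2))
    (a : Fin 5 → ℚ) (ha : a 0 = 1) (ea : ∀ c, RR q q a c = θ * a c) (d : ℕ)
    (hd : (d : ℚ) * (a 0 ^ 2 + (q + q ^ 2 + q ^ 3 + 2 * q ^ 4 + q ^ 5 + q ^ 6 + q ^ 7) * a 1 ^ 2 +
      (q ^ 5 + q ^ 6 + q ^ 7 + q ^ 8 + q ^ 9 + q ^ 10) * a 2 ^ 2 +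
      (q ^ 8 + q ^ 9 + q ^ 10 + 2 * q ^ 11 + q ^ 12 + q ^ 13 + q ^ 14) * a 3 ^ 2 + q ^ 15 * a 4 ^ 2) =
      1 + (q + q ^ 2 + q ^ 3 + 2 * q ^ 4 + q ^ 5 + q ^ 6 + q ^ 7) +
      (q ^ 5 + q ^ 6 + q ^ 7 + q ^ 8 + q ^ 9 + q ^ 10) +
      (q ^ 8 + q ^ 9 + q ^ 10 + 2 * q ^ 11 + q ^ 12 + q ^ 13 + q ^ 14) + q ^ 15) :
    ∃ χ : Y → ℂ, Cfsg.IsIrrCharacter Y χ ∧ (∀ g, ∃ r : ℚ, χ g = r) ∧ χ 1 = d := by
  have hq0 : (0 : ℚ) < q := by exact_mod_cast (by omega : 0 < q)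
  refine exists_char R hG (tab hA) (fun _ => q) hq DD θ a ha ?_ ?_ (fun s => q ^ lenT s) ?_ ?_ d ?_
  · intro s
    exact (sumD hA rfl rfl rfl rfl a s).trans (ea _)
  · intro b hb c
    refine eig_unique hq0 hθ ha ea (fun c => ?_) c
    obtain ⟨s, hs⟩ : ∃ s, clsT s = c := ⟨crepT c, by revert c; decide⟩
    have h1 : RR q q b (clsT s) = θ * b (clsT s) :=
      (sumD hA (q := fun _ => q) (x := q) (y := q) rfl rfl rfl rfl b s).symm.trans (hb s)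
    rw [hs] at h1
    exact h1
  · show q ^ 0 = 1
    exact pow_zero _
  · intro i s his
    show q ^ lenT (stT i s) = q * q ^ lenT s
    rw [lenT_st i s his, pow_succ']
  · have h1 := sum_wt (q : ℚ) (fun c => a c ^ 2)
    have h2 := sum_wt (q : ℚ) (fun _ => 1)
    have e1 : ∑ s, ((q ^ lenT s : ℕ) : ℚ) * a ((tab hA).cls s) ^ 2 = ∑ s : Fin 24, (q : ℚ) ^ lenT s * a (clsT s) ^ 2 :=
      Finset.sum_congr rfl fun s _ => by rw [Nat.cast_pow]; rfl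
    have e2 : ∑ s : Fin 24, ((q ^ lenT s : ℕ) : ℚ) = ∑ s : Fin 24, (q : ℚ) ^ lenT s * 1 :=
      Finset.sum_congr rfl fun s _ => by rw [Nat.cast_pow, mul_one]
    rw [e1, e2, h1, h2]
    simp only [mul_one]
    exact hd

/-- degree `q (q+1)² (q²-q+1)² (q⁴+1) / 2` -/
theorem exists_d1 (d : ℕ) (hd : (d : ℚ) * 2 = q * (q ^ 3 + 1) ^ 2 * (q ^ 4 + 1)) :
    ∃ χ : Y → ℂ, Cfsg.IsIrrCharacter Y χ ∧ (∀ g, ∃ r : ℚ, χ g = r) ∧ χ 1 = d := by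
  have hq0 : (0 : ℚ) < q := by exact_mod_cast (by omega : 0 < q)
  have hq1 : (2 : ℚ) ≤ q := by exact_mod_cast hq2
  refine exists_of R hG hA hq2 hq ((q ^ 2 + 1) * (q + 1) * (q ^ 2 + q - 1)) ?_
    ![1, (q ^ 2 + q - 1) / (q * (q ^ 3 + 1)), (q ^ 3 - 1) / (q ^ 3 * (q ^ 3 + 1)),
      (q ^ 2 - q - 1) / (q ^ 4 * (q ^ 3 + 1)), -1 / q ^ 6] rfl ?_ d ?_
  · have h1 : 0 < (q : ℚ) ^ 2 * (1 + q) := by positivity
    nlinarith [h1, mul_pos hq0 h1, mul_pos hq0 hq0, pow_pos hq0 3, pow_pos hq0 4, pow_pos hq0 5, pow_pos hq0 6]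
  · intro c
    have h3 : (q : ℚ) ^ 3 + 1 ≠ 0 := by positivity
    fin_cases c
    · refine (RR0 _ _).trans ?_
      show (_ : ℚ) * ((q ^ 2 + q - 1) / (q * (q ^ 3 + 1))) = _ * 1
      field_simp
      ring
    · refine (RR1 _ _).trans ?_
      show (1 : ℚ) + _ * ((q ^ 2 + q - 1) / (q * (q ^ 3 + 1))) + _ * ((q ^ 3 - 1) / (q ^ 3 * (q ^ 3 + 1))) +
        _ * ((q ^ 2 - q - 1) / (q ^ 4 * (q ^ 3 + 1))) = _ * ((q ^ 2 + q - 1) / (q * (q ^ 3 + 1)))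
      field_simp
      ring
    · refine (RR2 _ _).trans ?_
      show (_ : ℚ) * ((q ^ 2 + q - 1) / (q * (q ^ 3 + 1))) + _ * ((q ^ 3 - 1) / (q ^ 3 * (q ^ 3 + 1))) +
        _ * ((q ^ 2 - q - 1) / (q ^ 4 * (q ^ 3 + 1))) = _ * ((q ^ 3 - 1) / (q ^ 3 * (q ^ 3 + 1)))
      field_simp
      ring
    · refine (RR3 _ _).trans ?_
      show ((q ^ 2 + q - 1) / (q * (q ^ 3 + 1)) : ℚ) + _ * ((q ^ 3 - 1) / (q ^ 3 * (q ^ 3 + 1))) +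
        _ * ((q ^ 2 - q - 1) / (q ^ 4 * (q ^ 3 + 1))) + _ * (-1 / q ^ 6) = _ * ((q ^ 2 - q - 1) / (q ^ 4 * (q ^ 3 + 1)))
      field_simp
      ring
    · refine (RR4 _ _).trans ?_
      show (_ : ℚ) * ((q ^ 2 - q - 1) / (q ^ 4 * (q ^ 3 + 1))) + _ * (-1 / q ^ 6) = _ * (-1 / q ^ 6)
      field_simp
      ring
  · show (d : ℚ) * ((1 : ℚ) ^ 2 + _ * ((q ^ 2 + q - 1) / (q * (q ^ 3 + 1))) ^ 2 +
      _ * ((q ^ 3 - 1) / (q ^ 3 * (q ^ 3 + 1))) ^ 2 + _ * ((q ^ 2 - q - 1) / (q ^ 4 * (q ^ 3 + 1))) ^ 2 +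
      _ * (-1 / q ^ 6) ^ 2) = _
    have h3 : (q : ℚ) ^ 3 + 1 ≠ 0 := by positivity
    have hd' : (d : ℚ) = q * (q ^ 3 + 1) ^ 2 * (q ^ 4 + 1) / 2 := by rw [← hd]; ring
    rw [hd']
    field_simp
    ring

/-- degree `q² (q²+q+1)² (q²-q+1)² (q⁴-q²+1)` -/
theorem exists_d2 (d : ℕ) (hd : (d : ℚ) = q ^ 2 * (q ^ 4 + q ^ 2 + 1) ^ 2 * (q ^ 4 - q ^ 2 + 1)) :
    ∃ χ : Y → ℂ, Cfsg.IsIrrCharacter Y χ ∧ (∀ g, ∃ r : ℚ, χ g = r) ∧ χ 1 = d := by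
  have hq0 : (0 : ℚ) < q := by exact_mod_cast (by omega : 0 < q)
  have hq1 : (2 : ℚ) ≤ q := by exact_mod_cast hq2
  refine exists_of R hG hA hq2 hq (q ^ 4 - 1) ?_
    ![1, (q - 1) / (q * (q ^ 3 + 1)), -1 / (q ^ 2 * (q ^ 4 + q ^ 2 + 1)),
      -(q - 1) / (q ^ 5 * (q ^ 3 + 1)), 1 / q ^ 8] rfl ?_ d ?_
  · have h1 : 0 < (q : ℚ) * (1 + q) * (1 + q ^ 2) * (1 + q + q ^ 2) := by positivity
    linarith
  · intro c
    have h3 : (q : ℚ) ^ 3 + 1 ≠ 0 := by positivity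
    have h4 : (q : ℚ) ^ 4 + q ^ 2 + 1 ≠ 0 := by positivity
    fin_cases c
    · refine (RR0 _ _).trans ?_
      show (_ : ℚ) * ((q - 1) / (q * (q ^ 3 + 1))) = _ * 1
      field_simp
      ring
    · refine (RR1 _ _).trans ?_
      show (1 : ℚ) + _ * ((q - 1) / (q * (q ^ 3 + 1))) + _ * (-1 / (q ^ 2 * (q ^ 4 + q ^ 2 + 1))) +
        _ * (-(q - 1) / (q ^ 5 * (q ^ 3 + 1))) = _ * ((q - 1) / (q * (q ^ 3 + 1)))
      field_simp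
      ring
    · refine (RR2 _ _).trans ?_
      show (_ : ℚ) * ((q - 1) / (q * (q ^ 3 + 1))) + _ * (-1 / (q ^ 2 * (q ^ 4 + q ^ 2 + 1))) +
        _ * (-(q - 1) / (q ^ 5 * (q ^ 3 + 1))) = _ * (-1 / (q ^ 2 * (q ^ 4 + q ^ 2 + 1)))
      field_simp
      ring
    · refine (RR3 _ _).trans ?_
      show ((q - 1) / (q * (q ^ 3 + 1)) : ℚ) + _ * (-1 / (q ^ 2 * (q ^ 4 + q ^ 2 + 1))) +
        _ * (-(q - 1) / (q ^ 5 * (q ^ 3 + 1))) + _ * (1 / q ^ 8) = _ * (-(q - 1) / (q ^ 5 * (q ^ 3 + 1)))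
      field_simp
      ring
    · refine (RR4 _ _).trans ?_
      show (_ : ℚ) * (-(q - 1) / (q ^ 5 * (q ^ 3 + 1))) + _ * (1 / q ^ 8) = _ * (1 / q ^ 8)
      field_simp
      ring
  · show (d : ℚ) * ((1 : ℚ) ^ 2 + _ * ((q - 1) / (q * (q ^ 3 + 1))) ^ 2 +
      _ * (-1 / (q ^ 2 * (q ^ 4 + q ^ 2 + 1))) ^ 2 + _ * (-(q - 1) / (q ^ 5 * (q ^ 3 + 1))) ^ 2 +
      _ * (1 / q ^ 8) ^ 2) = _
    have h3 : (q : ℚ) ^ 3 + 1 ≠ 0 := by positivity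
    have h4 : (q : ℚ) ^ 4 + q ^ 2 + 1 ≠ 0 := by positivity
    rw [hd]
    field_simp
    ring

/-- degree `q³ (q²+1)² (q⁴+1) (q⁴-q²+1)` -/
theorem exists_d3 (d : ℕ) (hd : (d : ℚ) = q ^ 3 * (q ^ 2 + 1) ^ 2 * (q ^ 4 + 1) * (q ^ 4 - q ^ 2 + 1)) :
    ∃ χ : Y → ℂ, Cfsg.IsIrrCharacter Y χ ∧ (∀ g, ∃ r : ℚ, χ g = r) ∧ χ 1 = d := by
  have hq0 : (0 : ℚ) < q := by exact_mod_cast (by omega : 0 < q)
  have hq1 : (2 : ℚ) ≤ q := by exact_mod_cast hq2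
  refine exists_of R hG hA hq2 hq (-(q ^ 3 + 1)) ?_
    ![1, -1 / (q * (q + 1) * (q ^ 2 + 1)), 0, 1 / (q ^ 5 * (q + 1) * (q ^ 2 + 1)), -1 / q ^ 9] rfl ?_ d ?_
  · nlinarith [mul_pos hq0 hq0, pow_pos hq0 3, pow_pos hq0 4, pow_pos hq0 5, pow_pos hq0 6]
  · intro c
    have h3 : (q : ℚ) + 1 ≠ 0 := by positivity
    have h4 : (q : ℚ) ^ 2 + 1 ≠ 0 := by positivity
    fin_cases c
    · refine (RR0 _ _).trans ?_
      show (_ : ℚ) * (-1 / (q * (q + 1) * (q ^ 2 + 1))) = _ * 1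
      field_simp
      ring
    · refine (RR1 _ _).trans ?_
      show (1 : ℚ) + _ * (-1 / (q * (q + 1) * (q ^ 2 + 1))) + _ * 0 +
        _ * (1 / (q ^ 5 * (q + 1) * (q ^ 2 + 1))) = _ * (-1 / (q * (q + 1) * (q ^ 2 + 1)))
      field_simp
      ring
    · refine (RR2 _ _).trans ?_
      show (_ : ℚ) * (-1 / (q * (q + 1) * (q ^ 2 + 1))) + _ * 0 +
        _ * (1 / (q ^ 5 * (q + 1) * (q ^ 2 + 1))) = _ * 0
      field_simp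
      ring
    · refine (RR3 _ _).trans ?_
      show (-1 / (q * (q + 1) * (q ^ 2 + 1)) : ℚ) + _ * 0 +
        _ * (1 / (q ^ 5 * (q + 1) * (q ^ 2 + 1))) + _ * (-1 / q ^ 9) = _ * (1 / (q ^ 5 * (q + 1) * (q ^ 2 + 1)))
      field_simp
      ring
    · refine (RR4 _ _).trans ?_
      show (_ : ℚ) * (1 / (q ^ 5 * (q + 1) * (q ^ 2 + 1))) + _ * (-1 / q ^ 9) = _ * (-1 / q ^ 9)
      field_simp
      ring
  · show (d : ℚ) * ((1 : ℚ) ^ 2 + _ * (-1 / (q * (q + 1) * (q ^ 2 + 1))) ^ 2 +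
      _ * 0 ^ 2 + _ * (1 / (q ^ 5 * (q + 1) * (q ^ 2 + 1))) ^ 2 +
      _ * (-1 / q ^ 9) ^ 2) = _
    have h3 : (q : ℚ) + 1 ≠ 0 := by positivity
    have h4 : (q : ℚ) ^ 2 + 1 ≠ 0 := by positivity
    rw [hd]
    field_simp
    ring

end main

end Cfsg.Agent.H654.Two.F4Char
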