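import Cfsg.Agent.H53.HC.TwoTwE6
import Cfsg.Agent.H654.Two.F4Char

/-!
# Two characters of degree divisible by `p` for `F₄(q)`, `p ∤ q` and (`p = 2` or `p ∤ q - 1`) (helper654, task 838)

* `two_cross` : the group `chevF4.group K`;
* `two_F4_cross` : a group isomorphic to it.
-/

set_option autoImplicit false
set_option linter.unusedSectionVars false

namespace Cfsg.Agent.H654.Two.F4Row

open Cfsg.Agent.H53.HC Cfsg.Agent.H53.HC.ExcRows Cfsg.Agent.H53.HC.ExcIM Cfsg.Agent.H35.ExcIdx Cfsg.Lie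
  Cfsg.Agent.Nodes.RGDChev Cfsg.Agent.H654.Two.F4Tab Cfsg.Agent.H654.Two.F4Char
open CoxeterSystem Cfsg.Agent.ChevalleyStructure.CoxeterGeom Cfsg.Agent.Tits.Roots Cfsg.Agent.Tits.Core
  Cfsg.Agent.Tits.Exchange Cfsg.Agent.Nodes.Reps Cfsg.Agent.Nodes.BNOf Cfsg.Agent.Nodes.StabComb

universe u

/-- the degrees -/
def D1 (q : ℕ) : ℕ := q * (q ^ 3 + 1) ^ 2 * (q ^ 4 + 1) / 2
/-- the degrees -/
def D2 (q : ℕ) : ℕ := q ^ 2 * (q ^ 4 + q ^ 2 + 1) ^ 2 * (q ^ 4 - q ^ 2 + 1)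
/-- the degrees -/
def D3 (q : ℕ) : ℕ := q ^ 3 * (q ^ 2 + 1) ^ 2 * (q ^ 4 + 1) * (q ^ 4 - q ^ 2 + 1)

theorem D1_two (q : ℕ) : D1 q * 2 = q * (q ^ 3 + 1) ^ 2 * (q ^ 4 + 1) := by
  apply Nat.div_mul_cancel
  rcases Nat.even_or_odd q with h | h
  · exact Dvd.dvd.mul_right (Dvd.dvd.mul_right h.two_dvd _) _
  · have : Even (q ^ 3 + 1) := h.pow.add_one
    exact Dvd.dvd.mul_right (Dvd.dvd.mul_left (Dvd.dvd.pow this.two_dvd two_ne_zero) _) _

theorem cast_sub (R : Type*) [Ring R] {q : ℕ} (hq : 1 ≤ q) : ((q ^ 4 - q ^ 2 + 1 : ℕ) : R) = (q : R) ^ 4 - q ^ 2 + 1 := by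
  have h : q ^ 2 ≤ q ^ 4 := Nat.pow_le_pow_right hq (by norm_num)
  rw [Nat.cast_add, Nat.cast_sub h, Nat.cast_pow, Nat.cast_pow, Nat.cast_one]

theorem cast_D1 {q : ℕ} (R : Type*) [CommRing R] : (D1 q : R) * 2 = (q : R) * (q ^ 3 + 1) ^ 2 * (q ^ 4 + 1) := by
  have h := congrArg (Nat.cast (R := R)) (D1_two q)
  push_cast at h
  exact h

theorem cast_D2 {q : ℕ} (hq : 1 ≤ q) (R : Type*) [CommRing R] :
    (D2 q : R) = (q : R) ^ 2 * (q ^ 4 + q ^ 2 + 1) ^ 2 * (q ^ 4 - q ^ 2 + 1) := by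
  rw [← cast_sub R hq, D2]
  push_cast
  ring

theorem cast_D3 {q : ℕ} (hq : 1 ≤ q) (R : Type*) [CommRing R] :
    (D3 q : R) = (q : R) ^ 3 * (q ^ 2 + 1) ^ 2 * (q ^ 4 + 1) * (q ^ 4 - q ^ 2 + 1) := by
  rw [← cast_sub R hq, D3]
  push_cast
  ring

theorem dvd3 {q : ℕ} (hq : 1 ≤ q) : q ^ 2 + q + 1 ∣ q ^ 6 - 1 := by
  obtain ⟨k, rfl⟩ := Nat.exists_eq_add_of_le' hq
  have : (k + 1) ^ 6 = ((k + 1) ^ 2 + (k + 1) + 1) * (k * ((k + 1) ^ 3 + 1)) + 1 := by ring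
  rw [this, Nat.add_sub_cancel]
  exact Dvd.intro _ rfl

theorem dvd4 {q : ℕ} (hq : 1 ≤ q) : q ^ 2 + 1 ∣ q ^ 8 - 1 := by
  obtain ⟨k, rfl⟩ := Nat.exists_eq_add_of_le' hq
  have : (k + 1) ^ 8 = ((k + 1) ^ 2 + 1) * (k * (k + 2) * ((k + 1) ^ 4 + 1)) + 1 := by ring
  rw [this, Nat.add_sub_cancel]
  exact Dvd.intro _ rfl

/-- a number divisible by all the primes dividing `q² + q + 1` and `q² + 1` is none of the three degrees -/
theorem ne_deg {q N : ℕ} (hq : 2 ≤ q) (h1 : ∀ ℓ : ℕ, ℓ.Prime → ℓ ∣ q ^ 2 + q + 1 → ℓ ∣ N)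
    (h2 : ∀ ℓ : ℕ, ℓ.Prime → ℓ ∣ q ^ 2 + 1 → ℓ ∣ N) : N ≠ D1 q ∧ N ≠ D2 q ∧ N ≠ D3 q := by
  have key : ∃ ℓ : ℕ, ℓ.Prime ∧ ℓ ∣ q ^ 2 + q + 1 := Nat.exists_prime_and_dvd (by
    have := Nat.zero_le (q ^ 2)
    omega)
  obtain ⟨ℓ, hℓ, hd⟩ := key
  have hodd : ℓ ≠ 2 := by
    rintro rfl
    have h3 : Even (q ^ 2 + q) := by
      rw [show q ^ 2 + q = q * (q + 1) by ring]
      exact Nat.even_mul_succ_self q
    have h4 : ¬ Even (q ^ 2 + q + 1) := Nat.not_even_iff_odd.2 h3.add_one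
    exact h4 (even_iff_two_dvd.2 hd)
  have : Fact ℓ.Prime := ⟨hℓ⟩
  have hz : (q : ZMod ℓ) ^ 2 + q + 1 = 0 := by
    have := (ZMod.natCast_eq_zero_iff _ _).2 hd
    push_cast at this
    exact this
  have h2z : (2 : ZMod ℓ) ≠ 0 := by
    intro h
    apply hodd
    have h3 : ((2 : ℕ) : ZMod ℓ) = 0 := by exact_mod_cast h
    exact (Nat.prime_dvd_prime_iff_eq hℓ Nat.prime_two).1 ((ZMod.natCast_eq_zero_iff _ _).1 h3)
  have hN := (ZMod.natCast_eq_zero_iff _ _).2 (h1 ℓ hℓ hd)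
  have h3 : (q : ZMod ℓ) ^ 3 = 1 := by linear_combination ((q : ZMod ℓ) - 1) * hz
  refine ⟨?_, ?_, ?_⟩
  · rintro rfl
    have h4 := cast_D1 (q := q) (ZMod ℓ)
    rw [hN, zero_mul] at h4
    have h5 : (2 : ZMod ℓ) * 2 = 0 := by
      have e4 : (q : ZMod ℓ) ^ 4 = q := by
        rw [pow_succ, h3, one_mul]
      rw [h3, e4] at h4
      linear_combination h4 + 4 * hz
    rcases mul_eq_zero.1 h5 with h | h <;> exact h2z h
  · rintro rfl
    obtain ⟨m, hm, hmd⟩ := Nat.exists_prime_and_dvd (n := q ^ 2 + 1) (by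
      have : 0 < q ^ 2 := by positivity
      omega)
    have : Fact m.Prime := ⟨hm⟩
    have hz' : (q : ZMod m) ^ 2 + 1 = 0 := by
      have := (ZMod.natCast_eq_zero_iff _ _).2 hmd
      push_cast at this
      exact this
    have hN' := (ZMod.natCast_eq_zero_iff _ _).2 (h2 m hm hmd)
    rw [cast_D2 (by omega)] at hN'
    have e2 : (q : ZMod m) ^ 2 = -1 := by linear_combination hz'
    have e4 : (q : ZMod m) ^ 4 = 1 := by
      rw [show (4 : ℕ) = 2 * 2 from rfl, pow_mul, e2]; ring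
    rw [e2, e4] at hN'
    have h5 : ((3 : ℕ) : ZMod m) = 0 := by
      push_cast
      linear_combination -hN'
    have h6 : m = 3 := (Nat.prime_dvd_prime_iff_eq hm Nat.prime_three).1 ((ZMod.natCast_eq_zero_iff _ _).1 h5)
    rw [h6] at hmd
    have h7 : q % 3 = 0 ∨ q % 3 = 1 ∨ q % 3 = 2 := by omega
    rcases h7 with h | h | h <;> simp [Nat.dvd_iff_mod_eq_zero, Nat.add_mod, Nat.pow_mod, h] at hmd
  · rintro rfl
    rw [cast_D3 (by omega)] at hN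
    have e4 : (q : ZMod ℓ) ^ 4 = q := by
      rw [pow_succ, h3, one_mul]
    have h5 : (2 : ZMod ℓ) = 0 := by
      have e2 : (q : ZMod ℓ) ^ 2 = -q - 1 := by linear_combination hz
      rw [h3, e4, e2] at hN
      linear_combination hN - 2 * ((q : ZMod ℓ) ^ 2 + q - 1) * hz
    exact h2z h5

/-- one of the three degrees is divisible by `p` -/
theorem dvd_deg {q p : ℕ} (hq : 2 ≤ q) (hp : p.Prime) (hpq : ¬ p ∣ q) (hc : p = 2 ∨ ¬ p ∣ q - 1)
    (hd : p ∣ q ^ 24 * (q ^ 2 - 1) * (q ^ 6 - 1) * (q ^ 8 - 1) * (q ^ 12 - 1)) :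
    p ∣ D1 q ∨ p ∣ D2 q ∨ p ∣ D3 q := by
  have : Fact p.Prime := ⟨hp⟩
  by_cases hp2 : p = 2
  · subst hp2
    left
    have hodd : Odd q := by
      rw [← Nat.not_even_iff_odd, even_iff_two_dvd]
      exact hpq
    have h1 : Even (q ^ 3 + 1) := hodd.pow.add_one
    obtain ⟨k, hk⟩ := h1.two_dvd
    have h2 := D1_two q
    rw [hk] at h2
    have h3 : D1 q = 2 * (q * k ^ 2 * (q ^ 4 + 1)) := by
      have : D1 q * 2 = 2 * (q * k ^ 2 * (q ^ 4 + 1)) * 2 := by rw [h2]; ring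
      omega
    exact ⟨_, h3⟩
  have hc := hc.resolve_left hp2
  have h1z : (q : ZMod p) - 1 ≠ 0 := by
    intro h
    apply hc
    rw [← ZMod.natCast_eq_zero_iff, Nat.cast_sub (by omega), Nat.cast_one]
    exact h
  have h0z : (q : ZMod p) ≠ 0 := by
    rw [Ne, ZMod.natCast_eq_zero_iff]
    exact hpq
  have h2z : (2 : ZMod p) ≠ 0 := by
    intro h
    apply hp2
    have h3 : ((2 : ℕ) : ZMod p) = 0 := by exact_mod_cast h
    exact (Nat.prime_dvd_prime_iff_eq hp Nat.prime_two).1 ((ZMod.natCast_eq_zero_iff _ _).1 h3)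
  have hcast : ∀ k : ℕ, ((q ^ k - 1 : ℕ) : ZMod p) = (q : ZMod p) ^ k - 1 := fun k => by
    rw [Nat.cast_sub (Nat.one_le_pow _ _ (by omega)), Nat.cast_pow, Nat.cast_one]
  have hprod : ((q : ZMod p) ^ 2 - 1) * ((q : ZMod p) ^ 6 - 1) * ((q : ZMod p) ^ 8 - 1) * ((q : ZMod p) ^ 12 - 1) = 0 := by
    have h := (ZMod.natCast_eq_zero_iff _ _).2 hd
    rw [Nat.cast_mul, Nat.cast_mul, Nat.cast_mul, Nat.cast_mul, hcast, hcast, hcast, hcast, Nat.cast_pow] at h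
    have h24 : (q : ZMod p) ^ 24 ≠ 0 := pow_ne_zero _ h0z
    have : (q : ZMod p) ^ 24 * (((q : ZMod p) ^ 2 - 1) * ((q : ZMod p) ^ 6 - 1) * ((q : ZMod p) ^ 8 - 1) *
        ((q : ZMod p) ^ 12 - 1)) = 0 := by linear_combination h
    exact (mul_eq_zero.1 this).resolve_left h24
  -- the factors
  generalize hx : (q : ZMod p) = x at *
  have hfac : (x + 1) = 0 ∨ (x ^ 2 + x + 1 = 0) ∨ (x ^ 2 - x + 1 = 0) ∨ (x ^ 2 + 1 = 0) ∨ (x ^ 4 + 1 = 0) ∨
      (x ^ 4 - x ^ 2 + 1 = 0) := by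
    have h : (x - 1) ^ 4 * ((x + 1) ^ 4 * (x ^ 2 + x + 1) ^ 2 * (x ^ 2 - x + 1) ^ 2 * (x ^ 2 + 1) ^ 2 * (x ^ 4 + 1) *
        (x ^ 4 - x ^ 2 + 1)) = 0 := by linear_combination hprod
    have h' := (mul_eq_zero.1 h).resolve_left (pow_ne_zero _ h1z)
    rcases mul_eq_zero.1 h' with h' | h'
    · rcases mul_eq_zero.1 h' with h' | h'
      · rcases mul_eq_zero.1 h' with h' | h'
        · rcases mul_eq_zero.1 h' with h' | h'
          · rcases mul_eq_zero.1 h' with h' | h'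
            · exact Or.inl (pow_eq_zero_iff (by norm_num) |>.1 h')
            · exact Or.inr (Or.inl (pow_eq_zero_iff (by norm_num) |>.1 h'))
          · exact Or.inr (Or.inr (Or.inl (pow_eq_zero_iff (by norm_num) |>.1 h')))
        · exact Or.inr (Or.inr (Or.inr (Or.inl (pow_eq_zero_iff (by norm_num) |>.1 h'))))
      · exact Or.inr (Or.inr (Or.inr (Or.inr (Or.inl h'))))
    · exact Or.inr (Or.inr (Or.inr (Or.inr (Or.inr h'))))
  have d1 : x * (x ^ 3 + 1) ^ 2 * (x ^ 4 + 1) = 0 → p ∣ D1 q := by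
    intro h
    rw [← ZMod.natCast_eq_zero_iff]
    have h4 := cast_D1 (q := q) (ZMod p)
    rw [hx, h] at h4
    exact (mul_eq_zero.1 h4).resolve_right h2z
  have d2 : x ^ 2 * (x ^ 4 + x ^ 2 + 1) ^ 2 * (x ^ 4 - x ^ 2 + 1) = 0 → p ∣ D2 q := by
    intro h
    rw [← ZMod.natCast_eq_zero_iff, cast_D2 (by omega), hx, h]
  have d3 : x ^ 3 * (x ^ 2 + 1) ^ 2 * (x ^ 4 + 1) * (x ^ 4 - x ^ 2 + 1) = 0 → p ∣ D3 q := by
    intro h
    rw [← ZMod.natCast_eq_zero_iff, cast_D3 (by omega), hx, h]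
  rcases hfac with h | h | h | h | h | h
  · left; apply d1
    have : x ^ 3 + 1 = 0 := by linear_combination (x ^ 2 - x + 1) * h
    rw [this]; ring
  · right; left; apply d2
    have : x ^ 4 + x ^ 2 + 1 = 0 := by linear_combination (x ^ 2 - x + 1) * h
    rw [this]; ring
  · left; apply d1
    have : x ^ 3 + 1 = 0 := by linear_combination (x + 1) * h
    rw [this]; ring
  · right; right; apply d3
    rw [h]; ring
  · left; apply d1
    rw [h]; ring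
  · right; left; apply d2
    rw [h]; ring

theorem cartan_eq (i k : Fin 4) :
    Cfsg.Agent.ChevalleyStructure.CoxeterGeomTypes.cartanOf chevF4 4 i k = AA i k := by
  have h : ∀ i j : Fin 4, chevF4.cartan i.val (chevF4.simple j) = AA i j := by decide +kernel
  exact h i k

/-- **`F₄(q)`**, `p` not the characteristic, `p = 2` or `p ∤ q - 1`. -/
theorem two_cross {K : Type u} [Field K] [Fintype K] {r f : ℕ} (hr : r.Prime) (hf : f ≠ 0)
    (hK : Fintype.card K = r ^ f) [CharP K r] {p : ℕ} (hp : p.Prime) (hd : p ∣ Nat.card ↥(chevF4.group K))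
    (hpr : p ≠ r) (hc : p = 2 ∨ ¬ p ∣ r ^ f - 1) : H596.OneFacts.Two p ↥(chevF4.group K) := by
  have := finite_group (K := K) chevF4
  have D := data_F4_2 hr hf hK
  have := D.fin
  have h2 := two_le hr hf
  obtain ⟨χ, hχ, N, hN, hall, -⟩ : BigF r (r ^ f) ↥(chevF4.group K) := ExcRows.big_F4 hr hf hK
    (in_A2 D (by decide +kernel) rfl) (in_node D 3 2 (by decide +kernel))
  have hcard := Cfsg.Agent.S1062.result hK
  have hpq : ¬ p ∣ r ^ f := fun h => hpr ((Nat.prime_dvd_prime_iff_eq hp hr).1 (hp.dvd_of_dvd_pow h))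
  have hrq : ∀ ℓ : ℕ, ℓ.Prime → ℓ = r → ℓ ∣ r ^ f := fun ℓ _ h => by rw [h]; exact dvd_pow_self r hf
  have hne := ne_deg (q := r ^ f) (N := N) h2
    (fun ℓ hℓ h => hall ℓ hℓ (by
      rw [hcard]
      exact Dvd.dvd.mul_right (Dvd.dvd.mul_right (Dvd.dvd.mul_left (h.trans (dvd3 (by omega))) _) _) _) (by
      intro e
      have h3 := hrq ℓ hℓ e
      have h4 : ℓ ∣ 1 := by
        have h5 : (r ^ f) ^ 2 + r ^ f + 1 = r ^ f * (r ^ f + 1) + 1 := by ring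
        rw [h5] at h
        exact (Nat.dvd_add_right (Dvd.dvd.mul_right h3 _)).1 h
      exact hℓ.one_lt.ne' (Nat.dvd_one.1 h4)))
    (fun ℓ hℓ h => hall ℓ hℓ (by
      rw [hcard]
      exact Dvd.dvd.mul_right (Dvd.dvd.mul_left (h.trans (dvd4 (by omega))) _) _) (by
      intro e
      have h3 := hrq ℓ hℓ e
      have h4 : ℓ ∣ 1 := by
        have h5 : (r ^ f) ^ 2 + 1 = r ^ f * r ^ f + 1 := by ring
        rw [h5] at h
        exact (Nat.dvd_add_right (Dvd.dvd.mul_right h3 _)).1 h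
      exact hℓ.one_lt.ne' (Nat.dvd_one.1 h4)))
  have hq1 : 1 ≤ r ^ f := by omega
  rw [hcard] at hd
  rcases dvd_deg h2 hp hpq hc hd with h | h | h
  · obtain ⟨ψ, hψ, -, hψ1⟩ := exists_d1 D.rgd D.gg cartan_eq h2 D.size (D1 (r ^ f)) (cast_D1 ℚ)
    exact TwoRows.two_of hχ hψ hN hψ1 (hall p hp (by rw [hcard]; exact hd) hpr) h hne.1
  · obtain ⟨ψ, hψ, -, hψ1⟩ := exists_d2 D.rgd D.gg cartan_eq h2 D.size (D2 (r ^ f)) (cast_D2 hq1 ℚ)
    exact TwoRows.two_of hχ hψ hN hψ1 (hall p hp (by rw [hcard]; exact hd) hpr) h hne.2.1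
  · obtain ⟨ψ, hψ, -, hψ1⟩ := exists_d3 D.rgd D.gg cartan_eq h2 D.size (D3 (r ^ f)) (cast_D3 hq1 ℚ)
    exact TwoRows.two_of hχ hψ hN hψ1 (hall p hp (by rw [hcard]; exact hd) hpr) h hne.2.2

/-- the row -/
theorem two_F4_cross {S : Type*} [Group S] {K : Type u} [Field K] [Fintype K] (e : S ≃* ↥(chevF4.group K)) {r : ℕ}
    [CharP K r] {p : ℕ} (hp : p.Prime) (hd : p ∣ Nat.card S) (hpr : p ≠ r)
    (hc : p = 2 ∨ ¬ p ∣ Fintype.card K - 1) : H596.OneFacts.Two p S := by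
  obtain ⟨f, hr, hf⟩ := FiniteField.card K r
  rw [hf] at hc
  rw [Nat.card_congr e.toEquiv] at hd
  exact TwoRows.Two.of_equiv e (two_cross hr f.ne_zero hf hp hd hpr hc)

end Cfsg.Agent.H654.Two.F4Row
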