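import Cfsg.Agent.H654.Two.Tools
import Cfsg.Agent.H600.AltFix
import Cfsg.Agent.StandardComponent.AltAut

/-!
# An automorphism-invariant of characters of `A_n`, `n ≥ 7` (helper654, task 838)

For a constituent `θ` of the character of `S_n` with beta-set `a < b < c` and a 3-cycle `t`,
`2 n (n-1) (n-2) θ(t) = Q(a,b,c) θ(1)` where `Q = 2 Σβ³ - 15 Σβ² - 3 (Σβ)² + 58 Σβ - 90`. As `Aut A_n = S_n` fixes
the class of 3-cycles, the value of `Q` is invariant.
-/

set_option autoImplicit false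

namespace Cfsg.Agent.H654.Two

open Cfsg Cfsg.Agent.H596.OneFacts Cfsg.Agent.Characters.Core Cfsg.Agent.H614 Cfsg.Agent.H600.AltDeg
open Equiv.Perm

/-- twice the central character polynomial of the 3-cycles -/
def QQ (a b c : ℤ) : ℤ :=
  2 * (a ^ 3 + b ^ 3 + c ^ 3) - 15 * (a ^ 2 + b ^ 2 + c ^ 2) - 3 * (a + b + c) ^ 2 + 58 * (a + b + c) - 90

theorem prod_Ioi (β : Fin 3 → ℤ) :
    ∏ i : Fin 3, ∏ j ∈ Finset.Ioi i, (β j - β i) = (β 1 - β 0) * (β 2 - β 0) * (β 2 - β 1) := by
  have i0 : Finset.Ioi (0 : Fin 3) = {1, 2} := by decide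
  have i1 : Finset.Ioi (1 : Fin 3) = {2} := by decide
  have i2 : Finset.Ioi (2 : Fin 3) = ∅ := by decide
  rw [Fin.prod_univ_three, i0, i1, i2, Finset.prod_pair (by decide), Finset.prod_singleton, Finset.prod_empty, mul_one]

theorem ones3 {n a b c : ℕ} (hs : a + b + c = n + 3) :
    FM (Multiset.replicate n 1) ![a, b, c] * ((a.factorial : ℤ) * b.factorial * c.factorial) =
      n.factorial * (((b : ℤ) - a) * (c - a) * (c - b)) := by
  have h := FM_ones_formula n ![a, b, c] (sum_three hs)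
  have h1 := prod_Ioi (fun i => ((![a, b, c] i : ℕ) : ℤ))
  rw [h1] at h
  rw [Fin.prod_univ_three] at h
  exact h

theorem fact3 {x : ℕ} (h : 3 ≤ x) : (x.factorial : ℤ) = x * (x - 1) * (x - 2) * (x - 3).factorial := by
  obtain ⟨y, rfl⟩ := Nat.exists_eq_add_of_le h
  have e : 3 + y = y + 1 + 1 + 1 := by ring
  have e2 : 3 + y - 3 = y := by omega
  rw [e2, e, Nat.factorial_succ, Nat.factorial_succ, Nat.factorial_succ]
  push_cast
  ring

theorem zero3 {x : ℕ} (h : ¬ 3 ≤ x) : (x : ℤ) * (x - 1) * (x - 2) = 0 := by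
  have : x = 0 ∨ x = 1 ∨ x = 2 := by omega
  rcases this with rfl | rfl | rfl <;> norm_num

theorem three_cycle_value {n a b c : ℕ} (hn : 3 ≤ n) (hs : a + b + c = n + 3) :
    2 * ((n : ℤ) * (n - 1) * (n - 2)) * FM (3 ::ₘ Multiset.replicate (n - 3) 1) ![a, b, c] =
      QQ a b c * FM (Multiset.replicate n 1) ![a, b, c] := by
  have hF : ((a.factorial : ℤ) * b.factorial * c.factorial) ≠ 0 := by positivity
  apply mul_right_cancel₀ hF
  have hone := ones3 hs
  have e0 : dn ![a, b, c] 0 3 = ![a - 3, b, c] := by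
    unfold dn; funext i; fin_cases i <;> simp
  have e1 : dn ![a, b, c] 1 3 = ![a, b - 3, c] := by
    unfold dn; funext i; fin_cases i <;> simp
  have e2 : dn ![a, b, c] 2 3 = ![a, b, c - 3] := by
    unfold dn; funext i; fin_cases i <;> simp
  have T0 : (if 3 ≤ a then FM (Multiset.replicate (n - 3) 1) ![a - 3, b, c] else 0) *
      ((a.factorial : ℤ) * b.factorial * c.factorial) =
      (n - 3).factorial * ((a : ℤ) * (a - 1) * (a - 2)) * (((b : ℤ) - a + 3) * (c - a + 3) * (c - b)) := by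
    split_ifs with h
    · have h1 := ones3 (n := n - 3) (a := a - 3) (b := b) (c := c) (by omega)
      rw [fact3 h]
      have h2 : ((a - 3 : ℕ) : ℤ) = a - 3 := by omega
      rw [h2] at h1
      linear_combination ((a : ℤ) * (a - 1) * (a - 2)) * h1
    · linear_combination (-(n - 3).factorial * (((b : ℤ) - a + 3) * (c - a + 3) * (c - b))) * zero3 h
  have T1 : (if 3 ≤ b then FM (Multiset.replicate (n - 3) 1) ![a, b - 3, c] else 0) *
      ((a.factorial : ℤ) * b.factorial * c.factorial) =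
      (n - 3).factorial * ((b : ℤ) * (b - 1) * (b - 2)) * (((b : ℤ) - 3 - a) * (c - a) * (c - b + 3)) := by
    split_ifs with h
    · have h1 := ones3 (n := n - 3) (a := a) (b := b - 3) (c := c) (by omega)
      rw [fact3 h]
      have h2 : ((b - 3 : ℕ) : ℤ) = b - 3 := by omega
      rw [h2] at h1
      linear_combination ((b : ℤ) * (b - 1) * (b - 2)) * h1
    · linear_combination (-(n - 3).factorial * (((b : ℤ) - 3 - a) * (c - a) * (c - b + 3))) * zero3 h
  have T2 : (if 3 ≤ c then FM (Multiset.replicate (n - 3) 1) ![a, b, c - 3] else 0) *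
      ((a.factorial : ℤ) * b.factorial * c.factorial) =
      (n - 3).factorial * ((c : ℤ) * (c - 1) * (c - 2)) * (((b : ℤ) - a) * (c - 3 - a) * (c - 3 - b)) := by
    split_ifs with h
    · have h1 := ones3 (n := n - 3) (a := a) (b := b) (c := c - 3) (by omega)
      rw [fact3 h]
      have h2 : ((c - 3 : ℕ) : ℤ) = c - 3 := by omega
      rw [h2] at h1
      linear_combination ((c : ℤ) * (c - 1) * (c - 2)) * h1
    · linear_combination (-(n - 3).factorial * (((b : ℤ) - a) * (c - 3 - a) * (c - 3 - b))) * zero3 h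
  have hM : FM (3 ::ₘ Multiset.replicate (n - 3) 1) ![a, b, c] =
      (if 3 ≤ a then FM (Multiset.replicate (n - 3) 1) ![a - 3, b, c] else 0) +
      (if 3 ≤ b then FM (Multiset.replicate (n - 3) 1) ![a, b - 3, c] else 0) +
      (if 3 ≤ c then FM (Multiset.replicate (n - 3) 1) ![a, b, c - 3] else 0) := by
    rw [FM_cons, Fin.sum_univ_three, e0, e1, e2]
    rfl
  have hfn := fact3 hn
  unfold QQ
  rw [hM]
  rw [hfn] at hone
  linear_combination 2 * ((n : ℤ) * (n - 1) * (n - 2)) * (T0 + T1 + T2) -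
    (2 * ((a : ℤ) ^ 3 + b ^ 3 + c ^ 3) - 15 * (a ^ 2 + b ^ 2 + c ^ 2) - 3 * (a + b + c) ^ 2 +
      58 * (a + b + c) - 90) * hone

/-- The ratio of values at an element whose conjugates in the overgroup are conjugate in `N`. -/
theorem ratio {G : Type*} [Group G] [Fintype G] (N : Subgroup G) [N.Normal] [Fintype N] {χ : G → ℂ}
    (hχ : IsIrrCharacter G χ) {θ : N → ℂ} (hθ : IsIrrCharacter N θ)
    (h1 : classInner (fun n : N => χ n) θ ≠ 0) {t : N} (ht : ∀ g : G, IsConj t ((MulAut.conjNormal g : MulAut N) t)) :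
    χ t * θ 1 = χ 1 * θ t := by
  obtain ⟨S, hS, hconj, heq⟩ := Blocks.PrimeNormal.restrict_eq N hχ hθ h1
  have hval : ∀ η ∈ S, (η : N → ℂ) t = θ t := by
    intro η hη
    obtain ⟨g, hg⟩ := hconj η hη
    rw [hg]
    obtain ⟨x, hx⟩ := isConj_iff.1 (ht g)
    show θ ((MulAut.conjNormal g : MulAut N) t) = θ t
    rw [← hx]
    exact (isIrr_isClassFunction hθ) t x
  have hval1 : ∀ η ∈ S, (η : N → ℂ) 1 = θ 1 := by
    intro η hη
    obtain ⟨g, hg⟩ := hconj η hη
    rw [hg]
    show θ ((MulAut.conjNormal g : MulAut N) 1) = θ 1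
    rw [map_one]
  have e1 := congrFun heq t
  have e2 := congrFun heq 1
  rw [Pi.smul_apply, Finset.sum_apply, Finset.sum_congr rfl hval, Finset.sum_const, nsmul_eq_mul, smul_eq_mul] at e1
  rw [Pi.smul_apply, Finset.sum_apply, Finset.sum_congr rfl hval1, Finset.sum_const, nsmul_eq_mul, smul_eq_mul] at e2
  rw [Subgroup.coe_one] at e2
  rw [e1, e2]
  ring

/-- `θ` has the invariant `Q` -/
def Inv (n : ℕ) (θ : alternatingGroup (Fin n) → ℂ) (Q : ℤ) : Prop :=
  ∀ t : alternatingGroup (Fin n), (t : Equiv.Perm (Fin n)).IsThreeCycle →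
    2 * ((n : ℂ) * (n - 1) * (n - 2)) * θ t = Q * θ 1

/-- **The invariant separates orbits of characters.** -/
theorem two_of_inv {n : ℕ} (hn : 7 ≤ n) {p : ℕ} {α β : IrrCharacter (alternatingGroup (Fin n))} {Q Q' : ℤ}
    (hα : Inv n (α : _ → ℂ) Q) (hβ : Inv n (β : _ → ℂ) Q') (hQ : Q ≠ Q')
    (ha : p ∣ charDegree (α : alternatingGroup (Fin n) → ℂ))
    (hb : p ∣ charDegree (β : alternatingGroup (Fin n) → ℂ)) : Two p (alternatingGroup (Fin n)) := by
  refine ⟨α, β, ha, hb, fun σ => ?_⟩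
  by_contra hno
  push Not at hno
  obtain ⟨g, hg⟩ := (Equiv.Perm.exists_with_cycleType_iff (α := Fin n) (m := {3})).2
    ⟨by rw [Fintype.card_fin]; simp; omega, by simp⟩
  have hg3 : g.IsThreeCycle := hg
  have hgA : g ∈ alternatingGroup (Fin n) := hg3.mem_alternatingGroup
  have h1 := hα (σ ⟨g, hgA⟩) (Cfsg.Agent.StandardComponent.AltAut.isThreeCycle_map hn σ hg3)
  have h2 := hβ ⟨g, hgA⟩ hg3
  rw [hno, h2] at h1
  have h3 : (α : alternatingGroup (Fin n) → ℂ) 1 = (β : alternatingGroup (Fin n) → ℂ) 1 := by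
    rw [← hno 1, map_one]
  rw [h3] at h1
  have h4 : (β : alternatingGroup (Fin n) → ℂ) 1 ≠ 0 := by
    obtain ⟨k, hk0, hk⟩ := isIrr_apply_one β.2
    rw [hk]
    exact_mod_cast Nat.pos_iff_ne_zero.1 hk0
  apply hQ
  have h5 := mul_right_cancel₀ h4 h1
  exact_mod_cast h5.symm

/-- **Constituents with known invariant.** -/
theorem exists_alt_inv {n a b c : ℕ} (hn : 5 ≤ n) (hab : a < b) (hbc : b < c)
    (hs : a + b + c = n + 3) : ∃ θ : IrrCharacter (alternatingGroup (Fin n)), Inv n (θ : _ → ℂ) (QQ a b c) ∧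
      (dg n a b c = charDegree (θ : alternatingGroup (Fin n) → ℂ) ∨
      (dg n a b c = 2 * charDegree (θ : alternatingGroup (Fin n) → ℂ) ∧
        ∀ g : Equiv.Perm (Fin n), g ∉ alternatingGroup (Fin n) → FM (ty g) ![a, b, c] = 0)) := by
  classical
  have : Nontrivial (Fin n) := Fin.nontrivial_iff_two_le.2 (by omega)
  have hmono : StrictMono ![a, b, c] := by
    rw [Fin.strictMono_iff_lt_succ]
    intro i
    fin_cases i <;> simp <;> omega
  have hs' : ∑ i, ![a, b, c] i = Fintype.card (Fin n) + ∑ i : Fin 3, (i : ℕ) := by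
    rw [sum_three hs, Fintype.card_fin]
  have hχ := isIrr_ch hmono hs'
  have hpos := FM_ones_pos n hmono (sum_three hs)
  have hdgv : FM (Multiset.replicate n 1) ![a, b, c] = (dg n a b c : ℤ) := by unfold dg; omega
  have h1 : ch (Fin n) ![a, b, c] 1 = (dg n a b c : ℂ) := by
    rw [ch_apply, ty_one, Fintype.card_fin, hdgv]
    norm_cast
  obtain ⟨θ, hθ⟩ := exists_constituent (alternatingGroup (Fin n)) hχ
  have hdeg : (θ : alternatingGroup (Fin n) → ℂ) 1 = (charDegree (θ : alternatingGroup (Fin n) → ℂ) : ℂ) := by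
    obtain ⟨k, -, hk⟩ := isIrr_apply_one θ.2
    rw [H670.PSing.charDegree_eq_of hk, hk]
  refine ⟨θ, ?_, ?_⟩
  · intro t ht
    have hr := ratio (alternatingGroup (Fin n)) hχ θ.2 hθ (t := t) (by
      intro g
      apply alternatingGroup.isThreeCycle_isConj (by rw [Nat.card_eq_fintype_card, Fintype.card_fin]; exact hn) ht
      rw [MulAut.conjNormal_apply]
      rw [IsThreeCycle, Equiv.Perm.cycleType_conj]
      exact ht)
    have h3 := three_cycle_value (n := n) (a := a) (b := b) (c := c) (by omega) hs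
    have hty : ty (t : Equiv.Perm (Fin n)) = 3 ::ₘ Multiset.replicate (n - 3) 1 := by
      rw [ty_eq, ht.cycleType, Fintype.card_fin]
      simp
    have hchi : 2 * ((n : ℂ) * (n - 1) * (n - 2)) * ch (Fin n) ![a, b, c] t =
        (QQ a b c : ℤ) * ch (Fin n) ![a, b, c] 1 := by
      rw [ch_apply, ch_apply, hty, ty_one, Fintype.card_fin]
      have h4 := congrArg (fun z : ℤ => (z : ℂ)) h3
      push_cast at h4 ⊢
      exact h4
    have hne : ch (Fin n) ![a, b, c] 1 ≠ 0 := by
      rw [h1]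
      have := dg_pos (n := n) hab.ne (by omega : a ≠ c) hbc.ne hs
      exact_mod_cast this.ne'
    apply mul_left_cancel₀ hne
    linear_combination (-2 * ((n : ℂ) * (n - 1) * (n - 2))) * hr +
      ((θ : alternatingGroup (Fin n) → ℂ) 1) * hchi
  · rcases restrict_two (alternatingGroup (Fin n)) alternatingGroup.index_eq_two hχ θ.2 hθ with h | ⟨h, h'⟩
    · left
      have h2 := h 1
      rw [OneMemClass.coe_one, h1, hdeg] at h2
      exact_mod_cast h2
    · right
      refine ⟨?_, fun g hg => ?_⟩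
      · rw [h1, hdeg] at h
        exact_mod_cast h
      · have h2 := h' g hg
        rw [ch_apply] at h2
        exact_mod_cast h2

/-- `A_n` has a character of degree divisible by `p` with invariant `Q` -/
def Has (p n : ℕ) (Q : ℤ) : Prop :=
  ∃ θ : IrrCharacter (alternatingGroup (Fin n)), Inv n (θ : _ → ℂ) Q ∧
    p ∣ charDegree (θ : alternatingGroup (Fin n) → ℂ)

theorem two_of_has {n : ℕ} (hn : 7 ≤ n) {p : ℕ} {Q Q' : ℤ} (h : Has p n Q) (h' : Has p n Q') (hQ : Q ≠ Q') :
    Two p (alternatingGroup (Fin n)) := by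
  obtain ⟨α, h1, h2⟩ := h
  obtain ⟨β, h3, h4⟩ := h'
  exact two_of_inv hn h1 h3 hQ h2 h4

/-- odd primes -/
theorem has_odd {n a b c p : ℕ} (hn : 5 ≤ n) (hab : a < b) (hbc : b < c)
    (hs : a + b + c = n + 3) (hp : Odd p) (hd : p ∣ dg n a b c) : Has p n (QQ a b c) := by
  obtain ⟨θ, hi, h | ⟨h, -⟩⟩ := exists_alt_inv hn hab hbc hs
  · exact ⟨θ, hi, h ▸ hd⟩
  · refine ⟨θ, hi, ?_⟩
    rw [h] at hd
    exact Nat.Coprime.dvd_of_dvd_mul_left (Nat.coprime_two_right.2 hp) hd

/-- an even cycle on which the character does not vanish -/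
theorem has_two {n a b c L m : ℕ} (hn : 5 ≤ n) (hab : a < b) (hbL : b < L) (hLc : L ≤ c)
    (ha : a ≠ c - L) (hb : b ≠ c - L) (hs : a + b + c = n + 3) (hLn : L ≤ n) (hL : Even L) (hL0 : 0 < L)
    (hd : m ∣ dg n a b c) : Has m n (QQ a b c) := by
  obtain ⟨θ, hi, h | ⟨-, h⟩⟩ := exists_alt_inv hn hab (by omega : b < c) hs
  · exact ⟨θ, hi, h ▸ hd⟩
  · exfalso
    have h2 : 2 ≤ L := by
      obtain ⟨k, hk⟩ := hL
      omega
    obtain ⟨g, hg⟩ := (Equiv.Perm.exists_with_cycleType_iff (α := Fin n) (m := {L})).2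
      ⟨by rw [Fintype.card_fin]; simpa using hLn, by simpa using h2⟩
    have h3 := h g (by
      rw [Equiv.Perm.mem_alternatingGroup, Equiv.Perm.sign_of_cycleType, hg]
      simp only [Multiset.sum_singleton, Multiset.card_singleton]
      rw [(hL.add_one).neg_one_pow]
      decide)
    refine FM_cycle_ne hab.ne (by omega) hbL hLc ha hb hs hLn ?_
    rw [ty_eq, hg, Fintype.card_fin] at h3
    simpa using h3

/-- fourfold divisibility -/
theorem has_four {n a b c : ℕ} (hn : 5 ≤ n) (hab : a < b) (hbc : b < c)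
    (hs : a + b + c = n + 3) (hd : 4 ∣ dg n a b c) : Has 2 n (QQ a b c) := by
  obtain ⟨θ, hi, h | ⟨h, -⟩⟩ := exists_alt_inv hn hab hbc hs
  · exact ⟨θ, hi, h ▸ (Dvd.intro 2 (by norm_num)).trans hd⟩
  · refine ⟨θ, hi, ?_⟩
    rw [h] at hd
    omega

end Cfsg.Agent.H654.Two
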