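import Cfsg.Agent.H654.Two.PslPair
import Cfsg.Agent.H464.PslDeg
import Cfsg.Agent.S2300
import Cfsg.Agent.S2602
import Cfsg.Agent.H664.R1.PSLTwo
import Cfsg.Agent.H548.Crit

/-!
# The row `PSL(2,q)` of `FactTwo` (helper654, task 838)
-/

set_option autoImplicit false
set_option linter.unusedSectionVars false

namespace Cfsg.Agent.H654.Two

open Matrix Cfsg Cfsg.Agent.Characters.Core Cfsg.Agent.H596.OneFacts
open Cfsg.Agent.ClassicalGeometry.AutPSL.Auto (cj fld lift lift_pr coe_cj coe_fld_apply)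
open Cfsg.Agent.H597.L2Aut (exists_frob surj)

universe u

theorem odd_pow_bound {r f : ℕ} (hr : r.Prime) (hr2 : r ≠ 2) (h11 : 11 ≤ r ^ f) {i : ℕ} (hi : i < f) :
    2 * r ^ i + 5 < r ^ f := by
  have hr3 : 3 ≤ r := by
    have := hr.two_le
    omega
  obtain ⟨k, rfl⟩ : ∃ k, f = k + 1 := ⟨f - 1, by omega⟩
  have h1 : r ^ i ≤ r ^ k := Nat.pow_le_pow_right hr.pos (by omega)
  rw [pow_succ] at h11 ⊢
  rcases Nat.eq_zero_or_pos k with h0 | h0
  · subst h0
    rw [pow_zero] at h1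
    rw [pow_zero, one_mul] at h11 ⊢
    omega
  · rcases Nat.lt_or_ge r 5 with h5 | h5
    · have h3 : r = 3 := by
        have h4 : r ≠ 4 := by rintro rfl; exact absurd hr (by norm_num)
        omega
      subst h3
      have h6 : k ≠ 1 := by
        rintro rfl
        norm_num at h11
      have h7 : 3 ^ 2 ≤ 3 ^ k := Nat.pow_le_pow_right (by norm_num) (by omega)
      omega
    · have h7 : 5 ^ 1 ≤ r ^ k := (Nat.pow_le_pow_left h5 1).trans (Nat.pow_le_pow_right hr.pos h0)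
      have h8 : r ^ k * 5 ≤ r ^ k * r := Nat.mul_le_mul_left _ h5
      omega

theorem not_dvd_of_odd {N k : ℕ} (hodd : k % 2 = 1) (h : k + 2 < N) :
    ¬ ((N : ℤ) ∣ (k : ℤ) - 2 ∨ (N : ℤ) ∣ (k : ℤ) + 2) := by
  rintro (h1 | h1)
  · rcases Nat.lt_or_ge k 2 with h2 | h2
    · have hk : k = 1 := by omega
      subst hk
      have := Int.le_of_dvd (by norm_num) ((dvd_neg.2 h1) : (N : ℤ) ∣ -(((1 : ℕ) : ℤ) - 2))
      norm_num at this
      omega
    · have h3 : k ≠ 2 := by rintro rfl; norm_num at hodd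
      have := Int.le_of_dvd (by omega) h1
      omega
  · have := Int.le_of_dvd (by omega) h1
    omega

section odd

variable {F : Type*} [Field F] [Fintype F]

local notation "PSL" => Matrix.ProjectiveSpecialLinearGroup (Fin 2) F

theorem two_of_pair {m : ℕ} (hq : Fintype.card F = 2 * m + 1) (hm : 4 < m) {p : ℕ} {N : ℕ} (hN : m ≤ N)
    {θ η : PSL → ℂ} (hθ : IsIrrCharacter PSL θ) (hη : IsIrrCharacter PSL η) (h1 : p ∣ charDegree θ)
    (h2 : p ∣ charDegree η) {r f : ℕ} [hr : Fact r.Prime] [CharP F r] (hF : Fintype.card F = r ^ f)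
    (h : ∀ (A : GL (Fin 2) F) (σ : F ≃+* F) (i : ℕ),
        (∀ a, σ a = a ^ r ^ i) → (∀ s, θ ((lift (cj A * fld σ) : MulAut PSL) s) = η s) →
          (N : ℤ) ∣ (r ^ i : ℕ) - 2 ∨ (N : ℤ) ∣ (r ^ i : ℕ) + 2) : Two p PSL := by
  refine ⟨⟨θ, hθ⟩, ⟨η, hη⟩, h1, h2, fun σ => ?_⟩
  by_contra hcon
  push Not at hcon
  obtain ⟨A, τ, rfl⟩ := surj σ
  obtain ⟨i, hi, hi'⟩ := exists_frob hF τ
  have hr2 : r ≠ 2 := by
    rintro rfl
    have h3 : f ≠ 0 := by omega
    have : 2 ∣ 2 ^ f := dvd_pow_self 2 h3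
    omega
  have hb := odd_pow_bound hr.out hr2 (by omega : 11 ≤ r ^ f) hi
  refine not_dvd_of_odd ?_ (by omega) (h A τ i hi' hcon)
  exact Nat.odd_iff.1 ((hr.out.odd_of_ne_two hr2).pow)

/-- **`PSL(2,q)`, `q > 5` odd**, in cross characteristic. -/
theorem two_psl_odd (ho : Odd (Fintype.card F)) (h5 : 5 < Fintype.card F) {p : ℕ} (hp : p.Prime)
    (hpF : ¬ p ∣ Fintype.card F) (hd : p ∣ Nat.card PSL) : Two p PSL := by
  classical
  obtain ⟨r, hc⟩ := CharP.exists F
  obtain ⟨f, hr, hF⟩ := FiniteField.card F r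
  have : Fact r.Prime := ⟨hr⟩
  obtain ⟨m, hm⟩ := ho
  obtain ⟨-, d1, d2⟩ := H664.R1.PSLTwo.degrees_odd (F := F) ⟨m, hm⟩ h5
  have hd' : p ∣ (Fintype.card F + 1) * (Fintype.card F - 1) := by
    have h1 : (Fintype.card F + 1) * (Fintype.card F - 1) = Fintype.card F ^ 2 - 1 := by
      have := Nat.sq_sub_sq (Fintype.card F) 1
      rw [one_pow] at this
      exact this.symm
    have h2 : p ∣ Fintype.card F * (Fintype.card F ^ 2 - 1) := by
      rw [← SmallSimple.PSLTwoPart.card_psl_two_odd ⟨m, hm⟩]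
      exact hd.mul_left _
    rw [h1]
    exact (hp.dvd_mul.1 h2).resolve_left hpF
  by_cases hp2 : p = 2
  · subst hp2
    refine of_degrees d1 d2 ?_ ?_ ?_ <;> omega
  -- odd primes
  have hpo : ¬ p ∣ 2 := fun h => hp2 ((Nat.prime_dvd_prime_iff_eq hp Nat.prime_two).1 h)
  have e1 : Fintype.card F + 1 = 2 * (m + 1) := by omega
  have e2 : Fintype.card F - 1 = 2 * m := by omega
  rw [e1] at d1 hd'
  rw [e2] at d2 hd'
  have half : ∀ {d : ℕ}, (d = m ∨ d = m + 1) → Odd d → d ∈ charDegrees PSL := by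
    intro d hd hodd
    obtain ⟨θ, hθ, rfl⟩ := H597.L2Char.exists_half hm (by omega) hd hodd
    exact ⟨⟨θ, hθ⟩, rfl⟩
  rcases hp.dvd_mul.1 hd' with h | h
  · have h' := (hp.dvd_mul.1 h).resolve_left hpo
    rcases Nat.lt_or_ge 4 m with h4 | h4
    · obtain ⟨θ, η, hθ, hη, hθd, hηd, hne⟩ := R_pair (F := F) (p := r) h4 hm
      refine two_of_pair hm h4 (N := m) le_rfl hθ hη ?_ ?_ hF hne
      · rw [hθd]; exact h'.mul_left 2
      · rw [hηd]; exact h'.mul_left 2
    · rcases Nat.even_or_odd m with he | he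
      · exact of_degrees (half (Or.inr rfl) he.add_one) d1 h' (h'.mul_left 2) (by omega)
      · exfalso
        have hm3 : m = 3 := by
          obtain ⟨k, hk⟩ := he
          omega
        rw [hm3] at h'
        have : p ∣ 2 * 2 := h'
        rcases hp.dvd_mul.1 this with h | h <;> exact hpo h
  · have h' := (hp.dvd_mul.1 h).resolve_left hpo
    rcases Nat.lt_or_ge 4 m with h4 | h4
    · obtain ⟨θ, η, hθ, hη, hθd, hηd, hne⟩ := X_pair (F := F) (p := r) h4 hm
      refine two_of_pair hm h4 (N := m + 1) (Nat.le_succ m) hθ hη ?_ ?_ hF hne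
      · rw [hθd]; exact h'.mul_left 2
      · rw [hηd]; exact h'.mul_left 2
    · rcases Nat.even_or_odd m with he | he
      · exfalso
        have hm4 : m = 4 := by
          obtain ⟨k, hk⟩ := he
          omega
        rw [hm4] at h'
        have : p ∣ 2 * 2 := h'
        rcases hp.dvd_mul.1 this with h | h <;> exact hpo h
      · exact of_degrees (half (Or.inl rfl) he) d2 h' (h'.mul_left 2) (by omega)

end odd

section five

theorem exists_field_four : ∃ (F : Type) (_ : Field F) (_ : Fintype F), CharP F 2 ∧ Fintype.card F = 4 := by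
  let K := GaloisField 2 2
  have : Fintype K := Fintype.ofFinite K
  refine ⟨K, inferInstance, this, inferInstance, ?_⟩
  rw [← Nat.card_eq_fintype_card, GaloisField.card 2 2 (by norm_num)]
  norm_num

theorem equiv_four {F : Type*} [Field F] [Fintype F] (hF : Fintype.card F = 4) :
    Nonempty (Matrix.ProjectiveSpecialLinearGroup (Fin 2) F ≃* alternatingGroup (Fin 5)) := by
  apply OddCyclic.T1Socle.equiv_alternating (F' := F) (by rw [hF]; norm_num)
  have h := SmallSimple.PSLTwoPart.card_psl_two_even (F := F) (by rw [hF]; decide)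
  rw [hF] at h
  omega

theorem equiv_five {F : Type*} [Field F] [Fintype F] (hF : Fintype.card F = 5) :
    Nonempty (Matrix.ProjectiveSpecialLinearGroup (Fin 2) F ≃* alternatingGroup (Fin 5)) := by
  apply OddCyclic.T1Socle.equiv_alternating (F' := F) (by rw [hF]; norm_num)
  have h := SmallSimple.PSLTwoPart.card_psl_two_odd (F := F) (by rw [hF]; decide)
  rw [hF] at h
  omega

/-- **`A₅`.** -/
theorem twoOr_alt_five {p : ℕ} (hp : p.Prime) (hd : p ∣ 60) : TwoOr p (alternatingGroup (Fin 5)) := by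
  have h0 : p = 2 ∨ p = 3 ∨ p = 5 := by
    have h1 : p ∣ 2 * (2 * (3 * 5)) := hd
    rcases hp.dvd_mul.1 h1 with h | h
    · exact Or.inl ((Nat.prime_dvd_prime_iff_eq hp Nat.prime_two).1 h)
    rcases hp.dvd_mul.1 h with h | h
    · exact Or.inl ((Nat.prime_dvd_prime_iff_eq hp Nat.prime_two).1 h)
    rcases hp.dvd_mul.1 h with h | h
    · exact Or.inr (Or.inl ((Nat.prime_dvd_prime_iff_eq hp Nat.prime_three).1 h))
    · exact Or.inr (Or.inr ((Nat.prime_dvd_prime_iff_eq hp Nat.prime_five).1 h))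
  rcases h0 with rfl | rfl | rfl
  · obtain ⟨F, i1, i2, h1, h2⟩ := exists_field_four
    obtain ⟨e⟩ := equiv_four h2
    exact Or.inr (Or.inl ⟨F, i1, i2, h1, by rw [h2], ⟨e.symm⟩⟩)
  · exact Or.inr (Or.inr ⟨rfl, Or.inr (Or.inl ⟨MulEquiv.refl _⟩)⟩)
  · have : Fact (Nat.Prime 5) := ⟨Nat.prime_five⟩
    have h2 : Fintype.card (ZMod 5) = 5 := ZMod.card 5
    obtain ⟨e⟩ := equiv_five h2
    exact Or.inr (Or.inl ⟨ZMod 5, inferInstance, inferInstance, inferInstance, by rw [h2]; norm_num, ⟨e.symm⟩⟩)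

end five

section even

variable {F : Type*} [Field F] [Fintype F] [CharP F 2]

theorem card_out_even {f : ℕ} (hF : Fintype.card F = 2 ^ f) (h4 : 4 ≤ Fintype.card F) :
    Nat.card (Out (Matrix.SpecialLinearGroup (Fin 2) F)) = f := by
  have : Fact (Nat.Prime 2) := ⟨Nat.prime_two⟩
  obtain ⟨e⟩ := WeakTI.PslTwo.nonempty_equiv (F := F)
  have hf : 1 ≤ f := by
    by_contra h
    have : f = 0 := by omega
    rw [this, pow_zero] at hF
    omega
  rw [H548.Crit.card_out_congr e]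
  obtain ⟨φ, hφ, -, hker⟩ := Cfsg.Agent.S2602.result (F := F) (p := 2) (f := f) hf hF (by omega)
  have h1 := Subgroup.card_mul_index φ.ker
  have h3 : Nat.gcd 2 (2 ^ f - 1) = 1 := by
    have h5 : 2 ∣ 2 ^ f := dvd_pow_self 2 (by omega)
    have h6 : 1 ≤ 2 ^ f := Nat.one_le_two_pow
    have h7 : ¬ 2 ∣ 2 ^ f - 1 := by omega
    exact (Nat.Prime.coprime_iff_not_dvd Nat.prime_two).2 h7
  rw [Subgroup.index_ker, MonoidHom.range_eq_top.2 hφ, Subgroup.card_top, hker,
    Nat.card_congr Multiplicative.toAdd, Nat.card_zmod, h3, one_mul] at h1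
  exact h1.symm

theorem two_sl_even {f : ℕ} (hF : Fintype.card F = 2 ^ f) (h3 : 3 ≤ f) {p : ℕ}
    (hd : p ∣ 2 ^ f - 1 ∨ (p ∣ 2 ^ f + 1 ∧ 4 ≤ f)) : Two p (Matrix.SpecialLinearGroup (Fin 2) F) := by
  have h4 : 4 ≤ Fintype.card F := by
    rw [hF]
    calc 4 ≤ 2 ^ 3 := by norm_num
      _ ≤ 2 ^ f := Nat.pow_le_pow_right (by norm_num) h3
  have hout := card_out_even hF h4
  obtain ⟨-, hS⟩ := S2300.result (F := F)
  obtain ⟨-, -, h5, h6⟩ := hS h4
  rcases hd with hd | ⟨hd, hf4⟩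
  · refine of_card {χ : IrrCharacter (Matrix.SpecialLinearGroup (Fin 2) F) |
      (χ : Matrix.SpecialLinearGroup (Fin 2) F → ℂ) 1 = (Fintype.card F : ℂ) - 1} ?_ ?_
    · intro χ hχ
      have h7 : charDegree (χ : Matrix.SpecialLinearGroup (Fin 2) F → ℂ) = 2 ^ f - 1 := by
        apply Cfsg.Agent.Blocks.Basic.charDegree_of_eq
        have h8 : (χ : Matrix.SpecialLinearGroup (Fin 2) F → ℂ) 1 = (Fintype.card F : ℂ) - 1 := hχ
        rw [h8, hF, Nat.cast_sub Nat.one_le_two_pow]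
        push_cast
        rfl
      rw [h7]; exact hd
    · rw [hout]
      have h9 : Nat.card {χ : IrrCharacter (Matrix.SpecialLinearGroup (Fin 2) F) //
        (χ : Matrix.SpecialLinearGroup (Fin 2) F → ℂ) 1 = (Fintype.card F : ℂ) - 1} = Fintype.card F / 2 := h6
      show f < Nat.card {χ : IrrCharacter (Matrix.SpecialLinearGroup (Fin 2) F) //
        (χ : Matrix.SpecialLinearGroup (Fin 2) F → ℂ) 1 = (Fintype.card F : ℂ) - 1}
      rw [h9, hF]
      obtain ⟨k, rfl⟩ : ∃ k, f = k + 3 := ⟨f - 3, by omega⟩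
      have h10 : k < 2 ^ k := Nat.lt_two_pow_self
      rw [pow_add]
      omega
  · refine of_card {χ : IrrCharacter (Matrix.SpecialLinearGroup (Fin 2) F) |
      (χ : Matrix.SpecialLinearGroup (Fin 2) F → ℂ) 1 = (Fintype.card F : ℂ) + 1} ?_ ?_
    · intro χ hχ
      have h7 : charDegree (χ : Matrix.SpecialLinearGroup (Fin 2) F → ℂ) = 2 ^ f + 1 := by
        apply Cfsg.Agent.Blocks.Basic.charDegree_of_eq
        have h8 : (χ : Matrix.SpecialLinearGroup (Fin 2) F → ℂ) 1 = (Fintype.card F : ℂ) + 1 := hχ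
        rw [h8, hF]
        push_cast
        rfl
      rw [h7]; exact hd
    · rw [hout]
      have h9 : Nat.card {χ : IrrCharacter (Matrix.SpecialLinearGroup (Fin 2) F) //
        (χ : Matrix.SpecialLinearGroup (Fin 2) F → ℂ) 1 = (Fintype.card F : ℂ) + 1} = (Fintype.card F - 2) / 2 := h5
      show f < Nat.card {χ : IrrCharacter (Matrix.SpecialLinearGroup (Fin 2) F) //
        (χ : Matrix.SpecialLinearGroup (Fin 2) F → ℂ) 1 = (Fintype.card F : ℂ) + 1}
      rw [h9, hF]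
      obtain ⟨k, rfl⟩ : ∃ k, f = k + 4 := ⟨f - 4, by omega⟩
      have h10 : k < 2 ^ k := Nat.lt_two_pow_self
      rw [pow_add]
      omega

end even

/-- **`PSL(2,F)`**, `|F| ≥ 4`. -/
theorem twoOr_psl {F : Type} [Field F] [Fintype F] (h4 : 4 ≤ Fintype.card F) {p : ℕ} (hp : p.Prime)
    (hd : p ∣ Nat.card (Matrix.ProjectiveSpecialLinearGroup (Fin 2) F)) :
    TwoOr p (Matrix.ProjectiveSpecialLinearGroup (Fin 2) F) := by
  obtain ⟨r, hc⟩ := CharP.exists F
  obtain ⟨f, hr, hF⟩ := FiniteField.card F r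
  by_cases hpr : p ∣ Fintype.card F
  · rw [hF] at hpr
    have : p = r := (Nat.prime_dvd_prime_iff_eq hp hr).1 (hp.dvd_of_dvd_pow hpr)
    subst this
    exact Or.inr (Or.inl ⟨F, inferInstance, inferInstance, hc, h4, ⟨MulEquiv.refl _⟩⟩)
  by_cases h5 : Fintype.card F = 5
  · obtain ⟨e⟩ := equiv_five h5
    rw [Nat.card_congr e.toEquiv, nat_card_alternatingGroup] at hd
    exact congr_or e (twoOr_alt_five hp (by simpa [Nat.factorial] using hd))
  by_cases h4' : Fintype.card F = 4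
  · obtain ⟨e⟩ := equiv_four h4'
    rw [Nat.card_congr e.toEquiv, nat_card_alternatingGroup] at hd
    exact congr_or e (twoOr_alt_five hp (by simpa [Nat.factorial] using hd))
  rcases Nat.even_or_odd (Fintype.card F) with he | ho
  · have hr2 : ringChar F = 2 := FiniteField.even_card_iff_char_two.2 (Nat.even_iff.1 he)
    have hc2 : CharP F 2 := hr2 ▸ ringChar.charP F
    have hr' : r = 2 := CharP.eq F hc hc2
    subst hr'
    rw [SmallSimple.PSLTwoPart.card_psl_two_even he] at hd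
    have hd2 := (hp.dvd_mul.1 hd).resolve_left hpr
    rw [hF] at hd2 h4'
    have h1 : (2 ^ (f : ℕ)) ^ 2 - 1 = (2 ^ (f : ℕ) + 1) * (2 ^ (f : ℕ) - 1) := by
      have := Nat.sq_sub_sq (2 ^ (f : ℕ)) 1
      rwa [one_pow] at this
    rw [h1] at hd2
    have hf3 : 3 ≤ (f : ℕ) := by
      have h6 : (f : ℕ) ≠ 1 := by intro h; rw [hF, h] at h4; norm_num at h4
      have h7 : (f : ℕ) ≠ 2 := by intro h; rw [h] at h4'; norm_num at h4'
      have := f.pos
      omega
    obtain ⟨e⟩ := WeakTI.PslTwo.nonempty_equiv (F := F)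
    rcases hp.dvd_mul.1 hd2 with h | h
    · by_cases hf4 : 4 ≤ (f : ℕ)
      · exact Or.inl (congr e.symm (two_sl_even hF hf3 (Or.inr ⟨h, hf4⟩)))
      · have hf : (f : ℕ) = 3 := by omega
        rw [hf] at h hF
        have h9 : p ∣ 3 * 3 := h
        have hp3 : p = 3 := by
          rcases hp.dvd_mul.1 h9 with h | h <;> exact (Nat.prime_dvd_prime_iff_eq hp Nat.prime_three).1 h
        exact Or.inr (Or.inr ⟨hp3, Or.inr (Or.inr ⟨F, inferInstance, inferInstance, hF, ⟨MulEquiv.refl _⟩⟩)⟩)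
    · exact Or.inl (congr e.symm (two_sl_even hF hf3 (Or.inl h)))
  · refine Or.inl (two_psl_odd ho ?_ hp hpr hd)
    rw [Nat.odd_iff] at ho
    omega

/-- The row. -/
theorem two_psl_two (S : Type u) [Group S] {F : Type} [Field F] [Fintype F] (h4 : 4 ≤ Fintype.card F)
    (e : S ≃* Matrix.ProjectiveSpecialLinearGroup (Fin 2) F) {p : ℕ} (hp : p.Prime) (hd : p ∣ Nat.card S) :
    TwoOr p S := by
  rw [Nat.card_congr e.toEquiv] at hd
  exact congr_or e (twoOr_psl h4 hp hd)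

end Cfsg.Agent.H654.Two
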