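import Cfsg.Agent.H654.Two.AltInv
import Cfsg.Agent.H654.Two.PslRow
import Cfsg.Agent.S0254

/-!
# Two orbits of characters of degree divisible by `p`: alternating groups (helper654, task 838)
-/

set_option autoImplicit false

namespace Cfsg.Agent.H654.Two

open Cfsg Cfsg.Agent.H596.OneFacts Cfsg.Agent.Characters.Core Cfsg.Agent.H614 Cfsg.Agent.H600.AltDeg

theorem QQ_swap12 (a b c : ℤ) : QQ b a c = QQ a b c := by unfold QQ; ring
theorem QQ_swap23 (a b c : ℤ) : QQ a c b = QQ a b c := by unfold QQ; ring

theorem Gd_swap12 {p a b c : ℕ} (h : Gd p a b c) : Gd p b a c := by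
  unfold Gd np at *
  have e0 : (if b % p = a % p then 1 else 0) = (if a % p = b % p then 1 else 0) := if_congr eq_comm rfl rfl
  rw [e0]
  have e : (if a % p = b % p then 1 else 0) + (if b % p = c % p then 1 else 0) + (if a % p = c % p then 1 else 0) =
    (if a % p = b % p then 1 else 0) + (if a % p = c % p then 1 else 0) + (if b % p = c % p then 1 else 0) := by ring
  rw [e]
  omega

theorem Gd_swap23 {p a b c : ℕ} (h : Gd p a b c) : Gd p a c b := by
  unfold Gd np at *
  have e0 : (if c % p = b % p then 1 else 0) = (if b % p = c % p then 1 else 0) := if_congr eq_comm rfl rfl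
  rw [e0]
  have e : (if a % p = c % p then 1 else 0) + (if a % p = b % p then 1 else 0) + (if b % p = c % p then 1 else 0) =
    (if a % p = b % p then 1 else 0) + (if a % p = c % p then 1 else 0) + (if b % p = c % p then 1 else 0) := by ring
  rw [e]
  omega

theorem has_sorted {n a b c p : ℕ} (hn : 5 ≤ n) (hp : p.Prime) (hp2 : Odd p) (hab : a < b) (hbc : b < c)
    (hs : a + b + c = n + 3) (hg : Gd p a b c) : Has p n (QQ a b c) :=
  has_odd hn hab hbc hs hp2 (crit hp hab.ne (by omega) hbc.ne hs hg)

theorem has_gd {n a b c p : ℕ} (hn : 5 ≤ n) (hp : p.Prime) (hp2 : Odd p) (hab : a ≠ b) (hac : a ≠ c) (hbc : b ≠ c)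
    (hs : a + b + c = n + 3) (hg : Gd p a b c) : Has p n (QQ a b c) := by
  rcases lt_or_gt_of_ne hab with h1 | h1
  · rcases lt_or_gt_of_ne hbc with h2 | h2
    · exact has_sorted hn hp hp2 h1 h2 hs hg
    · rcases lt_or_gt_of_ne hac with h3 | h3
      · rw [← QQ_swap23]
        exact has_sorted hn hp hp2 h3 h2 (by omega) (Gd_swap23 hg)
      · rw [← QQ_swap23, ← QQ_swap12]
        exact has_sorted hn hp hp2 h3 h1 (by omega) (Gd_swap12 (Gd_swap23 hg))
  · rcases lt_or_gt_of_ne hac with h2 | h2
    · rw [← QQ_swap12]
      exact has_sorted hn hp hp2 h1 h2 (by omega) (Gd_swap12 hg)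
    · rcases lt_or_gt_of_ne hbc with h3 | h3
      · rw [← QQ_swap12, ← QQ_swap23]
        exact has_sorted hn hp hp2 h3 h2 (by omega) (Gd_swap23 (Gd_swap12 hg))
      · rw [← QQ_swap12, ← QQ_swap23, ← QQ_swap12]
        exact has_sorted hn hp hp2 h3 h1 (by omega) (Gd_swap12 (Gd_swap23 (Gd_swap12 hg)))

theorem QQ_ne {a b c b' c' : ℕ} (hs : b + c = b' + c') (h5 : b + c ≠ 5) (h1 : b ≠ b') (h2 : b ≠ c') :
    QQ a b c ≠ QQ a b' c' := by
  intro h
  have e : (c : ℤ) = b' + c' - b := by omega
  have h3 : (-6 : ℤ) * (b' + c' - 5) * (b - b') * (c' - b) = 0 := by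
    have h4 : QQ a b c - QQ a b' c' = (-6 : ℤ) * (b' + c' - 5) * (b - b') * (c' - b) := by
      rw [e]
      unfold QQ
      ring
    rw [← h4, h, sub_self]
  rcases mul_eq_zero.1 h3 with h4 | h4
  · rcases mul_eq_zero.1 h4 with h5' | h5'
    · rcases mul_eq_zero.1 h5' with h6 | h6
      · norm_num at h6
      · omega
    · omega
  · omega

theorem two_gd {n a b c b' c' p : ℕ} (hn : 7 ≤ n) (hp : p.Prime) (hp2 : Odd p) (hs : a + b + c = n + 3)
    (hs' : a + b' + c' = n + 3) (hab : a ≠ b) (hac : a ≠ c) (hbc : b ≠ c) (hab' : a ≠ b') (hac' : a ≠ c')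
    (hbc' : b' ≠ c') (h1 : b ≠ b') (h2 : b ≠ c') (h5 : b + c ≠ 5) (hg : Gd p a b c) (hg' : Gd p a b' c') :
    Two p (alternatingGroup (Fin n)) :=
  two_of_has hn (has_gd (by omega) hp hp2 hab hac hbc hs hg) (has_gd (by omega) hp hp2 hab' hac' hbc' hs' hg')
    (QQ_ne (by omega) h5 h1 h2)

theorem Gd_res {p a b c x y z : ℕ} (ha : a % p = x) (hb : b % p = y) (hc : c % p = z)
    (h : p + 3 ≤ x + y + z + p * ((if x = y then 1 else 0) + (if x = z then 1 else 0) + (if y = z then 1 else 0))) :
    Gd p a b c := by
  unfold Gd np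
  rw [ha, hb, hc]
  exact h

/-- primes at least `11` -/
theorem two_alt_large {n p : ℕ} (hn : 7 ≤ n) (hp : p.Prime) (hp2 : Odd p) (h11 : 11 ≤ p) (hpn : p ≤ n) :
    Two p (alternatingGroup (Fin n)) := by
  rcases Nat.lt_or_ge n (2 * p) with h | h
  · -- all entries less than `p`
    obtain ⟨k, hk⟩ : ∃ k, k = (n + 3) / 3 := ⟨_, rfl⟩
    have hk3 := Nat.div_add_mod (n + 3) 3
    have hr : (n + 3) % 3 = 0 ∨ (n + 3) % 3 = 1 ∨ (n + 3) % 3 = 2 := by omega
    have hgd : ∀ a b c : ℕ, a < p → b < p → c < p → a + b + c = n + 3 → Gd p a b c := by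
      intro a b c ha hb hc hs
      apply Gd.of_sum
      rw [Nat.mod_eq_of_lt ha, Nat.mod_eq_of_lt hb, Nat.mod_eq_of_lt hc]
      omega
    rcases hr with hr | hr | hr
    · exact two_gd (a := k) (b := k - 1) (c := k + 1) (b' := k - 2) (c' := k + 2) hn hp hp2 (by omega) (by omega)
        (by omega) (by omega) (by omega) (by omega) (by omega) (by omega) (by omega) (by omega) (by omega)
        (hgd _ _ _ (by omega) (by omega) (by omega) (by omega)) (hgd _ _ _ (by omega) (by omega) (by omega) (by omega))
    · exact two_gd (a := k) (b := k - 1) (c := k + 2) (b' := k - 2) (c' := k + 3) hn hp hp2 (by omega) (by omega)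
        (by omega) (by omega) (by omega) (by omega) (by omega) (by omega) (by omega) (by omega) (by omega)
        (hgd _ _ _ (by omega) (by omega) (by omega) (by omega)) (hgd _ _ _ (by omega) (by omega) (by omega) (by omega))
    · exact two_gd (a := k + 1) (b := k - 1) (c := k + 2) (b' := k - 2) (c' := k + 3) hn hp hp2 (by omega) (by omega)
        (by omega) (by omega) (by omega) (by omega) (by omega) (by omega) (by omega) (by omega) (by omega)
        (hgd _ _ _ (by omega) (by omega) (by omega) (by omega)) (hgd _ _ _ (by omega) (by omega) (by omega) (by omega))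
  · have hgd : ∀ j c : ℕ, 2 ≤ j → j ≤ 7 → Gd p (p - 1) (p - j) c := by
      intro j c h2 h7
      apply Gd.of_pair
      rw [Nat.mod_eq_of_lt (by omega), Nat.mod_eq_of_lt (by omega)]
      omega
    by_cases he : 3 * p ≤ n + 10 ∧ n + 7 ≤ 3 * p
    · exact two_gd (a := p - 1) (b := p - 6) (c := n + 10 - 2 * p) (b' := p - 7) (c' := n + 11 - 2 * p) hn hp hp2
        (by omega) (by omega) (by omega) (by omega) (by omega) (by omega) (by omega) (by omega) (by omega)
        (by omega) (by omega) (hgd 6 _ (by omega) (by omega)) (hgd 7 _ (by omega) (by omega))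
    · exact two_gd (a := p - 1) (b := p - 2) (c := n + 6 - 2 * p) (b' := p - 3) (c' := n + 7 - 2 * p) hn hp hp2
        (by omega) (by omega) (by omega) (by omega) (by omega) (by omega) (by omega) (by omega) (by omega)
        (by omega) (by omega) (hgd 2 _ (by omega) (by omega)) (hgd 3 _ (by omega) (by omega))

theorem two_explicit {n p : ℕ} (a b c a' b' c' : ℕ) (hn : 7 ≤ n) (hp : p.Prime) (hp2 : Odd p)
    (h : a < b ∧ b < c ∧ a + b + c = n + 3 ∧ a' < b' ∧ b' < c' ∧ a' + b' + c' = n + 3 ∧ Gd p a b c ∧ Gd p a' b' c')
    (hQ : QQ a b c ≠ QQ a' b' c') : Two p (alternatingGroup (Fin n)) := by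
  obtain ⟨h1, h2, h3, h4, h5, h6, h7, h8⟩ := h
  exact two_of_has hn (has_sorted (by omega) hp hp2 h1 h2 h3 h7) (has_sorted (by omega) hp hp2 h4 h5 h6 h8) hQ

theorem two_alt_three {n : ℕ} (hn : 7 ≤ n) : Two 3 (alternatingGroup (Fin n)) := by
  have hp : Nat.Prime 3 := Nat.prime_three
  have hp2 : Odd 3 := by decide
  have hr : n % 3 = 0 ∨ n % 3 = 1 ∨ n % 3 = 2 := by omega
  rcases hr with hr | hr | hr
  · by_cases h9 : n = 9
    · subst h9
      exact two_explicit 0 3 9 1 4 7 (by norm_num) hp hp2 (by decide) (by decide)
    · exact two_gd (a := 0) (b := 3) (c := n) (b' := 6) (c' := n - 3) hn hp hp2 (by omega) (by omega) (by omega)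
        (by omega) (by omega) (by omega) (by omega) (by omega) (by omega) (by omega) (by omega)
        (Gd_res (x := 0) (y := 0) (z := 0) rfl rfl (by omega) (by decide))
        (Gd_res (x := 0) (y := 0) (z := 0) rfl rfl (by omega) (by decide))
  · exact two_gd (a := 1) (b := 2) (c := n) (b' := 4) (c' := n - 2) hn hp hp2 (by omega) (by omega) (by omega)
        (by omega) (by omega) (by omega) (by omega) (by omega) (by omega) (by omega) (by omega)
        (Gd_res (x := 1) (y := 2) (z := 1) rfl rfl (by omega) (by decide))
        (Gd_res (x := 1) (y := 1) (z := 2) rfl rfl (by omega) (by decide))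
  · exact two_gd (a := 2) (b := 1) (c := n) (b' := 4) (c' := n - 3) hn hp hp2 (by omega) (by omega) (by omega)
        (by omega) (by omega) (by omega) (by omega) (by omega) (by omega) (by omega) (by omega)
        (Gd_res (x := 2) (y := 1) (z := 2) rfl rfl (by omega) (by decide))
        (Gd_res (x := 2) (y := 1) (z := 2) rfl rfl (by omega) (by decide))

theorem two_alt_five {n : ℕ} (hn : 7 ≤ n) : Two 5 (alternatingGroup (Fin n)) := by
  have hp : Nat.Prime 5 := Nat.prime_five
  have hp2 : Odd 5 := by decide
  have hr : n % 5 = 0 ∨ n % 5 = 1 ∨ n % 5 = 2 ∨ n % 5 = 3 ∨ n % 5 = 4 := by omega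
  rcases hr with hr | hr | hr | hr | hr
  · exact two_gd (a := 0) (b := 3) (c := n) (b' := 4) (c' := n - 1) hn hp hp2 (by omega) (by omega) (by omega)
        (by omega) (by omega) (by omega) (by omega) (by omega) (by omega) (by omega) (by omega)
        (Gd_res (x := 0) (y := 3) (z := 0) rfl rfl (by omega) (by decide))
        (Gd_res (x := 0) (y := 4) (z := 4) rfl rfl (by omega) (by decide))
  · exact two_gd (a := 0) (b := 2) (c := n + 1) (b' := 4) (c' := n - 1) hn hp hp2 (by omega) (by omega) (by omega)
        (by omega) (by omega) (by omega) (by omega) (by omega) (by omega) (by omega) (by omega)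
        (Gd_res (x := 0) (y := 2) (z := 2) rfl rfl (by omega) (by decide))
        (Gd_res (x := 0) (y := 4) (z := 0) rfl rfl (by omega) (by decide))
  · exact two_gd (a := 1) (b := 2) (c := n) (b' := 3) (c' := n - 1) hn hp hp2 (by omega) (by omega) (by omega)
        (by omega) (by omega) (by omega) (by omega) (by omega) (by omega) (by omega) (by omega)
        (Gd_res (x := 1) (y := 2) (z := 2) rfl rfl (by omega) (by decide))
        (Gd_res (x := 1) (y := 3) (z := 1) rfl rfl (by omega) (by decide))
  · by_cases h8 : n = 8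
    · subst h8
      exact two_explicit 0 3 8 1 4 6 (by norm_num) hp hp2 (by decide) (by decide)
    · exact two_gd (a := 1) (b := 4) (c := n - 2) (b' := 6) (c' := n - 4) hn hp hp2 (by omega) (by omega) (by omega)
        (by omega) (by omega) (by omega) (by omega) (by omega) (by omega) (by omega) (by omega)
        (Gd_res (x := 1) (y := 4) (z := 1) rfl rfl (by omega) (by decide))
        (Gd_res (x := 1) (y := 1) (z := 4) rfl rfl (by omega) (by decide))
  · exact two_gd (a := 3) (b := 1) (c := n - 1) (b' := 2) (c' := n - 2) hn hp hp2 (by omega) (by omega) (by omega)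
        (by omega) (by omega) (by omega) (by omega) (by omega) (by omega) (by omega) (by omega)
        (Gd_res (x := 3) (y := 1) (z := 3) rfl rfl (by omega) (by decide))
        (Gd_res (x := 3) (y := 2) (z := 2) rfl rfl (by omega) (by decide))

theorem two_alt_seven {n : ℕ} (hn : 7 ≤ n) : Two 7 (alternatingGroup (Fin n)) := by
  have hp : Nat.Prime 7 := by norm_num
  have hp2 : Odd 7 := by decide
  have hr : n % 7 = 0 ∨ n % 7 = 1 ∨ n % 7 = 2 ∨ n % 7 = 3 ∨ n % 7 = 4 ∨ n % 7 = 5 ∨ n % 7 = 6 := by omega
  rcases hr with hr | hr | hr | hr | hr | hr | hr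
  · exact two_gd (a := 0) (b := 3) (c := n) (b' := 4) (c' := n - 1) hn hp hp2 (by omega) (by omega) (by omega)
        (by omega) (by omega) (by omega) (by omega) (by omega) (by omega) (by omega) (by omega)
        (Gd_res (x := 0) (y := 3) (z := 0) rfl rfl (by omega) (by decide))
        (Gd_res (x := 0) (y := 4) (z := 6) rfl rfl (by omega) (by decide))
  · exact two_gd (a := 0) (b := 2) (c := n + 1) (b' := 4) (c' := n - 1) hn hp hp2 (by omega) (by omega) (by omega)
        (by omega) (by omega) (by omega) (by omega) (by omega) (by omega) (by omega) (by omega)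
        (Gd_res (x := 0) (y := 2) (z := 2) rfl rfl (by omega) (by decide))
        (Gd_res (x := 0) (y := 4) (z := 0) rfl rfl (by omega) (by decide))
  · exact two_gd (a := 1) (b := 2) (c := n) (b' := 3) (c' := n - 1) hn hp hp2 (by omega) (by omega) (by omega)
        (by omega) (by omega) (by omega) (by omega) (by omega) (by omega) (by omega) (by omega)
        (Gd_res (x := 1) (y := 2) (z := 2) rfl rfl (by omega) (by decide))
        (Gd_res (x := 1) (y := 3) (z := 1) rfl rfl (by omega) (by decide))
  · exact two_gd (a := 0) (b := 3) (c := n) (b' := 6) (c' := n - 3) hn hp hp2 (by omega) (by omega) (by omega)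
        (by omega) (by omega) (by omega) (by omega) (by omega) (by omega) (by omega) (by omega)
        (Gd_res (x := 0) (y := 3) (z := 3) rfl rfl (by omega) (by decide))
        (Gd_res (x := 0) (y := 6) (z := 0) rfl rfl (by omega) (by decide))
  · exact two_gd (a := 1) (b := 3) (c := n - 1) (b' := 5) (c' := n - 3) hn hp hp2 (by omega) (by omega) (by omega)
        (by omega) (by omega) (by omega) (by omega) (by omega) (by omega) (by omega) (by omega)
        (Gd_res (x := 1) (y := 3) (z := 3) rfl rfl (by omega) (by decide))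
        (Gd_res (x := 1) (y := 5) (z := 1) rfl rfl (by omega) (by decide))
  · exact two_gd (a := 2) (b := 3) (c := n - 2) (b' := 4) (c' := n - 3) hn hp hp2 (by omega) (by omega) (by omega)
        (by omega) (by omega) (by omega) (by omega) (by omega) (by omega) (by omega) (by omega)
        (Gd_res (x := 2) (y := 3) (z := 3) rfl rfl (by omega) (by decide))
        (Gd_res (x := 2) (y := 4) (z := 2) rfl rfl (by omega) (by decide))
  · by_cases h13 : n = 13
    · subst h13
      exact two_explicit 1 4 11 2 5 9 (by norm_num) hp hp2 (by decide) (by decide)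
    · exact two_gd (a := 2) (b := 5) (c := n - 4) (b' := 9) (c' := n - 8) hn hp hp2 (by omega) (by omega) (by omega)
        (by omega) (by omega) (by omega) (by omega) (by omega) (by omega) (by omega) (by omega)
        (Gd_res (x := 2) (y := 5) (z := 2) rfl rfl (by omega) (by decide))
        (Gd_res (x := 2) (y := 2) (z := 5) rfl rfl (by omega) (by decide))

theorem two_alt_two {n : ℕ} (hn : 7 ≤ n) : Two 2 (alternatingGroup (Fin n)) := by
  have hp : Nat.Prime 2 := Nat.prime_two
  by_cases h7 : n = 7
  · subst h7
    refine two_of_has hn (has_two (a := 0) (b := 2) (c := 8) (L := 4) (by norm_num) (by decide) (by decide) (by decide)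
      (by decide) (by decide) (by decide) (by decide) (by decide) (by decide)
      (dvd_dg (t := 3) (by decide) (by decide) (by decide) (by decide +kernel)))
      (has_two (a := 0) (b := 3) (c := 7) (L := 6) (by norm_num) (by decide) (by decide) (by decide)
      (by decide) (by decide) (by decide) (by decide) (by decide) (by decide)
      (dvd_dg (t := 7) (by decide) (by decide) (by decide) (by decide +kernel))) (by decide)
  by_cases h8 : n = 8
  · subst h8
    refine two_of_has hn (has_four (a := 0) (b := 3) (c := 8) (by norm_num) (by decide) (by decide) (by decide)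
      (dvd_dg (t := 5) (by decide) (by decide) (by decide) (by decide +kernel)))
      (has_four (a := 0) (b := 4) (c := 7) (by norm_num) (by decide) (by decide) (by decide)
      (dvd_dg (t := 7) (by decide) (by decide) (by decide) (by decide +kernel))) (by decide)
  by_cases h10 : n = 10
  · subst h10
    refine two_of_has hn (has_two (a := 0) (b := 5) (c := 8) (L := 6) (by norm_num) (by decide) (by decide) (by decide)
      (by decide) (by decide) (by decide) (by decide) (by decide) (by decide)
      (dvd_dg (t := 45) (by decide) (by decide) (by decide) (by decide +kernel)))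
      (has_four (a := 1) (b := 2) (c := 10) (by norm_num) (by decide) (by decide) (by decide)
      (dvd_dg (t := 9) (by decide) (by decide) (by decide) (by decide +kernel))) (by decide)
  rcases Nat.mod_two_eq_zero_or_one n with hr | hr
  · refine two_of_has hn (has_two (a := 1) (b := 3) (c := n - 1) (L := n - 6) (by omega) (by decide) (by omega)
      (by omega) (by omega) (by omega) (by omega) (by omega) (by rw [Nat.even_iff]; omega) (by omega)
      (crit hp (by omega) (by omega) (by omega) (by omega)
        (Gd_res (x := 1) (y := 1) (z := 1) rfl rfl (by omega) (by decide))))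
      (has_two (a := 1) (b := 5) (c := n - 3) (L := n - 6) (by omega) (by decide) (by omega)
      (by omega) (by omega) (by omega) (by omega) (by omega) (by rw [Nat.even_iff]; omega) (by omega)
      (crit hp (by omega) (by omega) (by omega) (by omega)
        (Gd_res (x := 1) (y := 1) (z := 1) rfl rfl (by omega) (by decide))))
      (QQ_ne (by omega) (by omega) (by omega) (by omega))
  · refine two_of_has hn (has_two (a := 0) (b := 2) (c := n + 1) (L := n - 3) (by omega) (by decide) (by omega)
      (by omega) (by omega) (by omega) (by omega) (by omega) (by rw [Nat.even_iff]; omega) (by omega)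
      (crit hp (by omega) (by omega) (by omega) (by omega)
        (Gd_res (x := 0) (y := 0) (z := 0) rfl rfl (by omega) (by decide))))
      (has_two (a := 0) (b := 4) (c := n - 1) (L := n - 3) (by omega) (by decide) (by omega)
      (by omega) (by omega) (by omega) (by omega) (by omega) (by rw [Nat.even_iff]; omega) (by omega)
      (crit hp (by omega) (by omega) (by omega) (by omega)
        (Gd_res (x := 0) (y := 0) (z := 0) rfl rfl (by omega) (by decide))))
      (QQ_ne (by omega) (by omega) (by omega) (by omega))

theorem two_alt {n p : ℕ} (hn : 7 ≤ n) (hp : p.Prime) (hpn : p ≤ n) : Two p (alternatingGroup (Fin n)) := by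
  rcases Nat.lt_or_ge p 11 with h | h
  · have h' : p = 2 ∨ p = 3 ∨ p = 5 ∨ p = 7 := by
      interval_cases p <;> first | omega | (exfalso; revert hp; norm_num)
    rcases h' with rfl | rfl | rfl | rfl
    · exact two_alt_two hn
    · exact two_alt_three hn
    · exact two_alt_five hn
    · exact two_alt_seven hn
  · exact two_alt_large hn hp (hp.odd_of_ne_two (by omega)) h hpn

theorem le_of_dvd {n p : ℕ} (hp : p.Prime) (hd : p ∣ Nat.card (alternatingGroup (Fin n))) : p ≤ n := by
  have h1 : p ∣ Nat.card (Equiv.Perm (Fin n)) := hd.trans (Subgroup.card_subgroup_dvd_card _)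
  rw [Nat.card_eq_fintype_card, Fintype.card_perm, Fintype.card_fin] at h1
  exact (hp.dvd_factorial).1 h1

/-- **The alternating groups.** -/
theorem two_alternating (S : Type*) [Group S] (h : IsAlternating S) {p : ℕ} (hp : p.Prime)
    (hd : p ∣ Nat.card S) : TwoOr p S := by
  obtain ⟨n, hn, ⟨e⟩⟩ := h
  rcases Nat.lt_or_ge n 7 with h7 | h7
  · rcases (by omega : n = 5 ∨ n = 6) with rfl | rfl
    · apply congr_or e
      apply twoOr_alt_five hp
      rw [Nat.card_congr e.toEquiv] at hd
      have h60 : Nat.card (alternatingGroup (Fin 5)) = 60 := by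
        rw [nat_card_alternatingGroup]
        simp [Nat.factorial]
      rwa [h60] at hd
    · have : Fact (Nat.Prime 3) := ⟨Nat.prime_three⟩
      have : Fintype (GaloisField 3 2) := Fintype.ofFinite _
      have hc : Fintype.card (GaloisField 3 2) = 9 := by
        rw [← Nat.card_eq_fintype_card, GaloisField.card 3 2 (by norm_num)]
        norm_num
      obtain ⟨f⟩ := Cfsg.Agent.S0254.result hc
      exact two_psl_two S (by rw [hc]; norm_num) (e.trans f.symm) hp hd
  · apply congr_or e
    left
    rw [Nat.card_congr e.toEquiv] at hd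
    exact two_alt h7 hp (le_of_dvd hp hd)

end Cfsg.Agent.H654.Two
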