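import Cfsg.Agent.H654.Two.RankOne

/-!
# Two principal series characters not conjugate under `Aut G` (helper654, task 838)
-/

set_option autoImplicit false

namespace Cfsg.Agent.H654.Two

open Cfsg Cfsg.Agent.Characters.Core Cfsg.Agent.OddOrderCharacters.Clifford
  Cfsg.Agent.LieRecognition.RankOneAbstract Cfsg.Agent.H710.Cuspidal Cfsg.Agent.H732.RankOneGG
  Cfsg.Agent.H596.OneFacts

/-- a finite cyclic group embeds into `ℂˣ` -/
theorem exists_inj_hom (A : Type*) [Group A] [Finite A] [IsCyclic A] : ∃ f : A →* ℂˣ, Function.Injective f := by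
  have : NeZero (Nat.card A) := ⟨Nat.card_pos.ne'⟩
  have h1 : Nat.card A = Nat.card (rootsOfUnity (Nat.card A) ℂ) := (Complex.card_rootsOfUnity _).symm
  let e : A ≃* rootsOfUnity (Nat.card A) ℂ := mulEquivOfCyclicCardEq h1
  exact ⟨(rootsOfUnity (Nat.card A) ℂ).subtype.comp e.toMonoidHom,
    (Subgroup.subtype_injective _).comp e.injective⟩

variable {G : Type*} [Group G] {H U : Subgroup G} {w : G}

/-- A linear character of `H` with kernel `U`, if `H / U` is cyclic. -/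
theorem exists_faithful [Finite G] (D : Data H U w) {g₀ : G} (hg₀ : g₀ ∈ H) (hgen : ∀ y ∈ H, ∃ k : ℤ, g₀ ^ k * y ∈ U) :
    ∃ f : H →* ℂˣ, ∀ y : H, f y = 1 ↔ (y : G) ∈ U := by
  have hn : (U.subgroupOf H).Normal := by
    constructor
    intro n hn g
    rw [Subgroup.mem_subgroupOf] at hn ⊢
    exact D.norm g g.2 n hn
  have hc : IsCyclic (H ⧸ U.subgroupOf H) := by
    refine ⟨⟨QuotientGroup.mk ⟨g₀, hg₀⟩, fun y => ?_⟩⟩
    induction y using QuotientGroup.induction_on with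
    | H y =>
      obtain ⟨k, hk⟩ := hgen y y.2
      refine Subgroup.mem_zpowers_iff.2 ⟨-k, ?_⟩
      have h1 : (QuotientGroup.mk ⟨g₀, hg₀⟩ : H ⧸ U.subgroupOf H) ^ (-k) =
          QuotientGroup.mk ((⟨g₀, hg₀⟩ : H) ^ (-k)) := (QuotientGroup.mk_zpow _ _ _).symm
      rw [h1, QuotientGroup.eq, Subgroup.mem_subgroupOf]
      have h2 : ((((⟨g₀, hg₀⟩ : H) ^ (-k))⁻¹ * y : H) : G) = g₀ ^ k * y := by
        rw [Subgroup.coe_mul, zpow_neg, inv_inv]
        rfl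
      rw [h2]
      exact hk
  obtain ⟨f, hf⟩ := exists_inj_hom (H ⧸ U.subgroupOf H)
  refine ⟨f.comp (QuotientGroup.mk' _), fun y => ?_⟩
  rw [MonoidHom.comp_apply, map_eq_one_iff f hf, QuotientGroup.mk'_apply, QuotientGroup.eq_one_iff,
    Subgroup.mem_subgroupOf]

/-- **The pair `f`, `f ^ l`.** -/
theorem two_ps [Finite G] (D : Data H U w) {r : ℕ} [hr : Fact r.Prime] (hU : IsPGroup r U)
    (hi : ¬ r ∣ U.index) (hU1 : U ≠ ⊥) {f : H →* ℂˣ} (hf : ∀ y : H, f y = 1 ↔ (y : G) ∈ U) {l : ℕ} (hl : l.Prime)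
    (hlr : l ≠ r) (hlH : l ∣ Nat.card H) {d : G} (hd : d ∈ H) (hdw : w * d * w⁻¹ ∈ H)
    (hdl : (w * d * w⁻¹ * d⁻¹) ^ l ∉ U) {p : ℕ} (hp : p ∣ Nat.card U + 1) : Two p G := by
  classical
  have := Fintype.ofFinite G
  have := Fintype.ofFinite H
  have : Fact l.Prime := ⟨hl⟩
  have hne : ∀ k : ℕ, (w * d * w⁻¹ * d⁻¹) ^ k ∉ U → (f ^ k) ⟨w * d * w⁻¹, hdw⟩ ≠ (f ^ k) ⟨d, hd⟩ := by
    intro k hk h
    apply hk
    rw [← mul_inv_eq_one, ← map_inv, ← map_mul, MonoidHom.pow_apply, ← map_pow, hf] at h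
    exact h
  have hdl1 : (w * d * w⁻¹ * d⁻¹) ^ 1 ∉ U := by
    rw [pow_one]
    exact fun h => hdl (U.pow_mem h l)
  have i1 := ind_irr D (f ^ 1) hd hdw (hne 1 hdl1)
  have i2 := ind_irr D (f ^ l) hd hdw (hne l hdl)
  have hdeg : ∀ k : ℕ, (h : IsIrrCharacter G (indFun H (fun t => ((f ^ k) t : ℂ)))) →
      p ∣ charDegree ((⟨_, h⟩ : IrrCharacter G) : G → ℂ) := by
    intro k h
    have h1 : charDegree ((⟨_, h⟩ : IrrCharacter G) : G → ℂ) = Nat.card U + 1 := by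
      apply H670.PSing.charDegree_eq_of
      show indFun H (fun t => ((f ^ k) t : ℂ)) 1 = _
      rw [ind_one, D.index]
    rw [h1]
    exact hp
  obtain ⟨t, ht⟩ := exists_prime_orderOf_dvd_card' (G := H) l hlH
  refine ⟨⟨_, i1⟩, ⟨_, i2⟩, hdeg 1 i1, hdeg l i2, fun σ => ?_⟩
  refine not_conj_ind D hU hi hU1 (f ^ 1) (f ^ l) t ?_ ?_ σ
  · intro y hy
    rw [ht] at hy
    rw [MonoidHom.pow_apply, ← map_pow, ← hy, pow_orderOf_eq_one, map_one]
  · intro y hy h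
    rw [ht] at hy
    rw [MonoidHom.pow_apply, pow_one, hf] at h
    obtain ⟨k, hk⟩ := hU ⟨y, h⟩
    have h1 : (y : G) ^ r ^ k = 1 := congrArg Subtype.val hk
    have h2 : orderOf (y : G) ∣ r ^ k := orderOf_dvd_of_pow_eq_one h1
    rw [Subgroup.orderOf_coe, hy] at h2
    exact hlr ((Nat.prime_dvd_prime_iff_eq hl hr.out).1 (hl.dvd_of_dvd_pow h2))

end Cfsg.Agent.H654.Two
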