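import Cfsg.Agent.H654.Two.Tools
import Cfsg.Agent.H597.L2Char
import Cfsg.Agent.H597.L2Aut

/-!
# `PSL(2,q)`, `q ≥ 11` odd: two characters of degree `q + 1` and two of degree `q - 1` (helper654, task 838)

which are not conjugate under the automorphism group.
-/

set_option autoImplicit false
set_option linter.unusedSectionVars false

namespace Cfsg.Agent.H654.Two

open Matrix Cfsg Cfsg.Agent.Characters.Core Cfsg.Agent.H596.OneFacts
open Cfsg.Agent.H984.SLTwo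
open Cfsg.Agent.H597.L2Char hiding exists_hom inv_pow
open Cfsg.Agent.H597.L2Aut (exists_frob surj)
open Cfsg.Agent.Blocks.Basic (charDegree_of_eq)
open Cfsg.Agent.ClassicalGeometry.AutPSL.Root (pr pr_surjective pr_eq_one_iff)
open Cfsg.Agent.ClassicalGeometry.AutPSL.Auto (cj fld lift lift_pr coe_cj coe_fld_apply)

/-- the arithmetic of a pair -/
theorem dvd_of_add_inv_two {ζ : ℂˣ} {k m : ℕ} (hord : orderOf ζ = m)
    (h : ((ζ ^ k : ℂˣ) : ℂ) + ((ζ ^ k)⁻¹ : ℂˣ) = (ζ ^ 2 : ℂˣ) + ((ζ ^ 2)⁻¹ : ℂˣ)) :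
    (m : ℤ) ∣ (k : ℤ) - 2 ∨ (m : ℤ) ∣ (k : ℤ) + 2 := by
  have h0 : (ζ : ℂ) ≠ 0 := ζ.ne_zero
  have h1 : ((ζ : ℂ) ^ k - ζ ^ 2) * (1 - ((ζ : ℂ) ^ (k + 2))⁻¹) = 0 := by
    rw [Units.val_inv_eq_inv_val, Units.val_inv_eq_inv_val, Units.val_pow_eq_pow_val,
      Units.val_pow_eq_pow_val] at h
    have h2 : (ζ : ℂ) ^ k ≠ 0 := pow_ne_zero _ h0
    have h2' : (ζ : ℂ) ^ 2 ≠ 0 := pow_ne_zero _ h0
    rw [pow_add, mul_inv]
    have h3 : ((ζ : ℂ) ^ k - ζ ^ 2) * (1 - ((ζ : ℂ) ^ k)⁻¹ * ((ζ : ℂ) ^ 2)⁻¹) =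
        ((ζ : ℂ) ^ k + ((ζ : ℂ) ^ k)⁻¹) - (ζ ^ 2 + ((ζ : ℂ) ^ 2)⁻¹) := by
      field_simp
      ring
    rw [h3, h, sub_self]
  rcases mul_eq_zero.1 h1 with h2 | h2
  · left
    rw [← hord]
    rw [orderOf_dvd_iff_zpow_eq_one]
    have h3 : ζ ^ k = ζ ^ 2 := Units.ext (by
      rw [Units.val_pow_eq_pow_val, Units.val_pow_eq_pow_val]; exact sub_eq_zero.1 h2)
    rw [_root_.zpow_sub, zpow_natCast, h3]
    have h4 : ζ ^ (2 : ℤ) = ζ ^ 2 := zpow_natCast ζ 2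
    rw [h4, mul_inv_cancel]
  · right
    rw [← hord]
    have h5 : (k : ℤ) + 2 = ((k + 2 : ℕ) : ℤ) := by push_cast; ring
    rw [h5, Int.natCast_dvd_natCast]
    apply orderOf_dvd_of_pow_eq_one
    apply Units.ext
    rw [Units.val_pow_eq_pow_val, Units.val_one]
    have h3 : ((ζ : ℂ) ^ (k + 2))⁻¹ = 1 := (sub_eq_zero.1 h2).symm
    exact inv_eq_one.1 h3

section

variable {F : Type*} [Field F] [Fintype F]

local notation "PSL" => Matrix.ProjectiveSpecialLinearGroup (Fin 2) F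
local notation "SL" => Matrix.SpecialLinearGroup (Fin 2) F
local notation "M₂" => Matrix (Fin 2) (Fin 2) F

/-- The value at a conjugate under an automorphism with field part `a ↦ a ^ κ`. -/
theorem conj_pow {p : ℕ} [Fact p.Prime] [CharP F p] {A : GL (Fin 2) F} {σ : F ≃+* F} {i : ℕ}
    (hσ : ∀ a, σ a = a ^ p ^ i) {θ η : PSL → ℂ} (hcl : IsClassFunction PSL θ)
    (hinv : ∀ s, θ ((lift (cj A * fld σ) : MulAut PSL) s) = η s) {y : SL}
    (hy : tr (y : M₂) ^ 2 ≠ 4) : θ (pr (y ^ p ^ i)) = η (pr y) := by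
  classical
  rw [← hinv (pr y), lift_pr]
  have h4 : σ 4 = 4 := map_ofNat σ 4
  have htr : tr ((y ^ p ^ i : SL) : M₂) ^ 2 ≠ 4 := by
    rw [tr_pow, ← hσ, ← map_pow, ← h4]
    exact fun h => hy (σ.injective h)
  have ht : tr ((y ^ p ^ i : SL) : M₂) = tr ((cj A * fld σ : MulAut SL) y : M₂) := by
    rw [tr_cj_fld, hσ, tr_pow]
  have hc := isConj_of_tr (NS_of_tr htr) (NS_of_tr (by rw [← ht]; exact htr)) ht (Or.inr htr)
  obtain ⟨b, hb⟩ := isConj_iff.1 hc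
  rw [← hb, map_mul, map_mul, map_inv, hcl]

/-- Characters of degree `q + 1`. -/
theorem R_pair {p : ℕ} [Fact p.Prime] [CharP F p] {m : ℕ} (hm : 4 < m)
    (hq : Fintype.card F = 2 * m + 1) : ∃ θ η : PSL → ℂ, IsIrrCharacter PSL θ ∧ IsIrrCharacter PSL η ∧
      charDegree θ = 2 * m + 2 ∧ charDegree η = 2 * m + 2 ∧ ∀ (A : GL (Fin 2) F) (σ : F ≃+* F) (i : ℕ),
        (∀ a, σ a = a ^ p ^ i) → (∀ s, θ ((lift (cj A * fld σ) : MulAut PSL) s) = η s) →
          (m : ℤ) ∣ (p ^ i : ℕ) - 2 ∨ (m : ℤ) ∣ (p ^ i : ℕ) + 2 := by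
  classical
  have hcardu : Nat.card Fˣ = 2 * m := by
    rw [Nat.card_units, Nat.card_eq_fintype_card, hq]; omega
  obtain ⟨θ, γ, hγ, h3, h4⟩ := H597.L2Char.exists_hom (C := Fˣ) (m := m) (by omega) hcardu (z := -1) (by simp)
  -- the descended characters
  have key : ∀ k : ℕ, 0 < k → 2 * k < m → ∃ χ : PSL → ℂ, IsIrrCharacter PSL χ ∧ charDegree χ = 2 * m + 2 ∧
      ∀ u : Fˣ, u⁻¹ ≠ u → χ (pr (upp u 0)) = (θ u ^ k : ℂˣ) + ((θ u ^ k)⁻¹ : ℂˣ) := by
    intro k hk hkm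
    set α : MulChar F ℂ := MulChar.ofUnitHom (θ ^ k) with hα
    have hαu : ∀ a : Fˣ, α a = (θ a ^ k : ℂˣ) := fun a => by
      rw [hα, MulChar.ofUnitHom_coe, MonoidHom.pow_apply]
    have hne : ¬ α = α⁻¹ := by
      intro h
      have h5 : θ γ ^ (2 * k) = 1 := by
        apply Units.ext
        have h5 : α γ = α⁻¹ γ := by rw [← h]
        rw [MulChar.inv_apply_eq_inv', hαu] at h5
        rw [Nat.mul_comm, pow_mul, sq]
        have h6 : ((θ γ ^ k : ℂˣ) : ℂ) * (θ γ ^ k : ℂˣ) = 1 := by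
          nth_rw 2 [h5]
          exact mul_inv_cancel₀ (Units.ne_zero _)
        rw [Units.val_mul, Units.val_one]
        exact h6
      have h6 := Nat.le_of_dvd (by omega) (orderOf_dvd_of_pow_eq_one h5)
      omega
    have hirr : IsIrrCharacter SL (R α) := by
      apply isIrr_of_classInner_self (isCharacter_R α)
      rw [classInner_R_R, if_pos rfl, if_neg hne, add_zero]
    have hα1 : α (-1) = 1 := by
      have := hαu (-1)
      rw [h3, one_pow, Units.val_neg, Units.val_one] at this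
      rw [this, Units.val_one]
    have hR1 : (R α : SL → ℂ) 1 = ((2 * m + 2 : ℕ) : ℂ) := by
      have h := R_upp_zero α (inv_one : (1 : Fˣ)⁻¹ = 1)
      rw [upp_one_zero, Units.val_one, map_one, hq, mul_one] at h
      rw [h]
      push_cast
      ring
    have hRz : (R α : SL → ℂ) z0 = ((2 * m + 2 : ℕ) : ℂ) := by
      have h := R_upp_zero α (neg_one_inv (F := F))
      rw [Units.val_neg, Units.val_one, hα1, hq, mul_one] at h
      rw [show (z0 : SL) = upp (-1) 0 from rfl, h]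
      push_cast
      ring
    obtain ⟨χ, hχ, hχR⟩ := exists_descent hirr (hRz.trans hR1.symm)
    refine ⟨χ, hχ, ?_, fun u hu => ?_⟩
    · apply charDegree_of_eq
      rw [← hR1, ← hχR 1, map_one]
    · rw [hχR, R_upp_split α hu, hαu, hαu, map_inv, inv_pow]
  obtain ⟨χ, hχ, hχd, hχv⟩ := key 1 (by omega) (by omega)
  obtain ⟨ψ, hψ, hψd, hψv⟩ := key 2 (by omega) (by omega)
  refine ⟨χ, ψ, hχ, hψ, hχd, hψd, ?_⟩
  intro A σ i hσ hinv
  have hp : 0 < p ^ i := pow_pos (Fact.out : p.Prime).pos _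
  have hinvne : ∀ u : Fˣ, tr ((upp u 0 : SL) : M₂) ^ 2 ≠ 4 → u⁻¹ ≠ u := by
    intro u hu h
    apply hu
    rw [tr_upp h, mul_pow]
    have h5 : (u : F) * u = 1 := by
      have := mul_inv_cancel u
      rw [h] at this
      rw [← Units.val_mul, this, Units.val_one]
    rw [sq (u : F), h5]
    norm_num
  have hγ1 : γ⁻¹ ≠ γ := by
    intro h
    have h5 : γ ^ 2 = 1 := by
      rw [sq]
      nth_rw 1 [← h]
      rw [inv_mul_cancel]
    have h6 : orderOf γ = 2 * m := by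
      rw [← hcardu]
      exact orderOf_eq_card_of_forall_mem_zpowers hγ
    have h7 := Nat.le_of_dvd (by norm_num) (orderOf_dvd_of_pow_eq_one h5)
    omega
  have htr : tr ((upp γ 0 : SL) : M₂) ^ 2 ≠ 4 := by
    intro h
    unfold tr at h
    rw [coe_upp] at h
    simp only [Matrix.of_apply, Matrix.cons_val', Matrix.cons_val_zero,
      Matrix.cons_val_one, Matrix.cons_val_fin_one] at h
    apply hγ1
    apply Units.ext
    have h5 : (γ : F) * ((γ⁻¹ : Fˣ) : F) = 1 := by rw [← Units.val_mul, mul_inv_cancel, Units.val_one]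
    have h6 : (((γ⁻¹ : Fˣ) : F) - γ) ^ 2 = 0 := by linear_combination h - 4 * h5
    exact sub_eq_zero.1 (pow_eq_zero_iff (two_ne_zero)|>.1 h6)
  have hpow : (upp γ 0 : SL) ^ p ^ i = upp (γ ^ p ^ i) 0 := by
    have hk : ∀ k : ℕ, (upp γ 0 : SL) ^ k = upp (γ ^ k) 0 := by
      intro k
      induction k with
      | zero => rw [pow_zero, pow_zero, upp_one_zero]
      | succ k ih =>
        rw [pow_succ, ih, pow_succ]
        apply Matrix.SpecialLinearGroup.ext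
        intro i j
        rw [Matrix.SpecialLinearGroup.coe_mul, coe_upp, coe_upp, coe_upp]
        fin_cases i <;> fin_cases j <;> simp [Matrix.mul_apply, mul_comm]
    exact hk _
  have h6 := conj_pow hσ (isIrr_isClassFunction hχ) hinv htr
  have h7 : (γ ^ p ^ i)⁻¹ ≠ γ ^ p ^ i := by
    apply hinvne
    rw [← hpow, tr_pow, ← hσ, ← map_pow, ← map_ofNat σ 4]
    exact fun h => htr (σ.injective h)
  rw [hpow, hχv _ h7, hψv _ hγ1, map_pow, pow_one] at h6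
  exact dvd_of_add_inv_two h4 h6

/-- Characters of degree `q - 1`. -/
theorem X_pair {p : ℕ} [Fact p.Prime] [CharP F p] {m : ℕ} (hm : 4 < m)
    (hq : Fintype.card F = 2 * m + 1) : ∃ θ η : PSL → ℂ, IsIrrCharacter PSL θ ∧ IsIrrCharacter PSL η ∧
      charDegree θ = 2 * m ∧ charDegree η = 2 * m ∧ ∀ (A : GL (Fin 2) F) (σ : F ≃+* F) (i : ℕ),
        (∀ a, σ a = a ^ p ^ i) → (∀ s, θ ((lift (cj A * fld σ) : MulAut PSL) s) = η s) →
          ((m + 1 : ℕ) : ℤ) ∣ (p ^ i : ℕ) - 2 ∨ ((m + 1 : ℕ) : ℤ) ∣ (p ^ i : ℕ) + 2 := by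
  classical
  have h2 : ringChar F ≠ 2 := ringChar_ne_two_of_odd (by rw [hq]; exact ⟨m, rfl⟩)
  obtain ⟨g, hg⟩ := exists_ell (F := F)
  have : IsCyclic (Subgroup.centralizer ({g} : Set SL)) := isCyclic_cent g hg
  have hcardC : Nat.card (Subgroup.centralizer ({g} : Set SL)) = 2 * (m + 1) := by
    rw [card_cent_ell g hg, hq]; ring
  obtain ⟨θ, γ, hγ, h3, h4⟩ := H597.L2Char.exists_hom (C := Subgroup.centralizer ({g} : Set SL)) (m := m + 1)
    (by omega) hcardC (z := ⟨z0, z0_mem g⟩) (Subtype.ext z0_mul_self)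
  have hone : (1 : MulChar F ℂ) (-1) = 1 := MulChar.one_apply (IsUnit.neg isUnit_one)
  have key : ∀ k : ℕ, 0 < k → 2 * k < m → ∃ χ : PSL → ℂ, IsIrrCharacter PSL χ ∧ charDegree χ = 2 * m ∧
      ∀ c : Subgroup.centralizer ({g} : Set SL), NS ((c : SL) : M₂) →
        χ (pr c) = - ((θ c ^ k : ℂˣ) + ((θ c ^ k)⁻¹ : ℂˣ)) := by
    intro k hk hkm
    have hpar : (1 : MulChar F ℂ) (-1) = ((θ ^ k) ⟨z0, z0_mem g⟩ : ℂ) := by
      rw [MonoidHom.pow_apply, h3, one_pow, Units.val_one]; exact hone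
    have hθ2 : (θ ^ k) ^ 2 ≠ 1 := by
      intro h
      have h5 : θ γ ^ (k * 2) = 1 := by
        rw [pow_mul, ← MonoidHom.pow_apply, ← MonoidHom.pow_apply, h, MonoidHom.one_apply]
      have h6 := Nat.le_of_dvd (by omega) (orderOf_dvd_of_pow_eq_one h5)
      omega
    have hirr := isIrr_X h2 hg hpar hθ2
    have hX1 : (X (θ ^ k) (1 : MulChar F ℂ) : SL → ℂ) 1 = ((2 * m : ℕ) : ℂ) := by
      rw [X_one hg, hq]; push_cast; ring
    have hXz : (X (θ ^ k) (1 : MulChar F ℂ) : SL → ℂ) z0 = ((2 * m : ℕ) : ℂ) := by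
      rw [X_z0 hg hpar, hone, hq]; push_cast; ring
    obtain ⟨χ, hχ, hχX⟩ := exists_descent hirr (hXz.trans hX1.symm)
    refine ⟨χ, hχ, ?_, fun c hc => ?_⟩
    · apply charDegree_of_eq
      rw [← hX1, ← hχX 1, map_one]
    · rw [hχX]
      exact X_ell hg (θ ^ k) 1 c.2 hc
  obtain ⟨χ, hχ, hχd, hχv⟩ := key 1 (by omega) (by omega)
  obtain ⟨ψ, hψ, hψd, hψv⟩ := key 2 (by omega) (by omega)
  refine ⟨χ, ψ, hχ, hψ, hχd, hψd, ?_⟩
  intro A σ i hσ hinv
  have hp : 0 < p ^ i := pow_pos (Fact.out : p.Prime).pos _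
  have hNS : NS ((γ : SL) : M₂) := by
    by_contra hn
    have h5 := comm_of_not_NS hn
    -- then `g` is central
    obtain ⟨k, hk⟩ := Subgroup.mem_zpowers_iff.1 (hγ ⟨g, self_mem_cent g⟩)
    have h6 : (γ : SL) ^ k = g := congrArg Subtype.val hk
    have h7 : (γ : SL) ∈ Subgroup.center SL := by
      rw [Subgroup.mem_center_iff]
      intro x
      have := h5 x
      rw [mul_assoc, inv_mul_eq_iff_eq_mul] at this
      exact this.symm
    have h8 : g ∈ Subgroup.center SL := by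
      rw [← h6]
      exact Subgroup.zpow_mem _ h7 _
    exact not_NS_of_mem_center h8 hg.NS
  have hEll : Ell ((γ : SL) : M₂) := ell_of_mem_cent hg γ.2 hNS
  have htr : tr ((γ : SL) : M₂) ^ 2 ≠ 4 := hEll.tr_ne.resolve_right h2
  have h6 := conj_pow hσ (isIrr_isClassFunction hχ) hinv htr
  have h7 : NS (((γ : SL) ^ p ^ i : SL) : M₂) := by
    apply NS_of_tr
    rw [tr_pow, ← hσ, ← map_pow, ← map_ofNat σ 4]
    exact fun h => htr (σ.injective h)
  have h7' := hχv (γ ^ p ^ i) h7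
  have h8 : (((γ ^ p ^ i : Subgroup.centralizer ({g} : Set SL)) : SL)) = (γ : SL) ^ p ^ i := rfl
  rw [h8] at h7'
  rw [h7', hψv γ hNS, neg_inj, map_pow, pow_one] at h6
  exact dvd_of_add_inv_two h4 h6

end

end Cfsg.Agent.H654.Two
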