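import Cfsg.Agent.H654.Two.Tools
import Cfsg.Agent.H732.RankOneDeg

/-!
# Rank one groups: automorphisms and irreducible characters (helper654, task 838)

`Data H U w` : a split BN-pair of rank one (`H` Borel, `U` unipotent radical), `U` a Sylow `r`-subgroup.

* `exists_norm` : an automorphism may be changed by an inner one such that it normalizes `U` and `H`;
* `not_conj_ind` : `Ind f` and `Ind g` are not conjugate under `Aut G`, if `g`, and not `f`, is trivial on the elements of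
  `H` of the order of some `t`;
* `exists_cusp` : some cuspidal character contains `ψ`;
* `not_conj_mu` : a character without linear constituents on `U` and one with such are not conjugate.
-/

set_option autoImplicit false

open scoped ComplexConjugate

namespace Cfsg.Agent.H654.Two

open Cfsg Cfsg.Agent.Characters.Core Cfsg.Agent.OddOrderCharacters.Clifford
  Cfsg.Agent.LieRecognition.RankOneAbstract Cfsg.Agent.H710.Cuspidal Cfsg.Agent.H732.RankOneGG

variable {G : Type*} [Group G] {H U T : Subgroup G} {w : G}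

/-- An automorphism maps a Sylow subgroup to a conjugate. -/
theorem exists_conj [Finite G] {r : ℕ} [hr : Fact r.Prime] (hU : IsPGroup r U) (hi : ¬ r ∣ U.index) (σ : MulAut G) :
    ∃ g : G, ∀ u, u ∈ U ↔ σ u ∈ U.map (MulAut.conj g).toMonoidHom := by
  let P : Sylow r G := hU.toSylow hi
  let Q : Sylow r G := P.comapOfInjective σ.symm.toMonoidHom σ.symm.injective (by
    intro x _
    exact ⟨σ x, σ.symm_apply_apply x⟩)
  obtain ⟨g, hg⟩ := MulAction.exists_smul_eq G P Q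
  refine ⟨g, fun u => ?_⟩
  have h1 : U.map (MulAut.conj g).toMonoidHom = (Q : Subgroup G) := by
    rw [← hg]; rfl
  rw [h1]
  show u ∈ U ↔ σ.symm (σ u) ∈ (P : Subgroup G)
  rw [σ.symm_apply_apply]
  rfl

theorem exists_norm [Finite G] {r : ℕ} [hr : Fact r.Prime] (hU : IsPGroup r U) (hi : ¬ r ∣ U.index) (σ : MulAut G) :
    ∃ τ : MulAut G, (∀ u, u ∈ U ↔ τ u ∈ U) ∧ ∀ χ : G → ℂ, IsClassFunction G χ → ∀ s, χ (σ s) = χ (τ s) := by
  obtain ⟨g, hg⟩ := exists_conj hU hi σ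
  refine ⟨MulAut.conj g⁻¹ * σ, fun u => ?_, fun χ hχ s => ?_⟩
  · rw [hg u, MulAut.mul_apply]
    constructor
    · rintro ⟨v, hv, hvu⟩
      rw [← hvu]
      have h1 : (MulAut.conj g⁻¹) ((MulAut.conj g).toMonoidHom v) = v := by
        show g⁻¹ * (g * v * g⁻¹) * g⁻¹⁻¹ = v
        group
      rw [h1]
      exact hv
    · intro h
      refine ⟨_, h, ?_⟩
      show g * (g⁻¹ * σ u * g⁻¹⁻¹) * g⁻¹ = σ u
      group
  · rw [MulAut.mul_apply, MulAut.conj_apply]
    exact (hχ (σ s) g⁻¹).symm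

/-- an automorphism normalizing `U` normalizes `H` -/
theorem norm_H (D : Data H U w) (hU1 : U ≠ ⊥) {τ : MulAut G} (h : ∀ u, u ∈ U ↔ τ u ∈ U) (x : G) : x ∈ H ↔ τ x ∈ H := by
  have key : ∀ {τ : MulAut G}, (∀ u, u ∈ U ↔ τ u ∈ U) → ∀ x, x ∈ H → τ x ∈ H := by
    intro τ h x hx
    rw [← D.normalizer_eq hU1, Subgroup.mem_normalizer_iff] at hx ⊢
    intro u
    obtain ⟨v, rfl⟩ := τ.surjective u
    rw [← h v, hx v, ← map_inv, ← map_mul, ← map_mul]
    exact h _
  refine ⟨key h x, fun hx => ?_⟩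
  have h2 := key (τ := τ⁻¹) (fun u => by
    obtain ⟨v, rfl⟩ := τ.surjective u
    rw [MulAut.inv_apply_self]
    exact (h v).symm) (τ x) hx
  rwa [MulAut.inv_apply_self] at h2

theorem norm_hom {A : Type*} [Group A] [Finite A] (f : A →* ℂˣ) (a : A) : ‖(f a : ℂ)‖ = 1 := by
  apply Complex.norm_eq_one_of_pow_eq_one (n := Nat.card A)
  · rw [← Units.val_pow_eq_pow_val, ← map_pow, pow_card_eq_one', map_one, Units.val_one]
  · exact Nat.card_pos.ne'

theorem eq_one_of_re {z : ℂ} (h1 : ‖z‖ = 1) (h2 : 1 ≤ z.re) : z = 1 := by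
  have h3 : z.re ≤ ‖z‖ := Complex.re_le_norm z
  have h4 : z.re = ‖z‖ := by linarith
  have h5 := Complex.re_eq_norm.1 h4
  have h6 : z = (z.re : ℂ) := Complex.eq_re_of_ofReal_le h5
  rw [h6, h4, h1]; simp

/-- **Principal series characters with different kernels.** -/
theorem not_conj_ind [Fintype G] (D : Data H U w) {r : ℕ} [hr : Fact r.Prime] (hU : IsPGroup r U)
    (hi : ¬ r ∣ U.index) (hU1 : U ≠ ⊥) (f g : H →* ℂˣ) (t : H)
    (hg : ∀ y : H, orderOf y = orderOf t → g y = 1) (hf : ∀ y : H, orderOf y = orderOf t → f y ≠ 1) (σ : MulAut G) :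
    ∃ s : G, indFun H (fun x => (f x : ℂ)) (σ s) ≠ indFun H (fun x => (g x : ℂ)) s := by
  classical
  by_contra hcon
  push Not at hcon
  obtain ⟨τ, hτU, hτ⟩ := exists_norm hU hi σ
  have hτH := norm_H D hU1 hτU
  have h1 : indFun H (fun x => (f x : ℂ)) (τ t) = indFun H (fun x => (g x : ℂ)) t := by
    rw [← hτ _ (isClassFunction_indFun H _), hcon]
  rw [Cfsg.Agent.Characters.Core.indFun_apply, Cfsg.Agent.Characters.Core.indFun_apply] at h1
  have hcH : (Nat.card H : ℂ)⁻¹ ≠ 0 := inv_ne_zero (Nat.cast_ne_zero.2 Nat.card_pos.ne')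
  have h2 := mul_left_cancel₀ hcH h1
  -- the right hand side
  have h3 : ∑ x : G, extendByZero H (fun x => (g x : ℂ)) (x⁻¹ * (t : G) * x) =
      ∑ x : G, if x⁻¹ * (t : G) * x ∈ H then (1 : ℂ) else 0 := by
    refine Finset.sum_congr rfl fun x _ => ?_
    split_ifs with hx
    · rw [ext_apply_mem H _ _ hx, hg ⟨_, hx⟩, Units.val_one]
      rw [← Subgroup.orderOf_coe, ← Subgroup.orderOf_coe]
      have h4 := MulEquiv.orderOf_eq (MulAut.conj x⁻¹) (t : G)
      rw [MulAut.conj_apply, inv_inv] at h4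
      exact h4
    · rw [ext_apply_not_mem H _ _ hx]
  have h4 : ∑ x : G, extendByZero H (fun x => (f x : ℂ)) (x⁻¹ * τ (t : G) * x) =
      ∑ x : G, extendByZero H (fun x => (f x : ℂ)) (τ (x⁻¹ * (t : G) * x)) := by
    symm
    refine Fintype.sum_equiv τ.toEquiv _ _ fun x => ?_
    show extendByZero H (fun x => (f x : ℂ)) (τ (x⁻¹ * (t : G) * x)) =
      extendByZero H (fun x => (f x : ℂ)) ((τ x)⁻¹ * τ (t : G) * τ x)
    rw [map_mul, map_mul, map_inv]
  rw [h3, h4] at h2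
  -- compare real parts
  have h5 : ∑ x : G, (((if x⁻¹ * (t : G) * x ∈ H then (1 : ℂ) else 0) -
      extendByZero H (fun x => (f x : ℂ)) (τ (x⁻¹ * (t : G) * x))) : ℂ).re = 0 := by
    rw [← Complex.re_sum, Finset.sum_sub_distrib, h2, sub_self, Complex.zero_re]
  have h6 : ∀ x : G, 0 ≤ (((if x⁻¹ * (t : G) * x ∈ H then (1 : ℂ) else 0) -
      extendByZero H (fun x => (f x : ℂ)) (τ (x⁻¹ * (t : G) * x))) : ℂ).re := by
    intro x
    split_ifs with hx
    · rw [ext_apply_mem H _ _ ((hτH _).1 hx), Complex.sub_re, Complex.one_re]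
      have h7 := norm_hom f ⟨_, (hτH _).1 hx⟩
      have h8 := Complex.re_le_norm (f ⟨_, (hτH _).1 hx⟩ : ℂ)
      linarith
    · rw [ext_apply_not_mem H _ _ (fun h => hx ((hτH _).2 h)), sub_self, Complex.zero_re]
  have h7 := (Finset.sum_eq_zero_iff_of_nonneg fun x _ => h6 x).1 h5 1 (Finset.mem_univ _)
  have ht : (1 : G)⁻¹ * (t : G) * 1 ∈ H := by simp
  rw [if_pos ht, ext_apply_mem H _ _ ((hτH _).1 ht), Complex.sub_re, Complex.one_re, sub_eq_zero] at h7
  have h8 := eq_one_of_re (norm_hom f ⟨_, (hτH _).1 ht⟩) (le_of_eq h7)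
  apply hf ⟨_, (hτH _).1 ht⟩
  · rw [← Subgroup.orderOf_coe, ← Subgroup.orderOf_coe]
    simp
  · exact Units.ext h8

section mu

variable [Fintype G] [Fintype U] [Fintype H] [Fintype (IrrCharacter G)]

omit [Fintype U] [Fintype H] [Fintype (IrrCharacter G)] in
/-- the number of linear characters of `H` trivial on `U` -/
theorem card_triv_le (D : Data H U w) {t : ℕ} (ht : Nat.card H = Nat.card U * t) :
    Nat.card {f : H →* ℂˣ // ∀ u : H, (u : G) ∈ U → f u = 1} ≤ t := by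
  have hn : (U.subgroupOf H).Normal := by
    constructor
    intro n hn g
    rw [Subgroup.mem_subgroupOf] at hn ⊢
    exact D.norm g g.2 n hn
  have hle : ∀ f : {f : H →* ℂˣ // ∀ u : H, (u : G) ∈ U → f u = 1}, U.subgroupOf H ≤ f.1.ker := by
    intro f u hu
    rw [MonoidHom.mem_ker]
    exact f.2 u hu
  have hinj : Function.Injective (fun f : {f : H →* ℂˣ // ∀ u : H, (u : G) ∈ U → f u = 1} =>
      (QuotientGroup.lift (U.subgroupOf H) f.1 (hle f) : H ⧸ U.subgroupOf H →* ℂˣ)) := by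
    intro f g hfg
    apply Subtype.ext
    ext x
    have := DFunLike.congr_fun hfg (QuotientGroup.mk x : H ⧸ U.subgroupOf H)
    exact congrArg Units.val this
  have := finite_hom (H ⧸ U.subgroupOf H)
  refine (Nat.card_le_card_of_injective _ hinj).trans ?_
  rw [Characters.Linear.card_hom_eq_index_commutator]
  refine (Nat.le_of_dvd Nat.card_pos (Subgroup.index_dvd_card _)).trans ?_
  have h1 := Subgroup.card_eq_card_quotient_mul_card_subgroup (U.subgroupOf H)
  rw [ht, Nat.card_congr (Subgroup.subgroupOfEquivOfLe D.le).toEquiv, Nat.mul_comm] at h1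
  exact (Nat.eq_of_mul_eq_mul_right Nat.card_pos h1).symm.le

/-- **A cuspidal character containing `ψ`.** -/
theorem exists_cusp (D : Data H U w) (hab : ∀ h ∈ H, ∀ k ∈ H, ∃ u ∈ U, h * k = k * h * u) (ψ : U →* ℂˣ) (hψ1 : ψ ≠ 1)
    (hψ : ∀ x : H, tw D ψ x = ψ → (x : G) ∈ U) {t : ℕ} (ht : Nat.card H = Nat.card U * t) :
    ∃ χ : IrrCharacter G, mu U 1 χ = 0 ∧ mu U ψ χ ≠ 0 := by
  classical
  by_contra hcon
  push Not at hcon
  have hsq := sum_sq D ψ hψ1 hψ ht
  -- the characters with different multiplicities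
  have hne : ∀ χ : {χ : IrrCharacter G // mu U 1 χ ≠ mu U ψ χ}, mu U 1 χ.1 ≠ 0 := by
    intro χ h0
    exact χ.2 (h0.trans (hcon χ.1 h0).symm)
  choose f hf1 hf2 using fun χ : {χ : IrrCharacter G // mu U 1 χ ≠ mu U ψ χ} => exists_lin D hab χ.1 (hne χ)
  have hs1 : ∀ (f : H →* ℂˣ), (∀ u : H, (u : G) ∈ U → f u = 1) →
      ∑ χ : IrrCharacter G, mu H f χ * mu U 1 χ = 2 := by
    intro f hf
    have := sum_mul D f hf 1
    rwa [if_pos rfl] at this
  have hs2 : ∀ (f : H →* ℂˣ), (∀ u : H, (u : G) ∈ U → f u = 1) →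
      ∑ χ : IrrCharacter G, mu H f χ * mu U ψ χ = 1 := by
    intro f hf
    have := sum_mul D f hf ψ
    rwa [if_neg hψ1, add_zero] at this
  -- the differences are at most one
  have hle : ∀ χ : IrrCharacter G, ((mu U 1 χ : ℤ) - mu U ψ χ) ^ 2 ≤ if mu U 1 χ ≠ mu U ψ χ then 1 else 0 := by
    intro χ
    split_ifs with h
    · have e1 := hs1 (f ⟨χ, h⟩) (hf1 ⟨χ, h⟩)
      have e2 := hs2 (f ⟨χ, h⟩) (hf1 ⟨χ, h⟩)
      have e3 : mu H (f ⟨χ, h⟩) χ ≠ 0 := hf2 ⟨χ, h⟩
      have e4 : mu U 1 χ ≠ 0 := hne ⟨χ, h⟩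
      rw [← Finset.add_sum_erase _ _ (Finset.mem_univ χ)] at e1 e2
      have e5 : 1 ≤ mu H (f ⟨χ, h⟩) χ := Nat.one_le_iff_ne_zero.2 e3
      have e6 : mu U 1 χ ≤ mu H (f ⟨χ, h⟩) χ * mu U 1 χ := Nat.le_mul_of_pos_left _ e5
      have e7 : mu U ψ χ ≤ mu H (f ⟨χ, h⟩) χ * mu U ψ χ := Nat.le_mul_of_pos_left _ e5
      by_cases h2 : mu U 1 χ = 2
      · -- all others do not contribute
        have e8 : ∑ x ∈ Finset.univ.erase χ, mu H (f ⟨χ, h⟩) x * mu U 1 x = 0 := by omega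
        have e9 : ∑ x ∈ Finset.univ.erase χ, mu H (f ⟨χ, h⟩) x * mu U ψ x = 0 := by
          refine Finset.sum_eq_zero fun x hx => ?_
          have e10 := (Finset.sum_eq_zero_iff.1 e8) x hx
          rcases Nat.mul_eq_zero.1 e10 with h0 | h0
          · rw [h0, zero_mul]
          · rw [hcon x h0, mul_zero]
        have e11 : mu U ψ χ = 1 := by
          rw [e9, add_zero] at e2
          exact Nat.eq_one_of_mul_eq_one_left e2
        rw [h2, e11]; norm_num
      · have e12 : mu U 1 χ = 1 := by omega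
        have e13 : mu U ψ χ ≤ 1 := by omega
        have e14 : mu U ψ χ = 0 := by omega
        rw [e12, e14]; norm_num
    · have : mu U 1 χ = mu U ψ χ := not_not.1 h
      rw [this]; norm_num
  have hcard : (Nat.card {χ : IrrCharacter G // mu U 1 χ ≠ mu U ψ χ} : ℤ) ≥ t + 1 := by
    rw [Nat.card_eq_fintype_card, Fintype.card_subtype, Finset.card_eq_sum_ones, Nat.cast_sum, Finset.sum_filter,
      ← hsq]
    refine Finset.sum_le_sum fun χ _ => ?_
    have := hle χ
    split_ifs at this ⊢ <;> simpa using this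
  have hinj : Function.Injective (fun χ : {χ : IrrCharacter G // mu U 1 χ ≠ mu U ψ χ} =>
      (⟨f χ, hf1 χ⟩ : {f : H →* ℂˣ // ∀ u : H, (u : G) ∈ U → f u = 1})) := by
    intro χ₁ χ₂ h12
    have h12 : f χ₁ = f χ₂ := congrArg Subtype.val h12
    by_contra hne12
    have hne' : χ₁.1 ≠ χ₂.1 := fun h => hne12 (Subtype.ext h)
    have hmem : χ₂.1 ∈ Finset.univ.erase χ₁.1 := Finset.mem_erase.2 ⟨hne'.symm, Finset.mem_univ _⟩
    have e1 := hs1 (f χ₁) (hf1 χ₁)
    have e2 := hs2 (f χ₁) (hf1 χ₁)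
    rw [← Finset.add_sum_erase _ _ (Finset.mem_univ χ₁.1), ← Finset.add_sum_erase _ _ hmem] at e1 e2
    have a1 : 1 ≤ mu H (f χ₁) χ₁.1 := Nat.one_le_iff_ne_zero.2 (hf2 χ₁)
    have a2 : 1 ≤ mu H (f χ₁) χ₂.1 := by rw [h12]; exact Nat.one_le_iff_ne_zero.2 (hf2 χ₂)
    have b1 : 1 ≤ mu U 1 χ₁.1 := Nat.one_le_iff_ne_zero.2 (hne χ₁)
    have b2 : 1 ≤ mu U 1 χ₂.1 := Nat.one_le_iff_ne_zero.2 (hne χ₂)
    have c1 : mu U 1 χ₁.1 ≤ mu H (f χ₁) χ₁.1 * mu U 1 χ₁.1 := Nat.le_mul_of_pos_left _ a1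
    have c2 : mu U 1 χ₂.1 ≤ mu H (f χ₁) χ₂.1 * mu U 1 χ₂.1 := Nat.le_mul_of_pos_left _ a2
    have c3 : mu U ψ χ₁.1 ≤ mu H (f χ₁) χ₁.1 * mu U ψ χ₁.1 := Nat.le_mul_of_pos_left _ a1
    have c4 : mu U ψ χ₂.1 ≤ mu H (f χ₁) χ₂.1 * mu U ψ χ₂.1 := Nat.le_mul_of_pos_left _ a2
    have e8 : ∑ x ∈ (Finset.univ.erase χ₁.1).erase χ₂.1, mu H (f χ₁) x * mu U 1 x = 0 := by omega
    have e9 : ∑ x ∈ (Finset.univ.erase χ₁.1).erase χ₂.1, mu H (f χ₁) x * mu U ψ x = 0 := by
      refine Finset.sum_eq_zero fun x hx => ?_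
      have e10 := (Finset.sum_eq_zero_iff.1 e8) x hx
      rcases Nat.mul_eq_zero.1 e10 with h0 | h0
      · rw [h0, zero_mul]
      · rw [hcon x h0, mul_zero]
    have d1 : mu U 1 χ₁.1 = 1 := by omega
    have d2 : mu U 1 χ₂.1 = 1 := by omega
    have n1 : mu U ψ χ₁.1 = 0 := by
      have := χ₁.2
      have : mu U ψ χ₁.1 ≤ 1 := by omega
      omega
    have n2 : mu U ψ χ₂.1 = 0 := by
      have := χ₂.2
      have : mu U ψ χ₂.1 ≤ 1 := by omega
      omega
    rw [e9, n1, n2] at e2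
    omega
  have := finite_hom H
  have h1 := Nat.card_le_card_of_injective _ hinj
  have h2 := h1.trans (card_triv_le D ht)
  omega

omit [Fintype H] [Fintype (IrrCharacter G)] in
/-- **Characters with and without linear constituents on `U`.** -/
theorem not_conj_mu {r : ℕ} [hr : Fact r.Prime] (hU : IsPGroup r U) (hi : ¬ r ∣ U.index) {α β : IrrCharacter G}
    (hα : ∀ ν : U →* ℂˣ, mu U ν α = 0) {ψ : U →* ℂˣ} (hβ : mu U ψ β ≠ 0) (σ : MulAut G) :
    ∃ s : G, (α : G → ℂ) (σ s) ≠ (β : G → ℂ) s := by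
  classical
  by_contra hcon
  push Not at hcon
  obtain ⟨τ, hτU, hτ⟩ := exists_norm hU hi σ
  apply hβ
  -- the automorphism of `U`
  let e : U ≃ U :=
    { toFun := fun u => ⟨τ u, (hτU u).1 u.2⟩
      invFun := fun u => ⟨τ.symm u, by
        rw [hτU, τ.apply_symm_apply]; exact u.2⟩
      left_inv := fun u => Subtype.ext (τ.symm_apply_apply _)
      right_inv := fun u => Subtype.ext (τ.apply_symm_apply _) }
  let ν : U →* ℂˣ :=
    { toFun := fun u => ψ (e.symm u)
      map_one' := by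
        rw [← map_one ψ]; congr 1
        exact Subtype.ext (map_one τ.symm)
      map_mul' := fun u v => by
        rw [← map_mul]; congr 1
        exact Subtype.ext (map_mul τ.symm _ _) }
  have h1 := mu_spec U ν α
  have h2 := mu_spec U ψ β
  have h3 : classInner (fun u : U => (ψ u : ℂ)) (fun u : U => (β : G → ℂ) u) =
      classInner (fun u : U => (ν u : ℂ)) (fun u : U => (α : G → ℂ) u) := by
    rw [classInner_apply, classInner_apply]
    congr 1
    refine Fintype.sum_equiv e _ _ fun u => ?_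
    have h4 : ν (e u) = ψ u := by
      show ψ (e.symm (e u)) = ψ u
      rw [e.symm_apply_apply]
    rw [h4, ← hcon, hτ _ (isIrr_isClassFunction α.2)]
    rfl
  rw [h3, h1, hα ν] at h2
  exact_mod_cast h2.symm

end mu

end Cfsg.Agent.H654.Two
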