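import Cfsg.Agent.H654.Two.PsPair
import Cfsg.Agent.H732.DegRee

/-!
# The row of the small Ree groups of `FactTwo` (helper654, task 838)
-/

set_option autoImplicit false

namespace Cfsg.Agent.H654.Two

open Cfsg Cfsg.Agent.Characters.Core Cfsg.Agent.H596.OneFacts
open Cfsg.Agent.LieRecognition
open Cfsg.Agent.LieRecognition.ReeAbs Cfsg.Agent.LieRecognition.ReeSylowThree
  Cfsg.Agent.LieRecognition.ReeSplit
open Cfsg.Agent.H88 Cfsg.Agent.H732.RankOneGG Cfsg.Agent.H732.DegRee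

universe u

section ree

variable {K : Type*} [Field K] [Fintype K] {G : Type*} [Group G] {m : ℕ}
  {U : K → K → K → G} {h : Kˣ → G} {n : G}

theorem ree_core [Finite G] (D : ReeAbs.Data m U h n) (hm : 1 ≤ m) (hK : Fintype.card K = 3 ^ (2 * m + 1))
    (hk : 3 ^ (2 * m + 1) + 3 ≤ Nat.card (ConjClasses G)) {p : ℕ} (hp : p.Prime)
    (hd : p ∣ (3 ^ (2 * m + 1)) ^ 3 * (3 ^ (2 * m + 1) - 1) * ((3 ^ (2 * m + 1)) ^ 3 + 1)) : Two p G := by
  classical
  have := Fintype.ofFinite G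
  have : Finite (IrrCharacter G) := Characters.Core.finite_irr
  have := Fintype.ofFinite (IrrCharacter G)
  have Dl := ReeSetup.local_of_data D hK
  have R := RkRee.rank_one D
  have hp3 : Fact (Nat.Prime 3) := ⟨Nat.prime_three⟩
  have hP := isPGroup D hK
  have h8 := three_pow_odd_mod m
  have hq27 : 27 ≤ 3 ^ (2 * m + 1) := by
    calc 27 = 3 ^ 3 := by norm_num
      _ ≤ 3 ^ (2 * m + 1) := Nat.pow_le_pow_right (by norm_num) (by omega)
  have hcU : Nat.card (uSub D) = (3 ^ (2 * m + 1)) ^ 3 := by rw [card_uSub D, hK]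
  have hnt : Nontrivial (uSub D) := by
    rw [← Finite.one_lt_card_iff_nontrivial, hcU]
    exact Nat.one_lt_pow (by norm_num) (by omega)
  have hU1 : uSub D ≠ ⊥ := (Subgroup.nontrivial_iff_ne_bot _).1 hnt
  obtain ⟨ψ, hψ⟩ := H670.PSing.exists_linear_ne_one hP
  have hin : ∀ x : bSub D, tw R ψ x = ψ → (x : G) ∈ uSub D := fun x hx => H732.ReeLin.inertia D hK hm hψ x hx
  have ht : Nat.card (bSub D) = Nat.card (uSub D) * (3 ^ (2 * m + 1) - 1) := by
    rw [card_bSub D, card_uSub D, hK]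
  have hA : aSub D ≤ bSub D := by
    intro x hx
    exact ((hT D x).1 (aSub_le D hx)).1
  have hcA := card_aSub D hK
  have h3q : 3 ∣ 3 ^ (2 * m + 1) := dvd_pow_self 3 (by omega)
  -- the index of `U`
  have hi : ¬ 3 ∣ (uSub D).index := by
    have h1 := Subgroup.card_mul_index (uSub D)
    rw [Dl.card_G, hcU] at h1
    have h2 : (uSub D).index = (3 ^ (2 * m + 1) - 1) * ((3 ^ (2 * m + 1)) ^ 3 + 1) := by
      apply Nat.eq_of_mul_eq_mul_left (show 0 < (3 ^ (2 * m + 1)) ^ 3 by positivity)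
      rw [h1]; ring
    rw [h2]
    intro h3
    rcases Nat.prime_three.dvd_mul.1 h3 with h3 | h3
    · omega
    · have h4 : 3 ∣ (3 ^ (2 * m + 1)) ^ 3 := h3q.trans (dvd_pow_self _ (by norm_num))
      omega
  -- the cuspidal character without linear constituents
  obtain ⟨χ₁, h1, h2⟩ := exists_small R (hab D) ψ hψ hin ht (card_inv D) (by omega)
  have hall : ∀ ν : uSub D →* ℂˣ, mu (uSub D) ν χ₁ = 0 := by
    intro ν
    by_cases hν : ν = 1
    · rw [hν]; exact h1
    · obtain ⟨x, rfl⟩ := H732.ReeLin.trans D hK hm hψ hν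
      rw [mu_tw]; exact h2
  have hd3 := p_dvd hP hall
  have hdA := card_dvd R h1 (aSub D) hA (regular D hK)
  rw [hcA] at hdA
  have hcase : p = 3 ∨ p ∣ (3 ^ (2 * m + 1) - 1) / 2 ∨ p ∣ (3 ^ (2 * m + 1)) ^ 3 + 1 := by
    rcases hp.dvd_mul.1 hd with hd | hd
    · rcases hp.dvd_mul.1 hd with hd | hd
      · left
        exact (Nat.prime_dvd_prime_iff_eq hp Nat.prime_three).1 (hp.dvd_of_dvd_pow (hp.dvd_of_dvd_pow hd))
      · have h4 : 3 ^ (2 * m + 1) - 1 = 2 * ((3 ^ (2 * m + 1) - 1) / 2) := by omega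
        rw [h4] at hd
        rcases hp.dvd_mul.1 hd with hd | hd
        · right; right
          rw [(Nat.prime_dvd_prime_iff_eq hp Nat.prime_two).1 hd]
          have hodd : (3 ^ (2 * m + 1)) ^ 3 % 2 = 1 := by
            rw [Nat.pow_mod]
            have : 3 ^ (2 * m + 1) % 2 = 1 := by omega
            rw [this]
          omega
        · right; left; exact hd
    · right; right; exact hd
  rcases hcase with rfl | hpA | hpq
  · -- `p = 3`
    obtain ⟨f, hf, hf1, hfA⟩ := exists_quad D hK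
    obtain ⟨θ₁, θ₂, -, c1, c2, m1, m2, g1, g2, hsum⟩ := exists_split R (hT D) f hf ψ hψ
    have e3 := modEq_p hP m1 (by
      intro ν hν
      obtain ⟨x, rfl⟩ := H732.ReeLin.trans D hK hm hψ hν
      rw [mu_tw]; exact g1)
    rw [hcU] at hsum
    have hpos : 1 ≤ charDegree (θ₁ : G → ℂ) := Blocks.Basic.charDegree_pos θ₁.2
    have h6 : 3 ∣ (3 ^ (2 * m + 1)) ^ 3 := h3q.trans (dvd_pow_self _ (by norm_num))
    refine ⟨χ₁, θ₂, hd3, by omega, fun σ => ?_⟩
    exact not_conj_mu hP hi hall (ψ := 1) (by rw [m2]; exact one_ne_zero) σ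
  · -- cuspidal characters
    obtain ⟨χ₂, h3, h4⟩ := exists_cusp R (hab D) ψ hψ hin ht
    have hdA2 := card_dvd R h3 (aSub D) hA (regular D hK)
    rw [hcA] at hdA2
    exact ⟨χ₁, χ₂, hpA.trans hdA, hpA.trans hdA2, fun σ => not_conj_mu hP hi hall h4 σ⟩
  · -- principal series
    obtain ⟨g₀, hg₀⟩ := IsCyclic.exists_generator (α := Kˣ)
    have hor : orderOf g₀ = 3 ^ (2 * m + 1) - 1 := by
      rw [orderOf_eq_card_of_forall_mem_zpowers hg₀, Nat.card_units, Nat.card_eq_fintype_card, hK]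
    obtain ⟨f, hf⟩ := exists_faithful R (h_mem_bSub D g₀) (by
      rintro _ ⟨t, u, v, a, rfl⟩
      obtain ⟨k, hk⟩ := Subgroup.mem_zpowers_iff.1 (hg₀ a)
      refine ⟨-k, ?_⟩
      have h5 : h g₀ ^ (-k) = (h a)⁻¹ := by
        rw [RkRee.h_inv D, ← hk, ← zpow_neg]
        exact (map_zpow (MonoidHom.mk' h D.h_mul) g₀ (-k)).symm
      rw [h5]
      have h6 : (h a)⁻¹ * (U t u v * h a) = (h a)⁻¹ * U t u v * (h a)⁻¹⁻¹ := by group
      rw [h6]
      exact R.norm _ ((bSub D).inv_mem (h_mem_bSub D a)) _ ⟨t, u, v, rfl⟩)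
    refine two_ps R hP hi hU1 hf Nat.prime_two (by norm_num) ?_ (h_mem_bSub D g₀)
      (by rw [n_conj D]; exact h_mem_bSub D _) ?_ (by rw [hcU]; exact hpq)
    · rw [ht]
      exact Dvd.dvd.mul_left (by omega) _
    · have h5 : (n * h g₀ * n⁻¹ * (h g₀)⁻¹) ^ 2 = h (g₀⁻¹ ^ 4) := by
        rw [n_conj D, RkRee.h_inv D, ← D.h_mul]
        have h6 : ∀ (a : Kˣ) (k : ℕ), h a ^ k = h (a ^ k) := fun a k =>
          (map_pow (MonoidHom.mk' h D.h_mul) a k).symm
        rw [h6]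
        congr 1
        rw [← pow_two, ← pow_mul]
      rw [h5]
      apply h_not_mem D
      rw [inv_pow, inv_ne_one]
      intro h6
      have h7 := orderOf_dvd_of_pow_eq_one h6
      rw [hor] at h7
      have := Nat.le_of_dvd (by norm_num) h7
      omega

end ree

/-- **Small Ree groups.** -/
theorem two_ree (S : Type u) [Group S] [Finite S] (h : Lie.IsoRee S) (_hs : IsSimpleGroup S) {p : ℕ} (hp : p.Prime)
    (hd : p ∣ Nat.card S) : TwoOr p S := by
  left
  obtain ⟨K, _, _, m, hm, hK, ⟨e⟩⟩ := h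
  have hfin : Finite ↥(Cfsg.Lie.twistedG2 K (3 ^ m)) := Finite.of_equiv S e.toEquiv
  rw [Nat.card_congr e.toEquiv, Cfsg.Agent.LieRecognition.ReeFinal.card hK] at hd
  have D := Cfsg.Agent.LieRecognition.ReeFinal.data hK
  have hG := Cfsg.Agent.S1116.result hK hm
  exact congr e (ree_core D hm hK (H732.ReeClasses.classes D hm hK hG
    (fun x hx hx1 => Cfsg.Agent.LieRecognition.ReeTorusTw.isCyclic_centralizer hK hx hx1)) hp hd)

end Cfsg.Agent.H654.Two
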