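import Cfsg.Agent.H654.Two.Tools
import Cfsg.Agent.H678.SuzGraph
import Cfsg.Agent.H438.SzMax

/-!
# The row `Sz(q)` of `FactTwo` (helper654, task 838)
-/

set_option autoImplicit false

namespace Cfsg.Agent.H654.Two

open Cfsg Cfsg.Agent.H596.OneFacts

universe u

/-- **`Sz(q)`**: two degrees divisible by `p`. -/
theorem two_sz (S : Type u) [Group S] [Finite S] (h : Lie.IsoSuzuki S) (_hs : IsSimpleGroup S) {p : ℕ} (hp : p.Prime)
    (hd : p ∣ Nat.card S) : TwoOr p S := by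
  left
  obtain ⟨F, _, _, m, hm, hF, he⟩ := h
  have hc : Nat.card S = (2 ^ (2 * m + 1)) ^ 2 * (2 ^ (2 * m + 1) - 1) * ((2 ^ (2 * m + 1)) ^ 2 + 1) := by
    obtain ⟨e⟩ := he
    rw [Nat.card_congr e.toEquiv, H438.SzMax.card_sz hF]
  obtain ⟨k, hk⟩ : ∃ k, k = 2 ^ (m - 1) := ⟨_, rfl⟩
  have hk1 : 1 ≤ k := by rw [hk]; exact Nat.one_le_two_pow
  have hq : 2 ^ (2 * m + 1) = 8 * k ^ 2 := by
    obtain ⟨j, rfl⟩ : ∃ j, m = j + 1 := ⟨m - 1, by omega⟩
    rw [hk, Nat.add_sub_cancel, ← pow_mul]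
    ring
  obtain ⟨t, ht⟩ : ∃ t, t + 1 = 8 * k ^ 2 := ⟨8 * k ^ 2 - 1, by
    have : 1 ≤ k ^ 2 := Nat.one_le_pow _ _ (by omega)
    omega⟩
  obtain ⟨a, ha⟩ : ∃ a, a = 8 * k ^ 2 + 4 * k + 1 := ⟨_, rfl⟩
  obtain ⟨b, hb⟩ : ∃ b, b + 4 * k = 8 * k ^ 2 + 1 := ⟨8 * k ^ 2 + 1 - 4 * k, by
    have : k ≤ k ^ 2 := Nat.le_self_pow (by norm_num) _
    omega⟩
  have hmem := fun d => (H678.SuzGraph.mem_charDegrees hm hF he k t a b hk ht ha hb d).2
  have h1 := hmem _ (Or.inr (Or.inl rfl))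
  have h2 := hmem _ (Or.inr (Or.inr (Or.inl rfl)))
  have h3 := hmem _ (Or.inr (Or.inr (Or.inr (Or.inl rfl))))
  have h4 := hmem _ (Or.inr (Or.inr (Or.inr (Or.inr (Or.inl rfl)))))
  have h5 := hmem _ (Or.inr (Or.inr (Or.inr (Or.inr (Or.inr rfl)))))
  have hkk : k ≤ k ^ 2 := Nat.le_self_pow (by norm_num) _
  have hab : a * b = 64 * k ^ 4 + 1 := by
    have e1 : a * (b + 4 * k) = a * (8 * k ^ 2 + 1) := by rw [hb]
    have e2 : a * (4 * k) + (64 * k ^ 4 + 1) = a * (8 * k ^ 2 + 1) := by rw [ha]; ring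
    have e3 : a * (b + 4 * k) = a * (4 * k) + a * b := by ring
    omega
  have ht0 : 0 < t := by omega
  have hb0 : 0 < b := by omega
  have ha0 : 0 < a := by omega
  have htq : 8 * k ^ 2 - 1 = t := by omega
  rw [hc, hq, htq] at hd
  rcases hp.dvd_mul.1 hd with hd | hd
  · rcases hp.dvd_mul.1 hd with hd | hd
    · -- `p = 2`
      have hp2 : p = 2 := by
        rw [← hq] at hd
        exact (Nat.prime_dvd_prime_iff_eq hp Nat.prime_two).1 (hp.dvd_of_dvd_pow (hp.dvd_of_dvd_pow hd))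
      subst hp2
      refine of_degrees h1 h5 ⟨32 * k ^ 4, by ring⟩ ⟨t * k, by ring⟩ ?_
      intro he
      have e1 : 64 * k ^ 4 = 2 * k * (32 * k ^ 3) := by ring
      have e2 : t * (2 * k) = 2 * k * t := by ring
      rw [e1, e2] at he
      have e3 := Nat.eq_of_mul_eq_mul_left (by omega) he
      have e4 : k ^ 2 ≤ k ^ 3 := Nat.pow_le_pow_right hk1 (by norm_num)
      omega
    · refine of_degrees h3 h4 (hd.mul_right a) (hd.mul_right b) ?_
      intro he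
      have := Nat.eq_of_mul_eq_mul_left ht0 he
      omega
  · have hd' : p ∣ 64 * k ^ 4 + 1 := by
      have e1 : (8 * k ^ 2) ^ 2 + 1 = 64 * k ^ 4 + 1 := by ring
      rwa [← e1]
    rw [← hab] at hd' h2
    rcases hp.dvd_mul.1 hd' with h | h
    · refine of_degrees h2 h3 hd' (h.mul_left t) ?_
      intro he
      rw [Nat.mul_comm t a] at he
      have := Nat.eq_of_mul_eq_mul_left ha0 he
      omega
    · refine of_degrees h2 h4 hd' (h.mul_left t) ?_
      intro he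
      have := Nat.eq_of_mul_eq_mul_right hb0 he
      omega

end Cfsg.Agent.H654.Two
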