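import Cfsg.Agent.H596.OneFacts
import Cfsg.Agent.Characters.Core
import Cfsg.Prelude.Def_KGroupFacts

/-!
# Tools for `Two p S`: transport, degrees, counting (helper654, task 838)

* `Two.congr`, `TwoOr.congr` : transport along isomorphisms;
* `two_of_degrees` : two different degrees divisible by `p`;
* `two_of_card` : more than `|Out S|` irreducible characters of degree divisible by `p`.
-/

set_option autoImplicit false

namespace Cfsg.Agent.H654.Two

open Cfsg Cfsg.Agent.H596.OneFacts Cfsg.Agent.Characters.Core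

universe u v

section transport

variable {p : ℕ} {S : Type u} {T : Type v} [Group S] [Group T]

theorem charDegree_comp (e : S ≃* T) (χ : T → ℂ) : charDegree (χ ∘ e) = charDegree χ := by
  unfold charDegree
  rw [Function.comp_apply, map_one]

/-- the character transported along an isomorphism -/
def pull (e : S ≃* T) (χ : IrrCharacter T) : IrrCharacter S :=
  ⟨(χ : T → ℂ) ∘ e, isIrr_comp e.toMonoidHom e.surjective χ.2⟩

theorem pull_apply (e : S ≃* T) (χ : IrrCharacter T) (s : S) : (pull e χ : S → ℂ) s = (χ : T → ℂ) (e s) := rfl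

theorem charDegree_pull (e : S ≃* T) (χ : IrrCharacter T) :
    charDegree (pull e χ : S → ℂ) = charDegree (χ : T → ℂ) := charDegree_comp e _

theorem congr (e : S ≃* T) (h : Two p T) : Two p S := by
  obtain ⟨α, β, ha, hb, h⟩ := h
  refine ⟨pull e α, pull e β, by rwa [charDegree_pull], by rwa [charDegree_pull], fun σ => ?_⟩
  obtain ⟨t, ht⟩ := h ((e.symm.trans σ).trans e)
  refine ⟨e.symm t, ?_⟩
  rw [pull_apply, pull_apply, e.apply_symm_apply]
  exact ht

theorem congr_or (e : S ≃* T) (h : TwoOr p T) : TwoOr p S := by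
  rcases h with h | ⟨F, i1, i2, h1, h2, ⟨f⟩⟩ | ⟨h3, h | ⟨⟨f⟩⟩ | ⟨F, i1, i2, h1, ⟨f⟩⟩⟩
  · exact Or.inl (congr e h)
  · exact Or.inr (Or.inl ⟨F, i1, i2, h1, h2, ⟨e.trans f⟩⟩)
  · refine Or.inr (Or.inr ⟨h3, Or.inl ⟨?_, ?_⟩⟩)
    · have := h.1
      exact e.isSimpleGroup
    · rw [Nat.card_congr e.toEquiv]
      exact h.2
  · exact Or.inr (Or.inr ⟨h3, Or.inr (Or.inl ⟨e.trans f⟩)⟩)
  · exact Or.inr (Or.inr ⟨h3, Or.inr (Or.inr ⟨F, i1, i2, h1, ⟨e.trans f⟩⟩)⟩)

end transport

section degrees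

variable {p : ℕ} {S : Type u} [Group S]

theorem of_degrees {m n : ℕ} (hm : m ∈ charDegrees S) (hn : n ∈ charDegrees S) (h1 : p ∣ m) (h2 : p ∣ n)
    (h : m ≠ n) : Two p S := by
  obtain ⟨α, rfl⟩ := hm
  obtain ⟨β, rfl⟩ := hn
  exact two_of_degree_ne α β h1 h2 h

/-- **Counting.** -/
theorem of_card [Finite S] (X : Set (IrrCharacter S)) (hX : ∀ χ ∈ X, p ∣ charDegree (χ : S → ℂ))
    (hc : Nat.card (Out S) < Nat.card X) : Two p S := by
  classical
  by_contra hno
  have hne : X.Nonempty := by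
    by_contra h0
    rw [Set.not_nonempty_iff_eq_empty] at h0
    subst h0
    simp at hc
  obtain ⟨α, hα⟩ := hne
  have key : ∀ β ∈ X, ∃ σ : MulAut S, ∀ s, (α : S → ℂ) (σ s) = (β : S → ℂ) s := by
    intro β hβ
    by_contra h
    push Not at h
    exact hno ⟨α, β, hX α hα, hX β hβ, h⟩
  choose f hf using key
  have hinj : Function.Injective (fun β : X => (QuotientGroup.mk (f β.1 β.2) : Out S)) := by
    rintro ⟨β, hβ⟩ ⟨γ, hγ⟩ h
    have h1 : (f β hβ)⁻¹ * f γ hγ ∈ Inn S := QuotientGroup.eq.1 h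
    obtain ⟨x, hx⟩ := h1
    have h2 : f γ hγ = f β hβ * MulAut.conj x := by rw [hx]; group
    apply Subtype.ext
    apply Subtype.ext
    funext s
    rw [← hf β hβ s, ← hf γ hγ s, h2, MulAut.mul_apply, MulAut.conj_apply, map_mul, map_mul, map_inv]
    exact ((isIrr_isClassFunction α.2) (f β hβ s) (f β hβ x)).symm
  exact absurd (Nat.card_le_card_of_injective _ hinj) (not_le.2 hc)

end degrees

end Cfsg.Agent.H654.Two
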