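import Cfsg.Agent.H654.Two.PsPair
import Cfsg.Agent.H664.R1.U3IM

/-!
# `PSU(3,q)`: tools for `FactTwo` (helper654, task 838)

* `data_of_split`, `hab_of_split` : rank one data from a split BN pair;
* `mu_of_noFix` : a character without fixed vectors for the root group has no linear constituents on `U`;
* `ph` : the torus, `inertia`, `regular`.
-/

set_option autoImplicit false

namespace Cfsg.Agent.H654.Two

open Cfsg Cfsg.Agent.Characters.Core Cfsg.Agent.H596.OneFacts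
open Cfsg.Agent.LieRecognition.RankOneAbstract Cfsg.Agent.H732.RankOneGG Cfsg.Agent.H664.R1
  Cfsg.Agent.H664.R1.U3

section split

variable {G : Type*} [Group G] (D : Split G)

theorem data_of_split : Data D.B D.U D.w where
  w_not_mem := D.wB
  le := D.UB
  norm := D.nU
  bruhat := by
    intro g hg
    obtain ⟨b, hb, c, hc, h⟩ := D.big g hg
    obtain ⟨u, hu, t, ht, rfl⟩ := D.dec b hb
    refine ⟨u, hu, ?_⟩
    have h1 : (u * D.w)⁻¹ * g = (D.w⁻¹ * t * D.w) * c := by rw [h]; group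
    rw [h1]
    exact D.B.mul_mem (D.TB (D.wT t ht)) hc
  inter := fun s hs h => D.disj s hs (D.cap s (D.UB hs) h)

theorem hab_of_split : ∀ h ∈ D.B, ∀ k ∈ D.B, ∃ u ∈ D.U, h * k = k * h * u := by
  intro h hh k hk
  obtain ⟨u, hu, s, hs, rfl⟩ := D.dec h hh
  obtain ⟨v, hv, t, ht, rfl⟩ := D.dec k hk
  refine ⟨(t * s)⁻¹ * ((v * (t * u * t⁻¹))⁻¹ * (u * (s * v * s⁻¹))) * (t * s), ?_, ?_⟩
  · exact D.nU' (D.B.mul_mem (D.TB ht) (D.TB hs)) (D.U.mul_mem (D.U.inv_mem (D.U.mul_mem hv (D.nU _ (D.TB ht) _ hu)))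
      (D.U.mul_mem hu (D.nU _ (D.TB hs) _ hv)))
  · have hst : s * t = t * s := D.comm s hs t ht
    calc u * s * (v * t) = u * (s * v * s⁻¹) * (s * t) := by group
      _ = u * (s * v * s⁻¹) * (t * s) := by rw [hst]
      _ = _ := by group

theorem mu_of_noFix [Finite G] [Fintype D.U] {X : Subgroup G} (hX : X ≤ D.U)
    (hlin : ∀ f : D.U →* ℂˣ, ∀ x : D.U, (x : G) ∈ X → f x = 1) {χ : IrrCharacter G}
    (h : NoFix X (χ : G → ℂ)) (ν : D.U →* ℂˣ) : mu D.U ν χ = 0 := by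
  classical
  by_contra h0
  have := Fintype.ofFinite G
  have := Fintype.ofFinite (X.subgroupOf D.U)
  have h1 := mu_spec D.U ν χ
  have h2 : classInner (fun u : D.U => (χ : G → ℂ) u) (fun u : D.U => (ν u : ℂ)) ≠ 0 := by
    rw [← classInner_conj_symm, h1]
    simpa using h0
  have h3 := (h.res D.U hX).constituent (isCharacter_comp D.U.subtype (isIrr_isCharacter χ.2))
    (Characters.Linear.isIrrCharacter_hom ν) h2
  rw [noFix_iff] at h3
  have h4 : ∀ x : X.subgroupOf D.U, ((ν (x : D.U) : ℂˣ) : ℂ) = 1 := by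
    intro x
    rw [hlin ν x (Subgroup.mem_subgroupOf.1 x.2), Units.val_one]
  rw [Finset.sum_congr rfl fun x _ => h4 x, Finset.sum_const, Finset.card_univ, nsmul_eq_mul,
    mul_one, ← Nat.card_eq_fintype_card] at h3
  exact card_ne_zero_complex h3

end split

section torus

variable {F : Type*} [Field F] {σ : F →+* F} [hσ : Fact (∀ x, σ (σ x) = x)]

theorem dg_congr {t s t' s' : F} (ht : t ≠ 0) (hs : s * σ s = 1) (ht' : t' ≠ 0) (hs' : s' * σ s' = 1) (h1 : t = t')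
    (h2 : s = s') : dg t s ht hs = dg t' s' ht' hs' := by
  subst h1 h2; rfl

/-- the torus of `PSU(3,q)` -/
noncomputable def ph (σ : F →+* F) [hσ : Fact (∀ x, σ (σ x) = x)] : Fˣ →* S σ where
  toFun t := ⟨pr σ (dg (t : F) (σ t / t) t.ne_zero (dgS_rel t.ne_zero)), _, dgS_mem _ _ _, rfl⟩
  map_one' := by
    apply Subtype.ext
    show pr σ _ = 1
    rw [← map_one (pr σ)]
    congr 1
    apply mat_inj
    rw [mat_dg, mat_one]
    ext i j
    fin_cases i <;> fin_cases j <;> simp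
  map_mul' s t := by
    apply Subtype.ext
    show pr σ _ = pr σ _ * pr σ _
    rw [← map_mul, dg_mul]
    congr 1
    apply dg_congr
    · simp
    · have h1 := s.ne_zero
      have h2 := t.ne_zero
      simp only [Units.val_mul, map_mul]
      field_simp

theorem ph_coe (t : Fˣ) : ((ph σ t : S σ) : PG σ) = pr σ (dg (t : F) (σ t / t) t.ne_zero (dgS_rel t.ne_zero)) := rfl

theorem ph_mem_T (t : Fˣ) : ph σ t ∈ (spS σ).T := ⟨_, dg_mem _ _ _ _, rfl⟩

theorem exists_ph {x : S σ} (hx : x ∈ (spS σ).T) : ∃ t : Fˣ, x = ph σ t := by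
  obtain ⟨x, hxS⟩ := x
  have hxS' : x ∈ (SUs σ).map (pr σ) := hxS
  obtain ⟨k, hk, hkx⟩ := hxS'
  have hx' : x ∈ (To σ).map (pr σ) := hx
  obtain ⟨g, hg, hgx⟩ := hx'
  have h1 : g⁻¹ * k ∈ Sc σ := QuotientGroup.eq.1 (hgx.trans hkx.symm)
  have hkT : k ∈ To σ := by
    have h2 : k = g * (g⁻¹ * k) := by group
    rw [h2]
    exact (To σ).mul_mem hg (Sc_le h1)
  obtain ⟨t, s, ht, hs, rfl⟩ := exists_dg hkT
  have hσt : σ t ≠ 0 := (map_ne_zero σ).2 ht
  have h3 : s = σ t / t := by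
    have h4 : (mat σ (dg t s ht hs)).det = 1 := hk
    rw [mat_dg, Matrix.det_fin_three] at h4
    simp at h4
    field_simp at h4
    field_simp
    linear_combination h4
  refine ⟨Units.mk0 t ht, ?_⟩
  apply Subtype.ext
  rw [ph_coe]
  show x = _
  rw [← hkx]
  congr 1
  exact dg_congr _ _ _ _ rfl h3

theorem ph_eq_one {t : Fˣ} (h : ph σ t = 1) : (t : F) ^ 2 = σ t ∧ (σ t) ^ 2 = (t : F) := by
  have h1 : pr σ (dg (t : F) (σ t / t) t.ne_zero (dgS_rel t.ne_zero)) = 1 := congrArg Subtype.val h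
  have h2 : dg (t : F) (σ t / t) t.ne_zero (dgS_rel t.ne_zero) ∈ Sc σ := (QuotientGroup.eq_one_iff _).1 h1
  have ht := t.ne_zero
  have hσt : σ (t : F) ≠ 0 := (map_ne_zero σ).2 ht
  obtain ⟨-, h3, h4⟩ := h2
  rw [mat_dg] at h3 h4
  have h3' : (t : F) = σ t / t := h3
  have h4' : σ (t : F) / t = (σ t)⁻¹ := h4
  constructor
  · rw [eq_div_iff ht] at h3'
    linear_combination h3'
  · rw [div_eq_iff ht, inv_mul_eq_div, eq_div_iff hσt] at h4'
    linear_combination h4'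

theorem ph_one_of_sq {t : Fˣ} (h : (t : F) ^ 2 = σ t) : ph σ t = 1 := by
  have ht := t.ne_zero
  have hσt : σ (t : F) ≠ 0 := (map_ne_zero σ).2 ht
  have h2 : (σ t) ^ 2 = (t : F) := by
    have := congrArg σ h
    rw [hσ.out, map_pow] at this
    exact this
  apply Subtype.ext
  rw [ph_coe]
  refine (QuotientGroup.eq_one_iff _).2 ⟨dg_mem _ _ _ _, ?_, ?_⟩
  · rw [mat_dg]
    show (t : F) = σ t / t
    rw [eq_div_iff ht]
    linear_combination h
  · rw [mat_dg]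
    show σ (t : F) / t = (σ t)⁻¹
    rw [div_eq_iff ht, inv_mul_eq_div, eq_div_iff hσt]
    linear_combination h2

/-- the Weyl element inverts and twists the torus -/
theorem w_ph (t : Fˣ) : (spS σ).w⁻¹ * ph σ t * (spS σ).w = ph σ (Units.map (σ : F →* F) t)⁻¹ := by
  apply Subtype.ext
  have h0 : σ (t : F) ≠ 0 := (map_ne_zero σ).2 t.ne_zero
  refine (w_conj_S (t : F) (σ t / t) t.ne_zero (dgS_rel t.ne_zero) (ph σ t).2).trans ?_
  rw [ph_coe]
  congr 1
  apply dg_congr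
  · simp
  · simp [hσ.out]
    field_simp

theorem w_inv : (spS σ).w⁻¹ = (spS σ).w := by
  rw [inv_eq_iff_mul_eq_one]
  apply Subtype.ext
  show pr σ (wel' σ) * pr σ (wel' σ) = 1
  rw [← map_mul, ← map_one (pr σ)]
  congr 1
  apply mat_inj
  rw [mat_mul, mat_wel', mat_one]
  ext i j
  fin_cases i <;> fin_cases j <;> simp [Matrix.mul_apply, Fin.sum_univ_three]

theorem exists_unS {x : S σ} (hx : x ∈ (spS σ).U) :
    ∃ (a b : F) (h : b + σ b + a * σ a = 0), (x : PG σ) = pr σ (un a b h) := by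
  obtain ⟨x, hxS⟩ := x
  have hx' : x ∈ (Un σ).map (pr σ) := hx
  obtain ⟨u, hu, rfl⟩ := hx'
  obtain ⟨a, b, h, rfl⟩ := exists_un hu
  exact ⟨a, b, h, rfl⟩

theorem pr_inj {u v : GUJ σ} (hu : u ∈ Un σ) (hv : v ∈ Un σ) (h : pr σ u = pr σ v) : u = v := by
  have h1 : u⁻¹ * v ∈ Sc σ := QuotientGroup.eq.1 h
  have h2 := (split' σ).disj _ ((Un σ).mul_mem ((Un σ).inv_mem hu) hv) (Sc_le h1)
  rw [inv_mul_eq_one] at h2
  exact h2

theorem un_inj {a b a' b' : F} {h : b + σ b + a * σ a = 0} {h' : b' + σ b' + a' * σ a' = 0}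
    (he : un a b h = un a' b' h') : a = a' ∧ b = b' := by
  have h1 := congrArg (mat σ) he
  rw [mat_un, mat_un] at h1
  constructor
  · have := congrFun (congrFun h1 0) 1
    simpa using this
  · have := congrFun (congrFun h1 0) 2
    simpa using this

theorem ph_conj (t : Fˣ) {a b : F} (h : b + σ b + a * σ a = 0) {u : S σ} (hu : (u : PG σ) = pr σ (un a b h)) :
    ∃ h', ((ph σ t * u * (ph σ t)⁻¹ : S σ) : PG σ) = pr σ (un ((t : F) * σ (σ t / t) * a) ((t : F) * σ t * b) h') := by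
  refine ⟨conj_rel (dgS_rel t.ne_zero) h, ?_⟩
  rw [← dg_conj_un (t : F) (σ t / t) t.ne_zero (dgS_rel t.ne_zero) a b h]
  show ((ph σ t : S σ) : PG σ) * (u : PG σ) * ((ph σ t : S σ) : PG σ)⁻¹ = _
  rw [hu, ph_coe, ← map_inv, ← map_mul, ← map_mul]

end torus

section finite

variable {F : Type*} [Field F] [Fintype F] {q : ℕ} {σ : F →+* F} [hσ : Fact (∀ x, σ (σ x) = x)]

omit [Fintype F] in
theorem weight (t : Fˣ) : (t : F) * σ (σ t / t) = (t : F) ^ 2 / σ t := by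
  have ht := t.ne_zero
  have h0 : σ (t : F) ≠ 0 := (map_ne_zero σ).2 ht
  rw [map_div₀, hσ.out]
  field_simp

omit [Fintype F] in
theorem mem_Ze_of {A B C : GUJ σ} (hA : A ∈ Un σ) (hB : B ∈ Un σ) (hC : C ∈ Un σ)
    (h : mat σ A 0 1 - mat σ B 0 1 = mat σ C 0 1) : (A * B⁻¹)⁻¹ * C ∈ Ze σ := by
  refine ⟨(Un σ).mul_mem ((Un σ).inv_mem ((Un σ).mul_mem hA ((Un σ).inv_mem hB))) hC, ?_⟩
  have h1 : coord σ ((⟨A, hA⟩ * ⟨B, hB⟩⁻¹)⁻¹ * ⟨C, hC⟩) = 1 := by
    rw [map_mul, map_inv, map_mul, map_inv, coord_apply, coord_apply, coord_apply]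
    apply Multiplicative.toAdd.injective
    show -(mat σ A 0 1 + -mat σ B 0 1) + mat σ C 0 1 = 0
    linear_combination -h
  exact congrArg Multiplicative.toAdd h1

/-- **The torus acts freely on the nontrivial linear characters of `U`.** -/
theorem inertia (hF : Fintype.card F = q ^ 2) (hs : ∀ x, σ x = x ^ q) {ψ : (spS σ).U →* ℂˣ} (hψ : ψ ≠ 1)
    (x : (spS σ).B) (hx : tw (data_of_split (spS σ)) ψ x = ψ) : (x : S σ) ∈ (spS σ).U := by
  obtain ⟨u, hu, t, ht, hxe⟩ := (spS σ).dec x x.2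
  obtain ⟨τ, rfl⟩ := exists_ph ht
  by_cases h1 : ph σ τ = 1
  · rw [hxe, h1, mul_one]; exact hu
  exfalso
  apply hψ
  set c : F := (τ : F) * σ (σ τ / τ) with hc
  have hc1 : c ≠ 1 := by
    intro h
    rw [hc, weight] at h
    apply h1
    apply ph_one_of_sq
    rwa [div_eq_one_iff_eq ((map_ne_zero σ).2 τ.ne_zero)] at h
  have hB : ph σ τ ∈ (spS σ).B := (spS σ).TB ht
  -- invariance under the torus element
  have hinv : ∀ (v : (spS σ).U) (h : ph σ τ * (v : S σ) * (ph σ τ)⁻¹ ∈ (spS σ).U), ψ ⟨_, h⟩ = ψ v := by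
    intro v h
    have h2 := DFunLike.congr_fun hx (⟨u, hu⟩ * ⟨_, h⟩ * ⟨u, hu⟩⁻¹)
    have h3 : tw (data_of_split (spS σ)) ψ x (⟨u, hu⟩ * ⟨_, h⟩ * ⟨u, hu⟩⁻¹) = ψ v := by
      show ψ _ = ψ v
      congr 1
      apply Subtype.ext
      show (x : S σ)⁻¹ * (u * (ph σ τ * (v : S σ) * (ph σ τ)⁻¹) * u⁻¹) * x = v
      rw [hxe]; group
    rw [h3, map_mul, map_mul, map_inv] at h2
    rw [h2, mul_comm (ψ ⟨u, hu⟩), mul_inv_cancel_right]
  ext1 v
  obtain ⟨a, b, hab, hv⟩ := exists_unS v.2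
  obtain ⟨b₁, hb₁⟩ := exists_snd (σ := σ) hF hs (a / (c - 1))
  have hu₁ : pr σ (un (a / (c - 1)) b₁ hb₁) ∈ S σ := U_le_S ⟨_, un_mem _ _ _, rfl⟩
  set z : (spS σ).U := ⟨⟨_, hu₁⟩, ⟨_, un_mem _ _ _, rfl⟩⟩ with hz
  obtain ⟨h', hzc⟩ := ph_conj τ hb₁ (u := (z : S σ)) rfl
  have hzU : ph σ τ * (z : S σ) * (ph σ τ)⁻¹ ∈ (spS σ).U := (spS σ).nU _ hB _ z.2
  have h4 := hinv z hzU
  -- the element of the root group
  have hX : ((((⟨_, hzU⟩ : (spS σ).U) * z⁻¹)⁻¹ * v : (spS σ).U) : S σ) ∈ XS σ := by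
    have h5 : ((((((⟨_, hzU⟩ : (spS σ).U) * z⁻¹)⁻¹ * v : (spS σ).U) : S σ)) : PG σ) =
        pr σ ((un _ _ h' * (un _ _ hb₁)⁻¹)⁻¹ * un a b hab) := by
      rw [map_mul, map_inv, map_mul, map_inv, ← hzc, ← hv]
      rfl
    show ((((((⟨_, hzU⟩ : (spS σ).U) * z⁻¹)⁻¹ * v : (spS σ).U) : S σ)) : PG σ) ∈ (Ze σ).map (pr σ)
    rw [h5]
    refine ⟨_, mem_Ze_of (un_mem _ _ _) (un_mem _ _ _) (un_mem _ _ _) ?_, rfl⟩
    rw [mat_un, mat_un, mat_un]
    show (τ : F) * σ (σ τ / τ) * (a / (c - 1)) - a / (c - 1) = a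
    rw [← hc]
    have h6 : c - 1 ≠ 0 := sub_ne_zero.2 hc1
    field_simp
  have h6 := hlin hF hs ψ _ hX
  rw [map_mul, map_inv, map_mul, map_inv, h4, mul_inv_cancel, inv_one, one_mul] at h6
  rw [h6, MonoidHom.one_apply]

omit [Fintype F] in
/-- fixed point free elements of the torus -/
theorem regular {t : Fˣ} (h1 : (t : F) ^ 2 ≠ σ t) (h2 : (t : F) * σ t ≠ 1) {u : S σ} (hu : u ∈ (spS σ).U)
    (h : ph σ t * u = u * ph σ t) : u = 1 := by
  obtain ⟨a, b, hab, huv⟩ := exists_unS hu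
  obtain ⟨h', hc⟩ := ph_conj t hab huv
  have e : ph σ t * u * (ph σ t)⁻¹ = u := by rw [h]; group
  rw [e, huv] at hc
  obtain ⟨e1, e2⟩ := un_inj (pr_inj (un_mem _ _ _) (un_mem _ _ _) hc)
  rw [weight] at e1
  have h0 : σ (t : F) ≠ 0 := (map_ne_zero σ).2 t.ne_zero
  have ha : a = 0 := by
    by_contra ha
    apply h1
    field_simp at e1
    exact e1.symm
  have hb : b = 0 := by
    by_contra hb
    apply h2
    have h3 : ((t : F) * σ t - 1) * b = 0 := by linear_combination -e2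
    rcases mul_eq_zero.1 h3 with h4 | h4
    · exact sub_eq_zero.1 h4
    · exact absurd h4 hb
  subst ha hb
  apply Subtype.ext
  rw [huv]
  show _ = 1
  rw [← map_one (pr σ)]
  congr 1
  apply mat_inj
  rw [mat_un, mat_one]
  ext i j
  fin_cases i <;> fin_cases j <;> simp

end finite

end Cfsg.Agent.H654.Two
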