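import Cfsg.Agent.H654.Two.U3Core
import Cfsg.Agent.H424.U33Degrees
import Cfsg.Agent.LieClassical.FieldTransfer
import Cfsg.Agent.H761.LieExt

/-!
# The row `PSU(3,q)` of `FactTwo` (helper654, task 838)
-/

set_option autoImplicit false

namespace Cfsg.Agent.H654.Two

open Cfsg Cfsg.Agent.Characters.Core Cfsg.Agent.H596.OneFacts Cfsg.Agent.LieClassical.HermBasic
open Cfsg.Agent.LieRecognition.RankOneAbstract Cfsg.Agent.H732.RankOneGG Cfsg.Agent.H664.R1
  Cfsg.Agent.H664.R1.U3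

universe u

section finite

variable {F : Type*} [Field F] [Fintype F] {q : ℕ} {σ : F →+* F} [hσ : Fact (∀ x, σ (σ x) = x)]

theorem isP_U (hF : Fintype.card F = q ^ 2) (hs : ∀ x, σ x = x ^ q) {r k : ℕ} (hqr : q = r ^ k) :
    IsPGroup r (spS σ).U :=
  IsPGroup.of_card (n := 3 * k) (by rw [card_US hF hs, hqr]; ring)

theorem index_U (hF : Fintype.card F = q ^ 2) (hs : ∀ x, σ x = x ^ q) {r k : ℕ} (hr : r.Prime) (hk : k ≠ 0)
    (hqr : q = r ^ k) : ¬ r ∣ (spS σ).U.index := by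
  have : Finite (PG σ) := inferInstance
  have hrq : r ∣ q := hqr ▸ dvd_pow_self r hk
  have hq0 : 0 < q := by rw [hqr]; exact pow_pos hr.pos k
  have h1 := Subgroup.card_mul_index (spS σ).U
  rw [(spS σ).card_G, (spS σ).card_B, card_US hF hs] at h1
  have h2 : (spS σ).U.index = (q ^ 3 + 1) * Nat.card (spS σ).T := by
    apply Nat.eq_of_mul_eq_mul_left (show 0 < q ^ 3 by positivity)
    rw [h1]; ring
  rw [h2]
  intro h3
  have hone : ¬ r ∣ 1 := hr.one_lt.ne' ∘ Nat.dvd_one.1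
  rcases hr.dvd_mul.1 h3 with h4 | h4
  · exact hone ((Nat.dvd_add_right (hrq.trans (dvd_pow_self q (by norm_num)))).1 h4)
  · have h5 := h4.trans (card_TS hF hs)
    have h6 : r ∣ q ^ 2 := hrq.trans (dvd_pow_self q (by norm_num))
    have h7 : 1 ≤ q ^ 2 := Nat.one_le_pow _ _ hq0
    have h8 := Nat.dvd_sub h6 h5
    have h9 : q ^ 2 - (q ^ 2 - 1) = 1 := by omega
    rw [h9] at h8
    exact hone h8

theorem U_ne_bot (hF : Fintype.card F = q ^ 2) (hq : 3 ≤ q) (hs : ∀ x, σ x = x ^ q) : (spS σ).U ≠ ⊥ := by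
  intro h
  have h1 := card_US (σ := σ) hF hs
  rw [h, Subgroup.card_bot] at h1
  have h2 : 1 < q ^ 3 := Nat.one_lt_pow (by norm_num) (by omega)
  omega

theorem card_units' (hF : Fintype.card F = q ^ 2) : Nat.card Fˣ = (q - 1) * (q + 1) := by
  rw [Nat.card_units, Nat.card_eq_fintype_card, hF]
  have := Nat.sq_sub_sq q 1
  rw [one_pow] at this
  rw [this, mul_comm]

omit [Fintype F] hσ in
theorem map_eq_pow (hs : ∀ x, σ x = x ^ q) (t : Fˣ) : Units.map (σ : F →* F) t = t ^ q := by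
  apply Units.ext
  rw [Units.coe_map, Units.val_pow_eq_pow_val]
  exact hs _

omit [Fintype F] in
/-- elements of the fixed field -/
theorem one_of_fixed {t : Fˣ} (ht : σ (t : F) = t) (h : ph σ t = 1) : t = 1 := by
  have h1 := (ph_eq_one h).1
  rw [ht, pow_two] at h1
  apply Units.ext
  exact mul_left_cancel₀ t.ne_zero (h1.trans (mul_one _).symm)

omit [Fintype F] hσ in
theorem fixed_of_pow (hs : ∀ x, σ x = x ^ q) {t : Fˣ} (h : t ^ q = t) : σ (t : F) = t := by
  rw [hs, ← Units.val_pow_eq_pow_val, h]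

/-- **Principal series.** -/
theorem u3_ps (hF : Fintype.card F = q ^ 2) (hq : 4 ≤ q) (hs : ∀ x, σ x = x ^ q) {r k : ℕ} (hr : r.Prime)
    (hk : k ≠ 0) (hqr : q = r ^ k) {p : ℕ} (hp : p ∣ q ^ 3 + 1) : Two p (S σ) := by
  have : Finite (PG σ) := inferInstance
  have : Fact r.Prime := ⟨hr⟩
  have D := data_of_split (spS σ)
  obtain ⟨γ, hγ⟩ := IsCyclic.exists_generator (α := Fˣ)
  have hor : orderOf γ = (q - 1) * (q + 1) := by
    rw [orderOf_eq_card_of_forall_mem_zpowers hγ, card_units' hF]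
  have hB : ∀ t, ph σ t ∈ (spS σ).B := fun t => (spS σ).TB (ph_mem_T t)
  obtain ⟨f, hf⟩ := exists_faithful D (hB γ) (by
    intro y hy
    obtain ⟨u, hu, t, ht, rfl⟩ := (spS σ).dec y hy
    obtain ⟨τ, rfl⟩ := exists_ph ht
    obtain ⟨j, rfl⟩ := Subgroup.mem_zpowers_iff.1 (hγ τ)
    refine ⟨-j, ?_⟩
    have h1 : ph σ γ ^ (-j) * (u * ph σ (γ ^ j)) = ph σ (γ ^ j)⁻¹ * u * (ph σ (γ ^ j)⁻¹)⁻¹ := by
      rw [← map_zpow, zpow_neg, map_inv, inv_inv, mul_assoc]
    rw [h1]
    exact (spS σ).nU _ (hB _) _ hu)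
  -- the prime
  set ε : Fˣ := γ ^ (q - 1) with hε
  have hoε : orderOf ε = q + 1 := by
    rw [hε, orderOf_pow' γ (by omega), hor, Nat.gcd_eq_right (dvd_mul_right _ _)]
    exact Nat.mul_div_cancel_left _ (by omega)
  have hε1 : ph σ ε ≠ 1 := by
    intro h
    obtain ⟨h1, h2⟩ := ph_eq_one h
    have h3 : ε ^ 3 = 1 := by
      apply Units.ext
      rw [Units.val_pow_eq_pow_val, Units.val_one]
      apply mul_left_cancel₀ ε.ne_zero
      rw [mul_one]
      have e1 : ((ε : Fˣ) : F) * ((ε : Fˣ) : F) ^ 3 = (((ε : Fˣ) : F) ^ 2) ^ 2 := by ring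
      rw [e1, h1, h2]
    have h4 := orderOf_dvd_of_pow_eq_one h3
    rw [hoε] at h4
    have := Nat.le_of_dvd (by norm_num) h4
    omega
  have ho1 : orderOf (ph σ ε) ≠ 1 := by rwa [Ne, orderOf_eq_one_iff]
  obtain ⟨l, hl, hlo⟩ := Nat.exists_prime_and_dvd ho1
  have hlq : l ∣ q + 1 := by
    refine hlo.trans ?_
    rw [← hoε]
    exact orderOf_map_dvd _ _
  have hlB : l ∣ Nat.card (spS σ).B := by
    refine hlo.trans ?_
    have h1 : orderOf (⟨_, hB ε⟩ : (spS σ).B) = orderOf (ph σ ε) := Subgroup.orderOf_mk _ _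
    rw [← h1]
    exact orderOf_dvd_natCard _
  have hlr : l ≠ r := by
    rintro rfl
    have h1 : l ∣ q := hqr ▸ dvd_pow_self l hk
    exact hl.one_lt.ne' (Nat.dvd_one.1 ((Nat.dvd_add_right h1).1 hlq))
  -- the twisted element
  have hw : (spS σ).w * ph σ γ * (spS σ).w⁻¹ = ph σ (γ ^ q)⁻¹ := by
    have h1 := w_ph (σ := σ) γ
    rw [w_inv] at h1
    rw [w_inv, h1, map_eq_pow hs]
  refine two_ps D (isP_U hF hs hqr) (index_U hF hs hr hk hqr) (U_ne_bot hF (by omega) hs) hf hl hlr hlB (hB γ)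
    (by rw [hw]; exact hB _) ?_ (by rw [card_US hF hs]; exact hp)
  have h1 : ((spS σ).w * ph σ γ * (spS σ).w⁻¹ * (ph σ γ)⁻¹) ^ l = ph σ ((γ ^ ((q + 1) * l))⁻¹) := by
    rw [hw, ← map_inv, ← map_mul, ← map_pow]
    congr 1
    rw [pow_mul, ← _root_.inv_pow (γ ^ (q + 1)) l, pow_succ, mul_inv]
  rw [h1]
  intro h2
  have h3 : ph σ ((γ ^ ((q + 1) * l))⁻¹) = 1 := (spS σ).disj _ h2 (ph_mem_T _)
  rw [map_inv, inv_eq_one] at h3
  have h4 : γ ^ ((q + 1) * l) = 1 := by
    apply one_of_fixed (σ := σ) _ h3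
    apply fixed_of_pow hs
    obtain ⟨m, rfl⟩ := Nat.exists_eq_add_of_le (show 1 ≤ q by omega)
    rw [add_comm 1 m, pow_succ (γ ^ _) m, ← pow_mul]
    have h5 : (m + 1 + 1) * l * m = (m * (m + 1 + 1)) * l := by ring
    rw [h5, pow_mul]
    have h6 : γ ^ (m * (m + 1 + 1)) = 1 := by
      rw [← orderOf_dvd_iff_pow_eq_one, hor]
      have h7 : (1 + m - 1) * (1 + m + 1) = m * (m + 1 + 1) := by
        rw [Nat.add_sub_cancel_left]; ring
      rw [h7]
    rw [h6, one_pow, one_mul]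
  have h5 := orderOf_dvd_of_pow_eq_one h4
  rw [hor, mul_comm (q - 1)] at h5
  have h6 : q - 1 ∣ l := Nat.dvd_of_mul_dvd_mul_left (by omega) h5
  have h7 : q - 1 ∣ 2 := by
    have h8 := h6.trans hlq
    have h9 : q + 1 = (q - 1) + 2 := by omega
    rw [h9] at h8
    exact (Nat.dvd_add_right dvd_rfl).1 h8
  have := Nat.le_of_dvd (by norm_num) h7
  omega

/-- **Cuspidal characters.** -/
theorem u3_cusp (hF : Fintype.card F = q ^ 2) (hq : 3 ≤ q) (hs : ∀ x, σ x = x ^ q) {r k : ℕ} (hr : r.Prime)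
    (hk : k ≠ 0) (hqr : q = r ^ k) {p : ℕ} (hp : p.Prime) (hp2 : p ≠ 2) (hd : p ∣ q - 1) : Two p (S σ) := by
  classical
  have : Finite (PG σ) := inferInstance
  have := Fintype.ofFinite (PG σ)
  have := Fintype.ofFinite (S σ)
  have := Fintype.ofFinite (spS σ).U
  have := Fintype.ofFinite (spS σ).B
  have : Finite (IrrCharacter (S σ)) := Characters.Core.finite_irr
  have := Fintype.ofFinite (IrrCharacter (S σ))
  have : Fact r.Prime := ⟨hr⟩
  have : Fact p.Prime := ⟨hp⟩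
  have D := data_of_split (spS σ)
  have hP := isP_U (σ := σ) hF hs hqr
  have hi := index_U (σ := σ) hF hs hr hk hqr
  have hU1 := U_ne_bot (σ := σ) hF hq hs
  have hnt : Nontrivial (spS σ).U := (Subgroup.nontrivial_iff_ne_bot _).2 hU1
  obtain ⟨ψ, hψ⟩ := H670.PSing.exists_linear_ne_one hP
  -- the character without linear constituents
  obtain ⟨χ, hχ⟩ := exists_noFix (σ := σ) hF hq hs
  obtain ⟨η, hη⟩ := hχ.exists_res χ.2 (S σ) X_le_S
  have hη' : NoFix (XS σ) (η : S σ → ℂ) := hη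
  have hall : ∀ ν : (spS σ).U →* ℂˣ, mu (spS σ).U ν η = 0 :=
    mu_of_noFix (spS σ) XS_le (hlin hF hs) hη'
  have h1 : q - 1 ∣ charDegree (η : S σ → ℂ) := by
    have := hη'.dvd_degree η.2 (fused hF hs) (Cfsg.Agent.Blocks.Basic.irr_one_eq_charDegree η.2)
    rwa [card_XS hF hs] at this
  -- the cuspidal character
  obtain ⟨χ₂, h3, h4⟩ := exists_cusp D (hab_of_split (spS σ)) ψ hψ (inertia hF hs hψ) (spS σ).card_B
  -- the torus element
  obtain ⟨t, ht⟩ := exists_prime_orderOf_dvd_card' (G := Fˣ) p (by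
    rw [card_units' hF]
    exact hd.mul_right _)
  have htq : ∀ j : ℤ, (t ^ j) ^ q = t ^ j := by
    have h5 : t ^ (q - 1) = 1 := by
      rw [← orderOf_dvd_iff_pow_eq_one, ht]; exact hd
    have h6 : t ^ q = t := by
      have e : q = (q - 1) + 1 := by omega
      rw [e, pow_succ, h5, one_mul]
    intro j
    have h7 : (t ^ j) ^ q = (t ^ q) ^ j := by
      rw [← zpow_natCast, ← zpow_natCast, ← zpow_mul, ← zpow_mul, mul_comm]
    rw [h7, h6]
  have hne : ph σ t ≠ 1 := by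
    intro h
    have h5 := one_of_fixed (fixed_of_pow hs (by simpa using htq 1)) h
    rw [h5, orderOf_one] at ht
    exact hp.one_lt.ne ht
  have hcA : Nat.card (Subgroup.zpowers (ph σ t)) = p := by
    rw [Nat.card_zpowers]
    refine orderOf_eq_prime ?_ hne
    rw [← map_pow, ← ht, pow_orderOf_eq_one, map_one]
  have h5 : p ∣ charDegree (χ₂ : S σ → ℂ) := by
    have h6 := Cfsg.Agent.H732.RankOneGG.card_dvd D h3 (Subgroup.zpowers (ph σ t)) (by
        rw [Subgroup.zpowers_le]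
        exact (spS σ).TB (ph_mem_T t)) (by
      intro x hx hx1 u hu hxu
      obtain ⟨j, rfl⟩ := Subgroup.mem_zpowers_iff.1 hx
      rw [← map_zpow] at hx1 hxu
      have hfix := fixed_of_pow (σ := σ) hs (htq j)
      have hj1 : t ^ j ≠ 1 := by
        intro h; rw [h, map_one] at hx1; exact hx1 rfl
      refine regular ?_ ?_ hu hxu
      · rw [hfix, pow_two]
        intro h
        apply hj1
        apply Units.ext
        exact mul_left_cancel₀ (t ^ j).ne_zero (h.trans (mul_one _).symm)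
      · rw [hfix]
        intro h
        have h7 : (t ^ j) ^ 2 = 1 := by
          apply Units.ext
          rw [pow_two]
          exact h
        have h8 : (t ^ j) ^ p = 1 := by
          rw [← zpow_natCast, ← zpow_mul, mul_comm, zpow_mul, zpow_natCast, ← ht, pow_orderOf_eq_one, one_zpow]
        have h9 := orderOf_dvd_of_pow_eq_one h7
        have h10 := orderOf_dvd_of_pow_eq_one h8
        have h11 : orderOf (t ^ j) ∣ Nat.gcd 2 p := Nat.dvd_gcd h9 h10
        rw [(Nat.coprime_primes Nat.prime_two hp).2 (Ne.symm hp2), Nat.dvd_one, orderOf_eq_one_iff] at h11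
        exact hj1 h11)
    rwa [hcA] at h6
  exact ⟨η, χ₂, hd.trans h1, h5, fun τ => not_conj_mu hP hi hall h4 τ⟩

end finite

/-- **`PSU(3,q)`, `q ≥ 3`, all primes.** -/
theorem two_psu_three (S : Type u) [Group S] [Finite S] [IsSimpleGroup S] (hna : ¬ IsMulCommutative S)
    {F : Type} [Field F] [Fintype F] {q : ℕ} (hF : Fintype.card F = q ^ 2) (hq : 3 ≤ q) (e : S ≃* Cfsg.PSU 3 F q)
    {p : ℕ} (hp : p.Prime) (hd : p ∣ Nat.card S) : Two p S := by
  obtain ⟨r, k, hr, hchar, hqr, hk⟩ := exists_prime_pow hF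
  obtain ⟨h28, hdeg⟩ := U3.degrees hF hq e
  obtain ⟨n, hn, hn1⟩ := hdeg hr hqr
  obtain ⟨σ, hσ, hs, ⟨e'⟩⟩ := exists_iso hF
  have hd' := hd
  rw [Nat.card_congr (e.trans e').toEquiv] at hd'
  replace hd' := hd'.trans (card_S (σ := σ) hF hs)
  have hq1 : ∀ m : ℕ, (q - 1) ∣ m → ∀ j, m ≠ r ^ j := by
    rintro m h1 j rfl
    obtain ⟨i, -, hi⟩ := (Nat.dvd_prime_pow hr).1 h1
    have h2 : r ∣ q := hqr ▸ dvd_pow_self r hk.ne'
    rcases Nat.eq_zero_or_pos i with rfl | h0
    · rw [pow_zero] at hi; omega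
    · have h3 : r ∣ q - 1 := hi ▸ dvd_pow_self r h0.ne'
      have h4 := Nat.dvd_sub h2 h3
      have h5 : q - (q - 1) = 1 := by omega
      rw [h5] at h4
      exact hr.one_lt.ne' (Nat.dvd_one.1 h4)
  have hcase : p = r ∨ p ∣ q ^ 3 + 1 ∨ (p ≠ 2 ∧ p ∣ q - 1) := by
    have hqq : ∀ {m : ℕ}, p ∣ q ^ m → p = r := by
      intro m h
      have h2 := hp.dvd_of_dvd_pow h
      rw [hqr] at h2
      exact (Nat.prime_dvd_prime_iff_eq hp hr).1 (hp.dvd_of_dvd_pow h2)
    rcases hp.dvd_mul.1 hd' with h | h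
    · exact Or.inr (Or.inl h)
    rcases hp.dvd_mul.1 h with h | h
    · exact Or.inl (hqq h)
    · have h2 : q ^ 2 - 1 = (q + 1) * (q - 1) := by
        have := Nat.sq_sub_sq q 1
        simpa using this
      rw [h2] at h
      rcases hp.dvd_mul.1 h with h | h
      · right; left
        refine h.trans ⟨q ^ 2 - q + 1, ?_⟩
        have h3 : q ≤ q ^ 2 := by nlinarith
        zify [h3]
        ring
      · by_cases hp2 : p = 2
        · right; left
          subst hp2
          have h3 : q % 2 = 1 := by omega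
          have h4 : q ^ 3 % 2 = 1 := by rw [Nat.pow_mod, h3]
          omega
        · exact Or.inr (Or.inr ⟨hp2, h⟩)
  rcases hcase with rfl | h | ⟨hp2, h⟩
  · -- the characteristic
    have : Fact p.Prime := ⟨hp⟩
    obtain ⟨θ, hθ, -⟩ := H761.LieExt.lie_ext (p := p) (S := S) hna
      (Or.inr (Or.inr (Or.inl ⟨F, _, _, hchar, 3, q, hF, le_rfl, fun h => by omega, ⟨e⟩⟩)))
    refine of_degrees ⟨θ, rfl⟩ hn ?_ ((Dvd.intro _ rfl).trans hn1) ?_
    · rw [hθ]
      refine dvd_pow_self p ?_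
      rw [Nat.factorization_def _ hp]
      have h0 : Nat.card S ≠ 0 := Nat.card_pos.ne'
      have h1 := one_le_padicValNat_of_dvd h0 hd
      omega
    · intro h
      exact hq1 n ((dvd_mul_left _ _).trans hn1) _ (h.symm.trans hθ)
  · rcases Nat.lt_or_ge q 4 with h4 | h4
    · obtain rfl : q = 3 := by omega
      have hp' : p = 2 ∨ p = 7 := by
        have h5 : p ∣ 2 * 2 * 7 := by simpa using h
        rcases hp.dvd_mul.1 h5 with h6 | h6
        · left
          rcases hp.dvd_mul.1 h6 with h7 | h7 <;> exact (Nat.prime_dvd_prime_iff_eq hp Nat.prime_two).1 h7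
        · right; exact (Nat.prime_dvd_prime_iff_eq hp (by norm_num)).1 h6
      rcases hp' with rfl | rfl
      · refine of_degrees h28 hn (by norm_num) ((dvd_mul_left _ _).trans hn1) ?_
        rintro rfl
        have h5 : r ∣ 3 := hqr ▸ dvd_pow_self r hk.ne'
        have h6 : r = 3 := (Nat.prime_dvd_prime_iff_eq hr Nat.prime_three).1 h5
        rw [h6] at hn1
        revert hn1
        decide
      · obtain ⟨d, hd21, h21⟩ := H424.U33Degrees.twentyone
        have h9 : Fintype.card F = 9 := by rw [hF]; norm_num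
        have f : F ≃+* Cfsg.Agent.Classification.RTwo.UThreeThree.K9 :=
          FiniteField.ringEquivOfCardEq
            (h9.trans Cfsg.Agent.Classification.RTwo.UThreeThree.card_k9.symm)
        have g : S ≃* Cfsg.SU 3 Cfsg.Agent.Classification.RTwo.UThreeThree.K9 3 :=
          (e.trans (Cfsg.Agent.LieClassical.FieldTransfer.psuCongr 3 3 f)).trans
            (Cfsg.Agent.Classification.RTwo.UThreeThree.psuEquiv
              Cfsg.Agent.Classification.RTwo.UThreeThree.card_k9)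
        refine of_degrees h28 (PSLTwo.mem_of_equiv g hd21) (by norm_num) ((dvd_mul_left _ _).trans h21) ?_
        rintro rfl
        revert h21
        decide
    · exact congr (e.trans e') (u3_ps hF h4 hs hr hk.ne' hqr h)
  · exact congr (e.trans e') (u3_cusp hF hq hs hr hk.ne' hqr hp hp2 h)

/-- **The row `PSU(3,q)`.** -/
theorem two_psu3 (S : Type u) [Group S] [Finite S] (hs : IsSimpleGroup S)
    {F : Type} [Field F] [Fintype F] {q : ℕ} (hF : Fintype.card F = q ^ 2) (hq : q ≠ 2) (e : S ≃* Cfsg.PSU 3 F q)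
    {p : ℕ} (hp : p.Prime) (hd : p ∣ Nat.card S) : TwoOr p S := by
  have h1 : 1 < Fintype.card F := Fintype.one_lt_card
  have hq3 : 3 ≤ q := by
    by_contra h
    have h2 : q = 0 ∨ q = 1 := by omega
    rcases h2 with rfl | rfl
    · rw [hF] at h1; norm_num at h1
    · rw [hF] at h1; norm_num at h1
  refine Or.inl (two_psu_three S (fun hc => ?_) hF hq3 e hp hd)
  obtain ⟨χ, hχ⟩ := (U3.degrees hF hq3 e).1
  obtain ⟨ω, hω⟩ := OddOrderCharacters.PrimeTI.exists_hom_of_comm hc χ.2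
  have h2 : charDegree (χ : S → ℂ) = 1 := by
    apply H670.PSing.charDegree_eq_of
    rw [hω]
    show ((ω 1 : ℂˣ) : ℂ) = _
    rw [map_one, Units.val_one, Nat.cast_one]
  rw [h2] at hχ
  have h3 : 0 < q ^ 3 := by positivity
  omega

end Cfsg.Agent.H654.Two
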